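import Cfsg.Agent.Lib.Helper81.Contrib
import Cfsg.Agent.Lib.Helper82.Codegree

set_option autoImplicit false
set_option linter.unusedSectionVars false
open Cfsg
open scoped ComplexConjugate
open Cfsg.Agent.Lib.Helper20

namespace Cfsg.Agent.Lib.Helper81

section Heights

variable {G : Type*} [Group G] [Fintype G] {p : ℕ} {M : Ideal AlgInt}

/-- the exponent of `p` in the degree -/
noncomputable def nuDeg (p : ℕ) (χ : IrrCharacter G) : ℕ := (charDegree (χ : G → ℂ)).factorization p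

/-- the least exponent of `p` in the degrees of the members of `B` -/
noncomputable def minDeg (p : ℕ) (B : Set (IrrCharacter G)) : ℕ :=
  sInf ((fun χ : IrrCharacter G => (charDegree (χ : G → ℂ)).factorization p) '' B)

theorem irr_one_eq (χ : IrrCharacter G) : (χ : G → ℂ) 1 = (charDegree (χ : G → ℂ) : ℂ) :=
  Cfsg.Agent.Lib.Helper82.isChar_one_eq (isCharacter_of_isIrrCharacter χ.2)

theorem charDegree_ne_zero (χ : IrrCharacter G) : charDegree (χ : G → ℂ) ≠ 0 :=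
  (Cfsg.Agent.Lib.Helper82.isIrr_charDegree_pos χ.2).ne'

theorem minDeg_le {B : Set (IrrCharacter G)} {χ : IrrCharacter G} (hχ : χ ∈ B) :
    minDeg p B ≤ nuDeg p χ := Nat.sInf_le ⟨χ, hχ, rfl⟩

theorem exists_minDeg {B : Set (IrrCharacter G)} (hne : B.Nonempty) :
    ∃ χ ∈ B, nuDeg p χ = minDeg p B := by
  have h1 : ((fun χ : IrrCharacter G => (charDegree (χ : G → ℂ)).factorization p) '' B).Nonempty :=
    hne.image _
  obtain ⟨χ₀, hχ₀, h2⟩ := Nat.sInf_mem h1
  exact ⟨χ₀, hχ₀, h2⟩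

theorem nuDeg_le_card (χ : IrrCharacter G) : nuDeg p χ ≤ (Nat.card G).factorization p := by
  by_cases hp : p.Prime
  · exact (Nat.factorization_le_iff_dvd (charDegree_ne_zero χ) Nat.card_pos.ne').2
      (Cfsg.Agent.Lib.Helper82.isIrr_charDegree_dvd_card χ.2) p
  · simp [nuDeg, Nat.factorization_eq_zero_of_not_prime _ hp]

theorem blockHeight_add {B : Set (IrrCharacter G)} {χ : IrrCharacter G} (hχ : χ ∈ B) :
    blockHeight p B (χ : G → ℂ) + minDeg p B = nuDeg p χ :=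
  Nat.sub_add_cancel (minDeg_le hχ)

theorem blockDefect_add {B : Set (IrrCharacter G)} (hne : B.Nonempty) :
    blockDefect p B + minDeg p B = (Nat.card G).factorization p := by
  obtain ⟨χ, _, h⟩ := exists_minDeg (p := p) hne
  have h2 : minDeg p B ≤ (Nat.card G).factorization p := h ▸ nuDeg_le_card χ
  exact Nat.sub_add_cancel h2

theorem blockHeight_eq_zero_iff {B : Set (IrrCharacter G)} {χ : IrrCharacter G} (hχ : χ ∈ B) :
    blockHeight p B (χ : G → ℂ) = 0 ↔ nuDeg p χ = minDeg p B := by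
  have := blockHeight_add (p := p) hχ
  omega

/-- **Theorem H.**  If `χ ∈ B` has height zero then `(|G|/ψ(1)) m_{ψχ}` is a unit for all
`ψ ∈ B`. -/
theorem Sm_unit_of_height_zero (hM : IsPModular p M) {B : Set (IrrCharacter G)} (hB : IsPBlock M B)
    {χ ψ : IrrCharacter G} (hχ : χ ∈ B) (hψ : ψ ∈ B) (h0 : blockHeight p B (χ : G → ℂ) = 0) :
    ¬ MemLocalIdeal M (Sm p (ψ : G → ℂ) (χ : G → ℂ)) := by
  obtain ⟨ψ₀, hψ₀, hunit⟩ := exists_Sm_unit hM hB hχ
  have h10 := irr_one_ne_zero χ.2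
  have h1 : Sm p (χ : G → ℂ) (ψ₀ : G → ℂ)
      = (ψ₀ : G → ℂ) 1 / (χ : G → ℂ) 1 * Sm p (ψ₀ : G → ℂ) (χ : G → ℂ) := by
    have := Sm_symm (p := p) χ ψ₀
    field_simp
    rw [mul_comm]; exact this
  have h2 : MemLocalRing M ((ψ₀ : G → ℂ) 1 / (χ : G → ℂ) 1) := by
    rw [irr_one_eq, irr_one_eq]
    apply memLocalRing_natCast_div hM (charDegree_ne_zero _) (charDegree_ne_zero _)
    have e1 := (blockHeight_eq_zero_iff (p := p) hχ).1 h0
    have e2 := minDeg_le (p := p) hψ₀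
    simp only [nuDeg] at e1 e2
    omega
  have h3 : ¬ MemLocalIdeal M (Sm p (ψ₀ : G → ℂ) (χ : G → ℂ)) := by
    intro h
    apply hunit
    rw [h1]
    exact memLocalIdeal_mul_left hM h2 h
  exact not_memLocalIdeal_of_sub hM
    (Sm_sub_memLocalIdeal hM (isPBlock_sameBlock hM hB hψ hψ₀) χ) h3

/-- If `χ ∈ B` has positive height then `(|G|/ψ(1)) m_{ψχ}` is a non-unit for all `ψ ∈ B`. -/
theorem Sm_memLocalIdeal_of_height_pos (hM : IsPModular p M) {B : Set (IrrCharacter G)}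
    (hB : IsPBlock M B) {χ ψ : IrrCharacter G} (hχ : χ ∈ B) (hψ : ψ ∈ B)
    (h0 : blockHeight p B (χ : G → ℂ) ≠ 0) :
    MemLocalIdeal M (Sm p (ψ : G → ℂ) (χ : G → ℂ)) := by
  obtain ⟨χ₀, hχ₀, hmin⟩ := exists_minDeg (p := p) (isPBlock_nonempty hM hB)
  have h10 := irr_one_ne_zero χ₀.2
  have h1 : Sm p (χ₀ : G → ℂ) (χ : G → ℂ)
      = (χ : G → ℂ) 1 / (χ₀ : G → ℂ) 1 * Sm p (χ : G → ℂ) (χ₀ : G → ℂ) := by
    have := Sm_symm (p := p) χ₀ χ
    field_simp
    rw [mul_comm]; exact this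
  have h2 : MemLocalIdeal M ((χ : G → ℂ) 1 / (χ₀ : G → ℂ) 1) := by
    rw [irr_one_eq, irr_one_eq]
    apply memLocalIdeal_natCast_div hM (charDegree_ne_zero _) (charDegree_ne_zero _)
    have e1 := blockHeight_add (p := p) hχ
    simp only [nuDeg] at e1 hmin
    omega
  have h3 : MemLocalIdeal M (Sm p (χ₀ : G → ℂ) (χ : G → ℂ)) := by
    rw [h1]
    exact memLocalIdeal_mul_right hM h2 (Sm_memLocalRing hM _ _)
  have h4 := Sm_sub_memLocalIdeal hM (isPBlock_sameBlock hM hB hψ hχ₀) χ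
  have := memLocalIdeal_add hM h4 h3
  rwa [sub_add_cancel] at this

end Heights

end Cfsg.Agent.Lib.Helper81
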