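import Cfsg.Agent.Lib.Helper81.BlockRank
import Cfsg.Agent.Lib.Helper21.AvgChar

set_option autoImplicit false
set_option linter.unusedSectionVars false
open Cfsg
open scoped ComplexConjugate
open Cfsg.Agent.Lib.Helper20

namespace Cfsg.Agent.Lib.Helper81

section NatDiv

variable {p : ℕ} {M : Ideal AlgInt}

theorem natCast_div_eq (hp : p.Prime) {a b : ℕ} (_ha : a ≠ 0) (hb : b ≠ 0)
    (h : b.factorization p ≤ a.factorization p) :
    (a : ℂ) / b = (p : ℂ) ^ (a.factorization p - b.factorization p) *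
      ((a / p ^ a.factorization p : ℕ) : ℂ) / ((b / p ^ b.factorization p : ℕ) : ℂ) := by
  have h1 := Nat.ordProj_mul_ordCompl_eq_self a p
  have h2 := Nat.ordProj_mul_ordCompl_eq_self b p
  have hp0 : (p : ℂ) ≠ 0 := by exact_mod_cast hp.ne_zero
  have hb' : ((b / p ^ b.factorization p : ℕ) : ℂ) ≠ 0 := by
    intro h0
    have : b / p ^ b.factorization p = 0 := by exact_mod_cast h0
    rw [this, mul_zero] at h2
    exact hb h2.symm
  have hbC : (b : ℂ) ≠ 0 := by exact_mod_cast hb
  rw [div_eq_div_iff hbC hb']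
  have e1 : (a : ℂ) = (p : ℂ) ^ a.factorization p * ((a / p ^ a.factorization p : ℕ) : ℂ) := by
    exact_mod_cast h1.symm
  have e2 : (b : ℂ) = (p : ℂ) ^ b.factorization p * ((b / p ^ b.factorization p : ℕ) : ℂ) := by
    exact_mod_cast h2.symm
  have e3 : (p : ℂ) ^ a.factorization p
      = (p : ℂ) ^ (a.factorization p - b.factorization p) * (p : ℂ) ^ b.factorization p := by
    rw [← pow_add, Nat.sub_add_cancel h]
  conv_lhs => rw [e1, e3]
  conv_rhs => rw [e2]
  ring

theorem not_memLocalIdeal_ordCompl (hM : IsPModular p M) {b : ℕ} (hb : b ≠ 0) :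
    ¬ MemLocalIdeal M ((b / p ^ b.factorization p : ℕ) : ℂ) := by
  rw [memLocalIdeal_natCast_iff hM]
  exact Nat.not_dvd_ordCompl hM.1 hb

theorem memLocalRing_natCast_div (hM : IsPModular p M) {a b : ℕ} (ha : a ≠ 0) (hb : b ≠ 0)
    (h : b.factorization p ≤ a.factorization p) : MemLocalRing M ((a : ℂ) / b) := by
  rw [natCast_div_eq hM.1 ha hb h]
  apply memLocalRing_div hM _ (memLocalRing_natCast hM _) (not_memLocalIdeal_ordCompl hM hb)
  exact memLocalRing_mul hM (memLocalRing_pow hM (memLocalRing_natCast hM p) _)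
    (memLocalRing_natCast hM _)

theorem memLocalIdeal_natCast_div (hM : IsPModular p M) {a b : ℕ} (ha : a ≠ 0) (hb : b ≠ 0)
    (h : b.factorization p < a.factorization p) : MemLocalIdeal M ((a : ℂ) / b) := by
  rw [natCast_div_eq hM.1 ha hb h.le]
  apply memLocalIdeal_div hM _ (memLocalRing_natCast hM _) (not_memLocalIdeal_ordCompl hM hb)
  apply memLocalIdeal_mul_right hM _ (memLocalRing_natCast hM _)
  rw [memLocalIdeal_pow_iff hM (memLocalRing_natCast hM p) (by omega)]
  exact memLocalIdeal_p hM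

theorem memLocalRing_natCast_div_iff (hM : IsPModular p M) {a b : ℕ} (ha : a ≠ 0) (hb : b ≠ 0) :
    MemLocalRing M ((a : ℂ) / b) ↔ b.factorization p ≤ a.factorization p := by
  constructor
  · intro h
    by_contra hlt
    push Not at hlt
    have h1 := memLocalIdeal_natCast_div hM hb ha hlt
    have h2 := memLocalIdeal_mul_left hM h h1
    have haC : (a : ℂ) ≠ 0 := by exact_mod_cast ha
    have hbC : (b : ℂ) ≠ 0 := by exact_mod_cast hb
    have : (a : ℂ) / b * ((b : ℂ) / a) = 1 := by field_simp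
    rw [this] at h2
    exact not_memLocalIdeal_one hM h2
  · exact memLocalRing_natCast_div hM ha hb

theorem memLocalIdeal_natCast_div_iff (hM : IsPModular p M) {a b : ℕ} (ha : a ≠ 0) (hb : b ≠ 0) :
    MemLocalIdeal M ((a : ℂ) / b) ↔ b.factorization p < a.factorization p := by
  constructor
  · intro h
    by_contra hle
    push Not at hle
    have h1 := memLocalRing_natCast_div hM hb ha hle
    have h2 := memLocalIdeal_mul_left hM h1 h
    have haC : (a : ℂ) ≠ 0 := by exact_mod_cast ha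
    have hbC : (b : ℂ) ≠ 0 := by exact_mod_cast hb
    have : (b : ℂ) / a * ((a : ℂ) / b) = 1 := by field_simp
    rw [this] at h2
    exact not_memLocalIdeal_one hM h2
  · exact memLocalIdeal_natCast_div hM ha hb

end NatDiv

section Contrib

variable {G : Type*} [Group G] [Fintype G] {p : ℕ} {M : Ideal AlgInt}

/-- contribution numbers `m_{χψ} = ⟨χ°, ψ⟩` -/
noncomputable def mC (p : ℕ) (χ ψ : G → ℂ) : ℂ := classInner (pRegularPart p χ) ψ

/-- the class function `g ↦ ψ°(g⁻¹)` -/
noncomputable def wfun (p : ℕ) (ψ : G → ℂ) : G → ℂ := fun g => pRegularPart p ψ g⁻¹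

/-- `S(χ,ψ) = ω_χ(∑ ψ°(g⁻¹) g) = (|G|/χ(1)) m_{χψ}` -/
noncomputable def Sm (p : ℕ) (χ ψ : G → ℂ) : ℂ := omega χ (wfun p ψ)

theorem isPRegular_conj_iff (g t : G) : IsPRegular p (t * g * t⁻¹) ↔ IsPRegular p g := by
  have : orderOf (t * g * t⁻¹) = orderOf g := by
    have := orderOf_injective (MulAut.conj t).toMonoidHom (MulAut.conj t).injective g
    simpa using this
  simp only [IsPRegular, this]

theorem isPRegular_inv_iff (g : G) : IsPRegular p g⁻¹ ↔ IsPRegular p g := by
  simp [IsPRegular]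

theorem pRegularPart_classFunction {ψ : G → ℂ} (hψ : IsClassFunction G ψ) :
    IsClassFunction G (pRegularPart p ψ) := by
  classical
  intro g t
  simp only [pRegularPart_eq, isPRegular_conj_iff, hψ g t]

theorem wfun_classFunction {ψ : G → ℂ} (hψ : IsClassFunction G ψ) :
    IsClassFunction G (wfun p ψ) := by
  intro g t
  simp only [wfun]
  rw [← pRegularPart_classFunction hψ g⁻¹ t]
  congr 1; group

theorem wfun_memLocalRing (hM : IsPModular p M) (ψ : IrrCharacter G) (g : G) :
    MemLocalRing M (wfun p (ψ : G → ℂ) g) := by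
  classical
  simp only [wfun, pRegularPart_eq]
  split_ifs
  · exact memLocalRing_of_isIntegral hM
      (isCharacter_isIntegral (isCharacter_of_isIrrCharacter ψ.2) _)
  · exact memLocalRing_zero hM

theorem Sm_eq (χ ψ : IrrCharacter G) :
    Sm p (χ : G → ℂ) (ψ : G → ℂ) = (Nat.card G : ℂ) / (χ : G → ℂ) 1 * mC p (χ : G → ℂ) (ψ : G → ℂ) := by
  classical
  have hG : (Nat.card G : ℂ) ≠ 0 := card_ne_zero_complex
  have h10 := irr_one_ne_zero χ.2
  simp only [Sm, mC, omega, classInner, wfun, pRegularPart_eq, isPRegular_inv_iff]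
  rw [Finset.mul_sum, Finset.mul_sum]
  apply Finset.sum_congr rfl; intro g _
  split_ifs
  · rw [isCharacter_inv (isCharacter_of_isIrrCharacter ψ.2)]
    field_simp
  · simp

theorem mC_symm (χ ψ : IrrCharacter G) :
    mC p (χ : G → ℂ) (ψ : G → ℂ) = mC p (ψ : G → ℂ) (χ : G → ℂ) := by
  classical
  simp only [mC, classInner, pRegularPart_eq]
  congr 1
  rw [← Equiv.sum_comp (Equiv.inv G)]
  apply Finset.sum_congr rfl; intro g _
  simp only [Equiv.inv_apply, isPRegular_inv_iff]
  split_ifs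
  · rw [isCharacter_inv (isCharacter_of_isIrrCharacter χ.2),
      isCharacter_inv (isCharacter_of_isIrrCharacter ψ.2), Complex.conj_conj, mul_comm]
  · simp

theorem Sm_symm (χ ψ : IrrCharacter G) :
    (χ : G → ℂ) 1 * Sm p (χ : G → ℂ) (ψ : G → ℂ) = (ψ : G → ℂ) 1 * Sm p (ψ : G → ℂ) (χ : G → ℂ) := by
  have h1 := irr_one_ne_zero χ.2
  have h2 := irr_one_ne_zero ψ.2
  rw [Sm_eq, Sm_eq, mC_symm χ ψ]
  field_simp

theorem Sm_memLocalRing (hM : IsPModular p M) (χ ψ : IrrCharacter G) :
    MemLocalRing M (Sm p (χ : G → ℂ) (ψ : G → ℂ)) :=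
  omega_memLocalRing hM χ (wfun_classFunction (irr_classFunction ψ)) (wfun_memLocalRing hM ψ)

theorem Sm_sub_memLocalIdeal (hM : IsPModular p M) {χ χ' : IrrCharacter G}
    (h : SameBlock M (χ : G → ℂ) (χ' : G → ℂ)) (ψ : IrrCharacter G) :
    MemLocalIdeal M (Sm p (χ : G → ℂ) (ψ : G → ℂ) - Sm p (χ' : G → ℂ) (ψ : G → ℂ)) :=
  omega_sub_memLocalIdeal hM h (wfun_classFunction (irr_classFunction ψ)) (wfun_memLocalRing hM ψ)

theorem mC_eq_zero (hM : IsPModular p M) {χ ψ : IrrCharacter G}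
    (h : ¬ SameBlock M (χ : G → ℂ) (ψ : G → ℂ)) : mC p (χ : G → ℂ) (ψ : G → ℂ) = 0 :=
  classInner_pRegularPart_eq_zero hM h

theorem pRegularPart_eq_sum_mC [Fintype (IrrCharacter G)] (χ : IrrCharacter G) :
    pRegularPart p (χ : G → ℂ) = ∑ ψ : IrrCharacter G, mC p (χ : G → ℂ) (ψ : G → ℂ) • (ψ : G → ℂ) :=
  eq_sum_classInner_smul (pRegularPart_classFunction (irr_classFunction χ))

/-- a class function vanishing on the `p`-singular elements, summed over a `p`-subgroup -/
theorem sum_pGroup_pRegularPart (hp : p.Prime) (P : Subgroup G) [Fintype P] (hP : IsPGroup p P)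
    (θ : G → ℂ) : ∑ x : P, pRegularPart p θ (x : G) = θ 1 := by
  classical
  rw [Finset.sum_eq_single (1 : P)]
  · rw [pRegularPart_eq]
    have : IsPRegular p (1 : G) := by
      simp only [IsPRegular, orderOf_one, Nat.dvd_one]
      exact hp.one_lt.ne'
    simp only [Subgroup.coe_one, if_pos this]
  · intro x _ hx
    rw [pRegularPart_eq]
    have : ¬ IsPRegular p (x : G) := by
      intro hreg
      apply hx
      obtain ⟨k, hk⟩ := hP x
      have h1 : orderOf x ∣ p ^ k := orderOf_dvd_of_pow_eq_one hk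
      obtain ⟨j, -, hj⟩ := (Nat.dvd_prime_pow hp).1 h1
      rw [IsPRegular, Subgroup.orderOf_coe, hj] at hreg
      cases j with
      | zero => rwa [pow_zero, orderOf_eq_one_iff] at hj
      | succ j => exact absurd (dvd_pow_self p (Nat.succ_ne_zero j)) hreg
    simp only [if_neg this]
  · intro h; exact absurd (Finset.mem_univ _) h

/-- Some `S(χ,ψ)`, `ψ ∈ B`, is a unit. -/
theorem exists_Sm_unit (hM : IsPModular p M) {B : Set (IrrCharacter G)} (hB : IsPBlock M B)
    {χ : IrrCharacter G} (hχ : χ ∈ B) :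
    ∃ ψ ∈ B, ¬ MemLocalIdeal M (Sm p (χ : G → ℂ) (ψ : G → ℂ)) := by
  classical
  have : Finite (IrrCharacter G) := finite_irrCharacter
  have : Fintype (IrrCharacter G) := Fintype.ofFinite _
  have : Fact p.Prime := ⟨hM.1⟩
  by_contra hcon
  push Not at hcon
  obtain ⟨P⟩ : Nonempty (Sylow p G) := inferInstance
  have hPc : (Nat.card (P : Subgroup G) : ℂ) ≠ 0 := by exact_mod_cast Nat.card_pos.ne'
  have h10 := irr_one_ne_zero χ.2
  have h1 := sum_pGroup_pRegularPart hM.1 (P : Subgroup G) P.2 (χ : G → ℂ)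
  rw [pRegularPart_eq_sum_mC] at h1
  simp only [Finset.sum_apply, Pi.smul_apply, smul_eq_mul] at h1
  rw [Finset.sum_comm] at h1
  have h2 : ((P : Subgroup G).index : ℂ) = ∑ ψ : IrrCharacter G, Sm p (χ : G → ℂ) (ψ : G → ℂ) *
      ((Nat.card (P : Subgroup G) : ℂ)⁻¹ * ∑ u : (P : Subgroup G), (ψ : G → ℂ) ((u : G) * 1)) := by
    have e1 : ((P : Subgroup G).index : ℂ)
        = (Nat.card G : ℂ) / (χ : G → ℂ) 1 * (Nat.card (P : Subgroup G) : ℂ)⁻¹ *
          ∑ y : IrrCharacter G, ∑ x : (P : Subgroup G),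
            mC p (χ : G → ℂ) (y : G → ℂ) * (y : G → ℂ) (x : G) := by
      rw [h1, ← Subgroup.card_mul_index (P : Subgroup G)]
      push_cast
      field_simp
    rw [e1, Finset.mul_sum]
    apply Finset.sum_congr rfl; intro ψ _
    rw [Sm_eq, ← Finset.mul_sum]
    simp only [mul_one]
    ring
  have h3 : MemLocalIdeal M ((P : Subgroup G).index : ℂ) := by
    rw [h2]
    apply memLocalIdeal_sum hM
    intro ψ _
    have hint : MemLocalRing M ((Nat.card (P : Subgroup G) : ℂ)⁻¹ *
        ∑ u : (P : Subgroup G), (ψ : G → ℂ) ((u : G) * 1)) :=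
      memLocalRing_of_isIntegral hM (Cfsg.Agent.Lib.Helper21.isIntegral_avg_char
        (isCharacter_of_isIrrCharacter ψ.2) (P : Subgroup G) 1 (fun u _ => by simp))
    by_cases hψ : ψ ∈ B
    · exact memLocalIdeal_mul_right hM (hcon ψ hψ) hint
    · have : ¬ SameBlock M (χ : G → ℂ) (ψ : G → ℂ) := by
        intro hs
        apply hψ
        rw [isPBlock_eq_blockOf hM hB hχ]
        exact hs
      rw [Sm_eq, mC_eq_zero hM this, mul_zero, zero_mul]
      exact memLocalIdeal_zero hM
  rw [memLocalIdeal_natCast_iff hM] at h3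
  exact P.not_dvd_index h3

end Contrib

end Cfsg.Agent.Lib.Helper81
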