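import Cfsg.Agent.Lib.Helper81.PosHeight
import Cfsg.Agent.Lib.Helper81.BlockRank

set_option autoImplicit false
set_option linter.unusedSectionVars false
open Cfsg
open scoped ComplexConjugate
open Cfsg.Agent.Lib.Helper20

namespace Cfsg.Agent.Lib.Helper81

section RS

variable {G : Type*} [Group G] [Fintype G] {p : ℕ} {M : Ideal AlgInt}

open Classical in
/-- `l(B) = ∑_{χ ∈ B} m_{χχ}` -/
theorem blockRank_eq_sum_mC (hM : IsPModular p M) (B : Set (IrrCharacter G)) (hB : IsPBlock M B)
    [Fintype (IrrCharacter G)] :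
    (blockRank p B : ℂ) = ∑ χ : IrrCharacter G,
      (if χ ∈ B then mC p (χ : G → ℂ) (χ : G → ℂ) else 0) := by
  have hG : (Nat.card G : ℂ) ≠ 0 := card_ne_zero_complex
  have h1 := card_mul_blockRank hM B hB
  apply mul_left_cancel₀ hG
  rw [h1]
  simp only [finsum_mem_irr]
  rw [Finset.sum_comm, Finset.mul_sum]
  apply Finset.sum_congr rfl; intro χ _
  split_ifs with hχ
  · simp only [mC, classInner]
    rw [← mul_assoc, mul_inv_cancel₀ hG, one_mul]
    apply Finset.sum_congr rfl; intro x _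
    rw [isCharacter_inv (isCharacter_of_isIrrCharacter χ.2)]
  · simp

open Classical in
/-- `p ^ d l(B) = ∑_{χ ∈ B} p ^ d m_{χχ}` in integers -/
theorem pow_mul_blockRank (hM : IsPModular p M) (B : Set (IrrCharacter G)) (hB : IsPBlock M B)
    [Fintype (IrrCharacter G)] :
    (p : ℤ) ^ blockDefect p B * (blockRank p B : ℤ) = ∑ χ : IrrCharacter G,
      (if χ ∈ B then kC p B χ χ else 0) := by
  have h : (((p : ℤ) ^ blockDefect p B * (blockRank p B : ℤ) : ℤ) : ℂ)
      = ((∑ χ : IrrCharacter G, (if χ ∈ B then kC p B χ χ else 0) : ℤ) : ℂ) := by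
    push_cast
    rw [blockRank_eq_sum_mC hM B hB, Finset.mul_sum]
    apply Finset.sum_congr rfl; intro χ _
    split_ifs with hχ
    · rw [kC_spec hM χ hχ]
    · simp
  exact_mod_cast h

open Classical in
theorem kC_self_le (hM : IsPModular p M) {B : Set (IrrCharacter G)} (hB : IsPBlock M B)
    {χ : IrrCharacter G} (hχ : χ ∈ B) :
    0 ≤ kC p B χ χ ∧ kC p B χ χ ≤ (p : ℤ) ^ blockDefect p B := by
  have : Finite (Cfsg.IrrCharacter G) := finite_irrCharacter
  have : Fintype (Cfsg.IrrCharacter G) := Fintype.ofFinite _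
  have h1 := sum_kC_sq hM hB hχ
  rw [← Finset.add_sum_erase Finset.univ _ (Finset.mem_univ χ), if_pos hχ] at h1
  have h2 : 0 ≤ ∑ x ∈ Finset.univ.erase χ, (if x ∈ B then kC p B χ x ^ 2 else 0) := by
    apply Finset.sum_nonneg; intro x _
    split_ifs
    · positivity
    · exact le_refl _
  have hq : (0 : ℤ) < (p : ℤ) ^ blockDefect p B := pow_pos (by exact_mod_cast hM.1.pos) _
  constructor
  · by_contra hcon
    push Not at hcon
    nlinarith [sq_nonneg (kC p B χ χ)]
  · by_contra hcon
    push Not at hcon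
    nlinarith

/-- if `m_{χχ} = 1` for a height zero character then the defect is zero. -/
theorem defect_zero_of_kC_self (hM : IsPModular p M) {B : Set (IrrCharacter G)} (hB : IsPBlock M B)
    {χ : IrrCharacter G} (hχ : χ ∈ B) (h0 : blockHeight p B (χ : G → ℂ) = 0)
    (h : kC p B χ χ = (p : ℤ) ^ blockDefect p B) : blockDefect p B = 0 := by
  obtain ⟨_, h2⟩ := nC_of_height_zero hM hB hχ hχ h0
  rw [← kC_mul hM χ hχ, h] at h2
  have e : ((p : ℤ) ^ blockDefect p B * ((p ^ minDeg p B : ℕ) : ℤ)).natAbs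
      = p ^ (blockDefect p B + minDeg p B) := by
    have : (p : ℤ) ^ blockDefect p B * ((p ^ minDeg p B : ℕ) : ℤ)
        = ((p ^ (blockDefect p B + minDeg p B) : ℕ) : ℤ) := by push_cast; ring
    rw [this, Int.natAbs_natCast]
  rw [e, hM.1.factorization_pow, Finsupp.single_eq_same, (blockHeight_eq_zero_iff hχ).1 h0] at h2
  omega

/-- a block of defect zero is a singleton -/
theorem eq_of_defect_zero (hM : IsPModular p M) {B : Set (IrrCharacter G)} (hB : IsPBlock M B)
    (hd : blockDefect p B = 0) {χ ψ : IrrCharacter G} (hχ : χ ∈ B) (hψ : ψ ∈ B) : χ = ψ := by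
  classical
  have : Finite (Cfsg.IrrCharacter G) := finite_irrCharacter
  have : Fintype (Cfsg.IrrCharacter G) := Fintype.ofFinite _
  by_contra hne
  have hχ0 : blockHeight p B (χ : G → ℂ) = 0 := by
    by_contra h0
    have := height_add_two_le hM hB hχ h0
    omega
  have h1 := kC_two_terms hM hB hψ hχ hne
  have h2 : kC p B ψ χ ≠ 0 := by
    rw [kC_symm hM.1]; exact (kC_of_height_zero hM hB hχ hψ hχ0).2
  have h2' : 0 < kC p B ψ χ ^ 2 := by positivity
  rw [hd, pow_zero, one_mul] at h1
  have h3 := kC_self_le hM hB hψ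
  rw [hd, pow_zero] at h3
  nlinarith [h3.1, h3.2]

theorem kC_self_of_defect_zero (hM : IsPModular p M) {B : Set (IrrCharacter G)} (hB : IsPBlock M B)
    (hd : blockDefect p B = 0) {χ : IrrCharacter G} (hχ : χ ∈ B) : kC p B χ χ = 1 := by
  have hχ0 : blockHeight p B (χ : G → ℂ) = 0 := by
    by_contra h0
    have := height_add_two_le hM hB hχ h0
    omega
  have h2 := (kC_of_height_zero hM hB hχ hχ hχ0).2
  have h3 := kC_self_le hM hB hχ
  rw [hd, pow_zero] at h3
  omega

end RS

end Cfsg.Agent.Lib.Helper81
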