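import Cfsg.Agent.Lib.Helper81.BrauerFeit

set_option autoImplicit false
set_option linter.unusedSectionVars false
open Cfsg
open scoped ComplexConjugate
open Cfsg.Agent.Lib.Helper20

namespace Cfsg.Agent.Lib.Helper81

section BlockDim

variable {G : Type*} [Group G] [Fintype G] {p : ℕ} {M : Ideal AlgInt}

/-- An integer combination of irreducible characters vanishing on the `p`-singular elements has
degree divisible by the full power of `p` dividing `|G|`. -/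
theorem pow_dvd_degree_of_vanish (hp : p.Prime) [Fintype (IrrCharacter G)] (c : IrrCharacter G → ℤ)
    (hvan : ∀ x : G, p ∣ orderOf x → ∑ ψ : IrrCharacter G, (c ψ : ℂ) * (ψ : G → ℂ) x = 0) :
    ((p ^ (Nat.card G).factorization p : ℕ) : ℤ) ∣
      ∑ ψ : IrrCharacter G, c ψ * (charDegree (ψ : G → ℂ) : ℤ) := by
  classical
  have : Fact p.Prime := ⟨hp⟩
  obtain ⟨P⟩ : Nonempty (Sylow p G) := inferInstance
  let θ : G → ℂ := fun x => ∑ ψ : IrrCharacter G, (c ψ : ℂ) * (ψ : G → ℂ) x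
  have hθ : pRegularPart p θ = θ := by
    funext x
    rw [pRegularPart_eq]
    by_cases hx : IsPRegular p x
    · simp only [if_pos hx]
    · simp only [if_neg hx]
      have : p ∣ orderOf x := by simpa [IsPRegular] using hx
      exact (hvan x this).symm
  have h1 := sum_pGroup_pRegularPart hp (P : Subgroup G) P.2 θ
  rw [hθ] at h1
  have hPc : (Nat.card (P : Subgroup G) : ℂ) ≠ 0 := by exact_mod_cast Nat.card_pos.ne'
  have h2 : ∀ ψ : IrrCharacter G, ∃ a : ℕ, ∑ x : (P : Subgroup G), (ψ : G → ℂ) (x : G)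
      = (Nat.card (P : Subgroup G) : ℂ) * a := by
    intro ψ
    obtain ⟨a, ha⟩ := isCharacter_classInner_nat'
      (isCharacter_restrict (isCharacter_of_isIrrCharacter ψ.2) (P : Subgroup G))
      (isCharacter_one (G := (P : Subgroup G)))
    refine ⟨a, ?_⟩
    rw [← ha]
    simp only [classInner, map_one, mul_one]
    rw [← mul_assoc, mul_inv_cancel₀ hPc, one_mul]
  choose a ha using h2
  refine ⟨∑ ψ : IrrCharacter G, c ψ * (a ψ : ℤ), ?_⟩
  have h3 : ((∑ ψ : IrrCharacter G, c ψ * (charDegree (ψ : G → ℂ) : ℤ) : ℤ) : ℂ)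
      = ((((p ^ (Nat.card G).factorization p : ℕ) : ℤ) * ∑ ψ : IrrCharacter G, c ψ * (a ψ : ℤ) : ℤ) : ℂ) := by
    have e1 : ((∑ ψ : IrrCharacter G, c ψ * (charDegree (ψ : G → ℂ) : ℤ) : ℤ) : ℂ) = θ 1 := by
      simp only [θ]
      push_cast
      apply Finset.sum_congr rfl; intro ψ _
      rw [irr_one_eq]
    rw [e1, ← h1]
    simp only [θ]
    rw [Finset.sum_comm]
    push_cast
    rw [Finset.mul_sum]
    apply Finset.sum_congr rfl; intro ψ _
    rw [← Finset.mul_sum, ha ψ, P.card_eq_multiplicity]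
    push_cast
    ring
  exact_mod_cast h3

/-- `ψ(1) / p ^ (a - d)` -/
noncomputable def uDeg (p : ℕ) (B : Set (IrrCharacter G)) (ψ : IrrCharacter G) : ℕ :=
  charDegree (ψ : G → ℂ) / p ^ minDeg p B

theorem uDeg_mul {B : Set (IrrCharacter G)} {ψ : IrrCharacter G} (hψ : ψ ∈ B) :
    p ^ minDeg p B * uDeg p B ψ = charDegree (ψ : G → ℂ) := by
  apply Nat.mul_div_cancel'
  exact (pow_dvd_pow p (minDeg_le hψ)).trans (Nat.ordProj_dvd _ _)

theorem not_dvd_uDeg (hp : p.Prime) {B : Set (IrrCharacter G)} {ψ : IrrCharacter G} (_hψ : ψ ∈ B)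
    (h0 : nuDeg p ψ = minDeg p B) : ¬ p ∣ uDeg p B ψ := by
  rw [uDeg, ← h0]
  exact Nat.not_dvd_ordCompl hp (charDegree_ne_zero ψ)

open Classical in
theorem sum_degree_mul_eq_zero (hM : IsPModular p M) {B : Set (IrrCharacter G)} (hB : IsPBlock M B)
    [Fintype (IrrCharacter G)] {x : G} (hx : p ∣ orderOf x) :
    ∑ ψ : IrrCharacter G, (if ψ ∈ B then (charDegree (ψ : G → ℂ) : ℂ) * (ψ : G → ℂ) x else 0) = 0 := by
  have h1 : ¬ p ∣ orderOf (1 : G) := by
    rw [orderOf_one, Nat.dvd_one]; exact hM.1.one_lt.ne'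
  have h2 := (bS_regular_singular hM B hB h1 hx).2
  simp only [bS] at h2
  rw [finsum_mem_irr] at h2
  refine Eq.trans ?_ h2
  apply Finset.sum_congr rfl; intro ψ _
  split_ifs
  · rw [irr_one_eq]; simp [mul_comm]
  · rfl

open Classical in
/-- congruence `k_ψ u_χ ≡ k_χ u_ψ (mod p)` -/
theorem kC_congr (hM : IsPModular p M) {B : Set (IrrCharacter G)} (hB : IsPBlock M B)
    {χ ψ : IrrCharacter G} (hχ : χ ∈ B) (hψ : ψ ∈ B) :
    (p : ℤ) ∣ kC p B χ ψ * (uDeg p B χ : ℤ) - kC p B χ χ * (uDeg p B ψ : ℤ) := by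
  have h1 := Sm_sub_memLocalIdeal (p := p) hM (isPBlock_sameBlock hM hB hψ hχ) χ
  have hp0 : (p : ℂ) ≠ 0 := by exact_mod_cast hM.1.ne_zero
  have hform : ∀ φ : IrrCharacter G, φ ∈ B → Sm p (φ : G → ℂ) (χ : G → ℂ) * (uDeg p B φ : ℂ)
      = ((Nat.card G / p ^ (Nat.card G).factorization p : ℕ) : ℂ) * (kC p B χ φ : ℂ) := by
    intro φ hφ
    have e1 : (charDegree (φ : G → ℂ) : ℂ) = (p : ℂ) ^ minDeg p B * (uDeg p B φ : ℂ) := by
      exact_mod_cast (uDeg_mul (p := p) hφ).symm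
    have e2 : (nC p χ φ : ℂ) = (kC p B χ φ : ℂ) * (p : ℂ) ^ minDeg p B := by
      exact_mod_cast (kC_mul hM χ hφ).symm
    have hc : (charDegree (φ : G → ℂ) : ℂ) ≠ 0 := by exact_mod_cast charDegree_ne_zero φ
    have hu : (uDeg p B φ : ℂ) ≠ 0 := by
      intro h; rw [h, mul_zero] at e1; exact hc e1
    rw [Sm_eq_nC hM.1, e1, e2]
    field_simp
  have h2 : MemLocalIdeal M ((Sm p (ψ : G → ℂ) (χ : G → ℂ) - Sm p (χ : G → ℂ) (χ : G → ℂ)) *
      ((uDeg p B ψ : ℂ) * (uDeg p B χ : ℂ))) :=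
    memLocalIdeal_mul_right hM h1 (memLocalRing_mul hM (memLocalRing_natCast hM _)
      (memLocalRing_natCast hM _))
  have h3 : (Sm p (ψ : G → ℂ) (χ : G → ℂ) - Sm p (χ : G → ℂ) (χ : G → ℂ)) *
      ((uDeg p B ψ : ℂ) * (uDeg p B χ : ℂ))
      = ((Nat.card G / p ^ (Nat.card G).factorization p : ℕ) : ℂ) *
        ((kC p B χ ψ * (uDeg p B χ : ℤ) - kC p B χ χ * (uDeg p B ψ : ℤ) : ℤ) : ℂ) := by
    have a1 := hform ψ hψ
    have a2 := hform χ hχ
    push_cast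
    calc (Sm p (ψ : G → ℂ) (χ : G → ℂ) - Sm p (χ : G → ℂ) (χ : G → ℂ)) *
        ((uDeg p B ψ : ℂ) * (uDeg p B χ : ℂ))
        = (Sm p (ψ : G → ℂ) (χ : G → ℂ) * (uDeg p B ψ : ℂ)) * (uDeg p B χ : ℂ)
          - (Sm p (χ : G → ℂ) (χ : G → ℂ) * (uDeg p B χ : ℂ)) * (uDeg p B ψ : ℂ) := by ring
      _ = _ := by rw [a1, a2]; ring
  rw [h3, memLocalIdeal_mul_iff hM (memLocalRing_natCast hM _) (memLocalRing_intCast hM _)] at h2
  rcases h2 with h2 | h2
  · exact absurd ((memLocalIdeal_natCast_iff hM _).1 h2) (not_dvd_ordCompl_card hM.1)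
  · set z : ℤ := kC p B χ ψ * (uDeg p B χ : ℤ) - kC p B χ χ * (uDeg p B ψ : ℤ) with hz
    have h4 : MemLocalIdeal M (z.natAbs : ℂ) := by
      rcases intCast_eq_natAbs_or z with h | h
      · rwa [h] at h2
      · rw [h] at h2
        have := memLocalIdeal_neg h2
        rwa [neg_neg] at this
    rw [memLocalIdeal_natCast_iff hM] at h4
    exact Int.natCast_dvd.2 h4

open Classical in
theorem sum_uDeg_mul_eq_zero (hM : IsPModular p M) {B : Set (IrrCharacter G)} (hB : IsPBlock M B)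
    [Fintype (IrrCharacter G)] {x : G} (hx : p ∣ orderOf x) :
    ∑ ψ : IrrCharacter G, (if ψ ∈ B then (uDeg p B ψ : ℂ) * (ψ : G → ℂ) x else 0) = 0 := by
  have h1 := sum_degree_mul_eq_zero hM hB hx
  have hp0 : (p : ℂ) ^ minDeg p B ≠ 0 := pow_ne_zero _ (by exact_mod_cast hM.1.ne_zero)
  apply mul_left_cancel₀ hp0
  rw [mul_zero, Finset.mul_sum]
  refine Eq.trans ?_ h1
  apply Finset.sum_congr rfl; intro ψ _
  split_ifs with hψ
  · have e1 : (charDegree (ψ : G → ℂ) : ℂ) = (p : ℂ) ^ minDeg p B * (uDeg p B ψ : ℂ) := by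
      exact_mod_cast (uDeg_mul (p := p) hψ).symm
    rw [e1]; ring
  · simp

open Classical in
theorem sum_kC_mul (hM : IsPModular p M) {B : Set (IrrCharacter G)} (hB : IsPBlock M B)
    [Fintype (IrrCharacter G)] {χ : IrrCharacter G} (hχ : χ ∈ B) (x : G) :
    ∑ ψ : IrrCharacter G, (if ψ ∈ B then (kC p B χ ψ : ℂ) * (ψ : G → ℂ) x else 0)
      = (p : ℂ) ^ blockDefect p B * pRegularPart p (χ : G → ℂ) x := by
  rw [pRegularPart_eq_sum_mC]
  simp only [Finset.sum_apply, Pi.smul_apply, smul_eq_mul, Finset.mul_sum]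
  apply Finset.sum_congr rfl; intro ψ _
  split_ifs with hψ
  · rw [kC_spec hM χ hψ]; ring
  · have : ¬ SameBlock M (χ : G → ℂ) (ψ : G → ℂ) := by
      intro hs
      apply hψ
      rw [isPBlock_eq_blockOf hM hB hχ]
      exact hs
    rw [mC_eq_zero hM this]; simp

open Classical in
/-- `∑_{ψ ∈ B} (ψ(1)/p^{a-d})² = p^d t` with `p ∤ t`. -/
theorem exists_sum_uDeg_sq (hM : IsPModular p M) {B : Set (IrrCharacter G)} (hB : IsPBlock M B)
    [Fintype (IrrCharacter G)] :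
    ∃ t : ℤ, ¬ (p : ℤ) ∣ t ∧ ∑ ψ : IrrCharacter G, (if ψ ∈ B then (uDeg p B ψ : ℤ) ^ 2 else 0)
      = (p : ℤ) ^ blockDefect p B * t := by
  have hp := hM.1
  have hpZ : (p : ℤ) ≠ 0 := by exact_mod_cast hp.ne_zero
  have hne := isPBlock_nonempty hM hB
  have hadd := blockDefect_add (p := p) hne
  obtain ⟨χ, hχ, hmin⟩ := exists_minDeg (p := p) hne
  set T : ℤ := ∑ ψ : IrrCharacter G, (if ψ ∈ B then (uDeg p B ψ : ℤ) ^ 2 else 0) with hT
  -- step 1
  have h1 := pow_dvd_degree_of_vanish hp (fun ψ => if ψ ∈ B then (uDeg p B ψ : ℤ) else 0) (by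
    intro x hx
    rw [← sum_uDeg_mul_eq_zero hM hB hx]
    apply Finset.sum_congr rfl; intro ψ _
    split_ifs <;> simp)
  have e1 : ∑ ψ : IrrCharacter G, (if ψ ∈ B then (uDeg p B ψ : ℤ) else 0) *
      (charDegree (ψ : G → ℂ) : ℤ) = (p : ℤ) ^ minDeg p B * T := by
    rw [hT, Finset.mul_sum]
    apply Finset.sum_congr rfl; intro ψ _
    split_ifs with hψ
    · have : (charDegree (ψ : G → ℂ) : ℤ) = (p : ℤ) ^ minDeg p B * (uDeg p B ψ : ℤ) := by
        exact_mod_cast (uDeg_mul (p := p) hψ).symm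
      rw [this]; ring
    · simp
  rw [e1, ← hadd] at h1
  push_cast at h1
  rw [pow_add, mul_comm ((p : ℤ) ^ blockDefect p B)] at h1
  have h2 : (p : ℤ) ^ blockDefect p B ∣ T :=
    (mul_dvd_mul_iff_left (pow_ne_zero _ hpZ)).1 h1
  obtain ⟨t, ht⟩ := h2
  refine ⟨t, ?_, ht⟩
  -- step 2
  intro hpt
  have hcong : ∀ ψ : IrrCharacter G, ψ ∈ B → ∃ c : ℤ,
      kC p B χ ψ * (uDeg p B χ : ℤ) - kC p B χ χ * (uDeg p B ψ : ℤ) = (p : ℤ) * c :=
    fun ψ hψ => kC_congr hM hB hχ hψ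
  let c : IrrCharacter G → ℤ := fun ψ => if hψ : ψ ∈ B then Classical.choose (hcong ψ hψ) else 0
  have hc : ∀ ψ : IrrCharacter G, ψ ∈ B →
      kC p B χ ψ * (uDeg p B χ : ℤ) - kC p B χ χ * (uDeg p B ψ : ℤ) = (p : ℤ) * c ψ := by
    intro ψ hψ
    simp only [c, dif_pos hψ]
    exact Classical.choose_spec (hcong ψ hψ)
  have hc0 : ∀ ψ : IrrCharacter G, ψ ∉ B → c ψ = 0 := by
    intro ψ hψ
    simp only [c, dif_neg hψ]
  have hpC : (p : ℂ) ≠ 0 := by exact_mod_cast hp.ne_zero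
  have h3 := pow_dvd_degree_of_vanish hp c (by
    intro x hx
    apply mul_left_cancel₀ hpC
    rw [mul_zero, Finset.mul_sum]
    have a1 := sum_kC_mul hM hB hχ x
    have a2 := sum_uDeg_mul_eq_zero hM hB hx
    have a3 : pRegularPart p (χ : G → ℂ) x = 0 := by
      rw [pRegularPart_eq]
      have : ¬ IsPRegular p x := by simpa [IsPRegular] using hx
      simp only [if_neg this]
    rw [a3, mul_zero] at a1
    have a4 : ∑ ψ : IrrCharacter G, (p : ℂ) * ((c ψ : ℂ) * (ψ : G → ℂ) x)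
        = (uDeg p B χ : ℂ) * ∑ ψ : IrrCharacter G,
            (if ψ ∈ B then (kC p B χ ψ : ℂ) * (ψ : G → ℂ) x else 0)
          - (kC p B χ χ : ℂ) * ∑ ψ : IrrCharacter G,
            (if ψ ∈ B then (uDeg p B ψ : ℂ) * (ψ : G → ℂ) x else 0) := by
      rw [Finset.mul_sum, Finset.mul_sum, ← Finset.sum_sub_distrib]
      apply Finset.sum_congr rfl; intro ψ _
      split_ifs with hψ
      · have := hc ψ hψ
        have e : ((p : ℂ) * (c ψ : ℂ)) = (kC p B χ ψ : ℂ) * (uDeg p B χ : ℂ)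
            - (kC p B χ χ : ℂ) * (uDeg p B ψ : ℂ) := by exact_mod_cast this.symm
        rw [← mul_assoc, e]; ring
      · rw [hc0 ψ hψ]; simp
    rw [a4, a1, a2]; simp)
  -- compute `p * W`
  have hku : ∑ ψ : IrrCharacter G, (if ψ ∈ B then kC p B χ ψ * (uDeg p B ψ : ℤ) else 0)
      = (p : ℤ) ^ blockDefect p B * (uDeg p B χ : ℤ) := by
    have a1 := sum_kC_mul hM hB hχ 1
    have a3 : pRegularPart p (χ : G → ℂ) 1 = (χ : G → ℂ) 1 := by
      rw [pRegularPart_eq]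
      have : IsPRegular p (1 : G) := by
        simp only [IsPRegular, orderOf_one, Nat.dvd_one]; exact hp.one_lt.ne'
      simp only [if_pos this]
    rw [a3, irr_one_eq] at a1
    have hq : ((p : ℤ) ^ minDeg p B) ≠ 0 := pow_ne_zero _ hpZ
    apply mul_left_cancel₀ hq
    have a5 : (((p : ℤ) ^ minDeg p B * ∑ ψ : IrrCharacter G,
        (if ψ ∈ B then kC p B χ ψ * (uDeg p B ψ : ℤ) else 0) : ℤ) : ℂ)
        = (((p : ℤ) ^ minDeg p B * ((p : ℤ) ^ blockDefect p B * (uDeg p B χ : ℤ)) : ℤ) : ℂ) := by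
      have e1 : (charDegree (χ : G → ℂ) : ℂ) = (p : ℂ) ^ minDeg p B * (uDeg p B χ : ℂ) := by
        exact_mod_cast (uDeg_mul (p := p) hχ).symm
      push_cast
      rw [Finset.mul_sum]
      have : (p : ℂ) ^ minDeg p B * ((p : ℂ) ^ blockDefect p B * (uDeg p B χ : ℂ))
          = (p : ℂ) ^ blockDefect p B * (charDegree (χ : G → ℂ) : ℂ) := by rw [e1]; ring
      rw [this, ← a1]
      apply Finset.sum_congr rfl; intro ψ _
      split_ifs with hψ
      · have e2 : (charDegree (ψ : G → ℂ) : ℂ) = (p : ℂ) ^ minDeg p B * (uDeg p B ψ : ℂ) := by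
          exact_mod_cast (uDeg_mul (p := p) hψ).symm
        rw [irr_one_eq, e2]; ring
      · simp
    exact_mod_cast a5
  have hW : (p : ℤ) * ∑ ψ : IrrCharacter G, c ψ * (charDegree (ψ : G → ℂ) : ℤ)
      = (p : ℤ) ^ minDeg p B * ((uDeg p B χ : ℤ) * ((p : ℤ) ^ blockDefect p B * (uDeg p B χ : ℤ))
        - kC p B χ χ * T) := by
    rw [← hku, hT, Finset.mul_sum, Finset.mul_sum, Finset.mul_sum, ← Finset.sum_sub_distrib,
      Finset.mul_sum]
    apply Finset.sum_congr rfl; intro ψ _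
    split_ifs with hψ
    · have e2 : (charDegree (ψ : G → ℂ) : ℤ) = (p : ℤ) ^ minDeg p B * (uDeg p B ψ : ℤ) := by
        exact_mod_cast (uDeg_mul (p := p) hψ).symm
      rw [← mul_assoc, ← hc ψ hψ, e2]; ring
    · rw [hc0 ψ hψ]; simp
  obtain ⟨w, hw⟩ := h3
  rw [hw, ht, ← hadd] at hW
  push_cast at hW
  have hq : ((p : ℤ) ^ minDeg p B * (p : ℤ) ^ blockDefect p B) ≠ 0 :=
    mul_ne_zero (pow_ne_zero _ hpZ) (pow_ne_zero _ hpZ)
  have h5 : (p : ℤ) * w = (uDeg p B χ : ℤ) * (uDeg p B χ : ℤ) - kC p B χ χ * t := by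
    apply mul_left_cancel₀ hq
    rw [pow_add] at hW
    linear_combination hW
  have h6 : (p : ℤ) ∣ (uDeg p B χ : ℤ) * (uDeg p B χ : ℤ) := by
    have : (uDeg p B χ : ℤ) * (uDeg p B χ : ℤ) = (p : ℤ) * w + kC p B χ χ * t := by
      rw [h5]; ring
    rw [this]
    exact dvd_add (dvd_mul_right _ _) (dvd_mul_of_dvd_right hpt _)
  have hpp : Prime (p : ℤ) := Nat.prime_iff_prime_int.1 hp
  have h7 : (p : ℤ) ∣ (uDeg p B χ : ℤ) := by
    rcases hpp.dvd_or_dvd h6 with h | h <;> exact h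
  exact not_dvd_uDeg hp hχ hmin (Int.natCast_dvd_natCast.1 h7)

end BlockDim

end Cfsg.Agent.Lib.Helper81
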