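import Cfsg.Agent.Lib.Helper81.Integrality

set_option autoImplicit false
set_option linter.unusedSectionVars false
open Cfsg
open scoped ComplexConjugate
open Cfsg.Agent.Lib.Helper20

namespace Cfsg.Agent.Lib.Helper81

section BF

variable {G : Type*} [Group G] [Fintype G] {p : ℕ} {M : Ideal AlgInt}

/-- the integer `p ^ d m_{χψ}` -/
noncomputable def kC (p : ℕ) (B : Set (IrrCharacter G)) (χ ψ : IrrCharacter G) : ℤ :=
  nC p χ ψ / ((p ^ minDeg p B : ℕ) : ℤ)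

theorem kC_mul (hM : IsPModular p M) {B : Set (IrrCharacter G)} (χ : IrrCharacter G)
    {ψ : IrrCharacter G} (hψ : ψ ∈ B) :
    kC p B χ ψ * ((p ^ minDeg p B : ℕ) : ℤ) = nC p χ ψ := by
  apply Int.ediv_mul_cancel
  refine dvd_trans ?_ (pow_nuDeg_dvd_nC hM χ ψ)
  exact_mod_cast pow_dvd_pow p (minDeg_le hψ)

theorem kC_spec (hM : IsPModular p M) {B : Set (IrrCharacter G)} (χ : IrrCharacter G)
    {ψ : IrrCharacter G} (hψ : ψ ∈ B) :
    (kC p B χ ψ : ℂ) = (p : ℂ) ^ blockDefect p B * mC p (χ : G → ℂ) (ψ : G → ℂ) := by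
  have h1 := kC_mul hM χ hψ
  have h2 : (kC p B χ ψ : ℂ) * (p : ℂ) ^ minDeg p B = (nC p χ ψ : ℂ) := by exact_mod_cast h1
  rw [nC_spec hM.1, ← blockDefect_add (p := p) ⟨ψ, hψ⟩] at h2
  have hp0 : (p : ℂ) ^ minDeg p B ≠ 0 := pow_ne_zero _ (by exact_mod_cast hM.1.ne_zero)
  apply mul_right_cancel₀ hp0
  rw [h2]
  push_cast
  ring

theorem kC_of_height_zero (hM : IsPModular p M) {B : Set (IrrCharacter G)} (hB : IsPBlock M B)
    {χ ψ : IrrCharacter G} (hχ : χ ∈ B) (hψ : ψ ∈ B) (h0 : blockHeight p B (χ : G → ℂ) = 0) :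
    ((p ^ blockHeight p B (ψ : G → ℂ) : ℕ) : ℤ) ∣ kC p B χ ψ ∧ kC p B χ ψ ≠ 0 := by
  obtain ⟨hn, hv⟩ := nC_of_height_zero hM hB hχ hψ h0
  have h1 := kC_mul hM χ hψ
  have hk : kC p B χ ψ ≠ 0 := by
    intro h; rw [h, zero_mul] at h1; exact hn h1.symm
  refine ⟨?_, hk⟩
  have h2 := pow_nuDeg_dvd_nC hM χ ψ
  rw [← h1, ← blockHeight_add (p := p) hψ, pow_add] at h2
  push_cast at h2 ⊢
  have hp0 : ((p : ℤ) ^ minDeg p B) ≠ 0 := pow_ne_zero _ (by exact_mod_cast hM.1.ne_zero)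
  exact (mul_dvd_mul_iff_right hp0).1 h2

theorem sum_mC_sq (hp : p.Prime) [Fintype (IrrCharacter G)] (χ : IrrCharacter G) :
    ∑ ψ : IrrCharacter G, mC p (χ : G → ℂ) (ψ : G → ℂ) * mC p (χ : G → ℂ) (ψ : G → ℂ)
      = mC p (χ : G → ℂ) (χ : G → ℂ) := by
  classical
  have hreal : ∀ ψ : IrrCharacter G, conj (mC p (χ : G → ℂ) (ψ : G → ℂ)) = mC p (χ : G → ℂ) (ψ : G → ℂ) := by
    intro ψ
    have h1 := nC_spec hp χ ψ
    have hp0 : ((p ^ (Nat.card G).factorization p : ℕ) : ℂ) ≠ 0 := by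
      exact_mod_cast pow_ne_zero _ hp.ne_zero
    have h2 : mC p (χ : G → ℂ) (ψ : G → ℂ)
        = (nC p χ ψ : ℂ) / ((p ^ (Nat.card G).factorization p : ℕ) : ℂ) := by
      rw [h1]; field_simp
    rw [h2]
    simp
  have h1 : mC p (χ : G → ℂ) (χ : G → ℂ)
      = classInner (pRegularPart p (χ : G → ℂ)) (pRegularPart p (χ : G → ℂ)) := by
    simp only [mC, classInner, pRegularPart_eq]
    congr 1
    apply Finset.sum_congr rfl; intro g _
    split_ifs <;> simp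
  rw [h1]
  conv_rhs => rhs; rw [pRegularPart_eq_sum_mC]
  rw [classInner_sum_right]
  apply Finset.sum_congr rfl; intro ψ _
  rw [classInner_smul_right, hreal]
  rfl

open Classical in
theorem sum_kC_sq (hM : IsPModular p M) {B : Set (IrrCharacter G)} (hB : IsPBlock M B)
    [Fintype (IrrCharacter G)] {χ : IrrCharacter G} (hχ : χ ∈ B) :
    ∑ ψ : IrrCharacter G, (if ψ ∈ B then kC p B χ ψ ^ 2 else 0)
      = (p : ℤ) ^ blockDefect p B * kC p B χ χ := by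
  have h1 := sum_mC_sq hM.1 χ
  have h2 : ((∑ ψ : IrrCharacter G, (if ψ ∈ B then kC p B χ ψ ^ 2 else 0) : ℤ) : ℂ)
      = (((p : ℤ) ^ blockDefect p B * kC p B χ χ : ℤ) : ℂ) := by
    push_cast
    rw [kC_spec hM χ hχ, ← h1, Finset.mul_sum, Finset.mul_sum]
    apply Finset.sum_congr rfl; intro ψ _
    split_ifs with hψ
    · rw [kC_spec hM χ hψ]; ring
    · have : ¬ SameBlock M (χ : G → ℂ) (ψ : G → ℂ) := by
        intro hs
        apply hψ
        rw [isPBlock_eq_blockOf hM hB hχ]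
        exact hs
      rw [mC_eq_zero hM this]; simp
  exact_mod_cast h2

open Classical in
/-- **Brauer–Feit**, weighted form. -/
theorem brauer_feit (hM : IsPModular p M) {B : Set (IrrCharacter G)} (hB : IsPBlock M B)
    [Fintype (IrrCharacter G)] :
    4 * ∑ ψ : IrrCharacter G, (if ψ ∈ B then p ^ (2 * blockHeight p B (ψ : G → ℂ)) else 0)
      ≤ p ^ (2 * blockDefect p B) + 4 := by
  obtain ⟨χ, hχ, hmin⟩ := exists_minDeg (p := p) (isPBlock_nonempty hM hB)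
  have h0 : blockHeight p B (χ : G → ℂ) = 0 := (blockHeight_eq_zero_iff hχ).2 hmin
  have hsum := sum_kC_sq hM hB hχ
  set k := kC p B χ χ with hk
  set q : ℤ := (p : ℤ) ^ blockDefect p B with hq
  -- termwise bound
  have hterm : ∀ ψ : IrrCharacter G, ψ ≠ χ →
      ((if ψ ∈ B then p ^ (2 * blockHeight p B (ψ : G → ℂ)) else 0 : ℕ) : ℤ)
        ≤ (if ψ ∈ B then kC p B χ ψ ^ 2 else 0) := by
    intro ψ _
    split_ifs with hψ
    · obtain ⟨hd, hne⟩ := kC_of_height_zero hM hB hχ hψ h0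
      have h1 : ((p ^ blockHeight p B (ψ : G → ℂ) : ℕ) : ℤ) ≤ |kC p B χ ψ| :=
        Int.le_of_dvd (abs_pos.2 hne) ((dvd_abs _ _).2 hd)
      have h2 : (0 : ℤ) ≤ ((p ^ blockHeight p B (ψ : G → ℂ) : ℕ) : ℤ) := Int.natCast_nonneg _
      have h3 := mul_self_le_mul_self h2 h1
      rw [abs_mul_abs_self] at h3
      have e : ((p ^ (2 * blockHeight p B (ψ : G → ℂ)) : ℕ) : ℤ)
          = ((p ^ blockHeight p B (ψ : G → ℂ) : ℕ) : ℤ) * ((p ^ blockHeight p B (ψ : G → ℂ) : ℕ) : ℤ) := by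
        push_cast; ring
      rw [e, sq]; exact h3
    · simp
  have hsplit1 : ∑ ψ : IrrCharacter G, (if ψ ∈ B then kC p B χ ψ ^ 2 else 0)
      = k ^ 2 + ∑ ψ ∈ Finset.univ.erase χ, (if ψ ∈ B then kC p B χ ψ ^ 2 else 0) := by
    rw [← Finset.add_sum_erase Finset.univ _ (Finset.mem_univ χ), if_pos hχ]
  have hsplit2 : ∑ ψ : IrrCharacter G,
      (if ψ ∈ B then p ^ (2 * blockHeight p B (ψ : G → ℂ)) else 0)
      = 1 + ∑ ψ ∈ Finset.univ.erase χ,
        (if ψ ∈ B then p ^ (2 * blockHeight p B (ψ : G → ℂ)) else 0) := by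
    rw [← Finset.add_sum_erase Finset.univ _ (Finset.mem_univ χ), if_pos hχ, h0]
    simp
  have hle : ((∑ ψ ∈ Finset.univ.erase χ,
      (if ψ ∈ B then p ^ (2 * blockHeight p B (ψ : G → ℂ)) else 0) : ℕ) : ℤ)
      ≤ ∑ ψ ∈ Finset.univ.erase χ, (if ψ ∈ B then kC p B χ ψ ^ 2 else 0) := by
    rw [Nat.cast_sum]
    apply Finset.sum_le_sum
    intro ψ hψ
    exact hterm ψ (Finset.ne_of_mem_erase hψ)
  have hfin : (4 : ℤ) * ((∑ ψ : IrrCharacter G,
      (if ψ ∈ B then p ^ (2 * blockHeight p B (ψ : G → ℂ)) else 0) : ℕ) : ℤ)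
      ≤ ((p ^ (2 * blockDefect p B) + 4 : ℕ) : ℤ) := by
    rw [hsplit2]
    have e : ((p ^ (2 * blockDefect p B) + 4 : ℕ) : ℤ) = q ^ 2 + 4 := by
      rw [hq]; push_cast; ring
    rw [e]
    push_cast at hle ⊢
    rw [hsplit1] at hsum
    nlinarith [sq_nonneg (q - 2 * k)]
  exact_mod_cast hfin

end BF

end Cfsg.Agent.Lib.Helper81
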