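import Cfsg.Agent.Lib.Helper81.Parseval

set_option autoImplicit false
set_option linter.unusedSectionVars false
open scoped ComplexConjugate

namespace Cfsg.Agent.Lib.Helper81

section Split

theorem sum_range_split {p n : ℕ} (hp : p.Prime) {A : Type*} [AddCommMonoid A] (g : ℕ → A) :
    ∑ j ∈ Finset.range (p ^ (n + 1)), g j
        = ∑ j ∈ (Finset.range (p ^ (n + 1))).filter (fun j => Nat.Coprime j (p ^ (n + 1))), g j
          + ∑ j ∈ Finset.range (p ^ n), g (p * j) := by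
  rw [← Finset.sum_filter_add_sum_filter_not (Finset.range (p ^ (n + 1)))
    (fun j => Nat.Coprime j (p ^ (n + 1)))]
  congr 1
  symm
  apply Finset.sum_bij (fun j _ => p * j)
  · intro j hj
    rw [Finset.mem_filter, Finset.mem_range]
    refine ⟨?_, ?_⟩
    · rw [pow_succ']
      exact Nat.mul_lt_mul_of_pos_left (Finset.mem_range.1 hj) hp.pos
    · intro hc
      have h1 : Nat.Coprime (p * j) p :=
        Nat.Coprime.coprime_dvd_right (dvd_pow_self p (Nat.succ_ne_zero n)) hc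
      have h2 : p ∣ Nat.gcd (p * j) p := Nat.dvd_gcd (dvd_mul_right p j) dvd_rfl
      rw [h1] at h2
      exact hp.one_lt.ne' (Nat.dvd_one.1 h2)
  · intro j _ j' _ h
    exact Nat.eq_of_mul_eq_mul_left hp.pos h
  · intro j hj
    rw [Finset.mem_filter, Finset.mem_range] at hj
    have h1 : p ∣ j := by
      by_contra hnd
      apply hj.2
      exact Nat.Coprime.pow_right _ ((Nat.Prime.coprime_iff_not_dvd hp).2 hnd).symm
    obtain ⟨j', rfl⟩ := h1
    refine ⟨j', ?_, rfl⟩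
    rw [Finset.mem_range]
    have := hj.1
    rw [pow_succ'] at this
    exact Nat.lt_of_mul_lt_mul_left this
  · intro j _; rfl

end Split

section Two

/-- the odd residues modulo `2 ^ (n + 1)` -/
def oddJ (n : ℕ) : Finset ℕ :=
  (Finset.range (2 ^ (n + 1))).filter (fun j => Nat.Coprime j (2 ^ (n + 1)))

theorem odd_of_mem_oddJ {n j : ℕ} (hj : j ∈ oddJ n) : Odd j := by
  have h := (Finset.mem_filter.1 hj).2
  have h2 : Nat.Coprime j 2 := Nat.Coprime.coprime_dvd_right (dvd_pow_self 2 (Nat.succ_ne_zero n)) h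
  exact Nat.coprime_two_right.1 h2

open Classical in
/-- `1 ↦ 1`, `-1 ↦ -1`, everything else to `0` -/
noncomputable def epsZ (ν : ℂ) : ℤ := if ν = 1 then 1 else if ν = -1 then -1 else 0

theorem sum_oddJ_pow {n : ℕ} {ν : ℂ} (hν : ν ^ (2 ^ (n + 1)) = 1) :
    ∑ j ∈ oddJ n, ν ^ j = ((2 ^ n : ℕ) : ℂ) * (epsZ ν : ℂ) := by
  have h1 := sum_range_split (n := n) Nat.prime_two (fun j => ν ^ j)
  have hν2 : (ν ^ 2) ^ (2 ^ n) = 1 := by rw [← pow_mul, ← pow_succ']; exact hν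
  have h2 : ∑ j ∈ Finset.range (2 ^ n), ν ^ (2 * j) = if ν ^ 2 = 1 then ((2 ^ n : ℕ) : ℂ) else 0 := by
    simp only [pow_mul]
    exact geom_root hν2
  rw [geom_root hν, h2] at h1
  have h3 : ∑ j ∈ oddJ n, ν ^ j = (if ν = 1 then ((2 ^ (n + 1) : ℕ) : ℂ) else 0)
      - (if ν ^ 2 = 1 then ((2 ^ n : ℕ) : ℂ) else 0) := by
    rw [h1]; simp only [oddJ]; ring
  rw [h3, epsZ]
  by_cases a1 : ν = 1
  · subst a1; simp; ring
  · by_cases a2 : ν = -1
    · subst a2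
      rw [if_neg a1, if_neg a1, if_pos rfl, if_pos (by norm_num)]
      push_cast; ring
    · have a3 : ν ^ 2 ≠ 1 := by
        intro h
        rw [sq] at h
        rcases mul_self_eq_one_iff.1 h with h' | h'
        · exact a1 h'
        · exact a2 h'
      rw [if_neg a1, if_neg a1, if_neg a2, if_neg a3]; simp

end Two

section Real

variable {n : ℕ} {ζ : ℂ} {I : Type*} [Fintype I]

/-- coordinates with respect to `1, ζ, …, ζ ^ (m - 1)` -/
noncomputable def Xc (ζ : ℂ) (a : I → ℤ) (μ : I → ℂ) (k : ℕ) : ℤ :=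
  ∑ i, a i * epsZ (μ i * conj (ζ ^ k))

theorem sum_oddJ_mul_conj (hζ : ζ ^ (2 ^ (n + 1)) = 1) (a : I → ℤ) (μ : I → ℂ)
    (hμ : ∀ i, μ i ^ (2 ^ (n + 1)) = 1) (k : ℕ) :
    ∑ j ∈ oddJ n, (∑ i, (a i : ℂ) * μ i ^ j) * conj (ζ ^ (j * k))
      = ((2 ^ n : ℕ) : ℂ) * (Xc ζ a μ k : ℂ) := by
  have h1 : ∀ j, (∑ i, (a i : ℂ) * μ i ^ j) * conj (ζ ^ (j * k))
      = ∑ i, (a i : ℂ) * (μ i * conj (ζ ^ k)) ^ j := by
    intro j
    rw [Finset.sum_mul]
    apply Finset.sum_congr rfl; intro i _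
    rw [mul_pow, ← map_pow, ← pow_mul, mul_comm k j]; ring
  simp only [h1]
  rw [Finset.sum_comm, Xc]
  push_cast
  rw [Finset.mul_sum]
  apply Finset.sum_congr rfl; intro i _
  rw [← Finset.mul_sum, sum_oddJ_pow]
  · push_cast; ring
  · rw [mul_pow, ← map_pow, ← pow_mul, mul_comm k, pow_mul, hζ, hμ]; simp

theorem pow_half_eq_neg_one (hζ : IsPrimitiveRoot ζ (2 ^ (n + 1))) : ζ ^ (2 ^ n) = -1 := by
  have h1 : (ζ ^ (2 ^ n)) * (ζ ^ (2 ^ n)) = 1 := by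
    rw [← pow_add, ← two_mul, ← pow_succ']; exact hζ.pow_eq_one
  rcases mul_self_eq_one_iff.1 h1 with h | h
  · exfalso
    exact hζ.pow_ne_one_of_pos_of_lt (pow_ne_zero _ (by norm_num))
      (Nat.pow_lt_pow_right (by norm_num) (Nat.lt_succ_self n)) h
  · exact h

theorem epsZ_pow (hζ : IsPrimitiveRoot ζ (2 ^ (n + 1))) {e k : ℕ} (he : e < 2 ^ (n + 1))
    (hk : k < 2 ^ n) :
    epsZ (ζ ^ e * conj (ζ ^ k)) = if e = k then 1 else if e = k + 2 ^ n then -1 else 0 := by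
  have hN : (2 ^ (n + 1) : ℕ) ≠ 0 := pow_ne_zero _ (by norm_num)
  have hk' : k < 2 ^ (n + 1) := lt_trans hk (Nat.pow_lt_pow_right (by norm_num) (Nat.lt_succ_self n))
  have hkm : k + 2 ^ n < 2 ^ (n + 1) := by rw [pow_succ]; omega
  have h1 : ∀ t : ℕ, (ζ ^ t) ^ (2 ^ (n + 1)) = 1 := by
    intro t; rw [← pow_mul, mul_comm, pow_mul, hζ.pow_eq_one, one_pow]
  have e1 : ζ ^ e * conj (ζ ^ k) = 1 ↔ e = k := by
    rw [mul_conj_eq_one_iff hN (h1 k)]
    exact ⟨fun h => hζ.pow_inj he hk' h, fun h => by rw [h]⟩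
  have e2 : ζ ^ e * conj (ζ ^ k) = -1 ↔ e = k + 2 ^ n := by
    have : ζ ^ e * conj (ζ ^ k) = -1 ↔ ζ ^ e * conj (ζ ^ (k + 2 ^ n)) = 1 := by
      rw [pow_add, pow_half_eq_neg_one hζ]
      simp only [map_mul, map_neg, map_one, mul_neg, mul_one]
      constructor
      · intro h; rw [h]; simp
      · intro h; rw [← h]; simp
    rw [this, mul_conj_eq_one_iff hN (h1 _)]
    exact ⟨fun h => hζ.pow_inj he hkm h, fun h => by rw [h]⟩
  rw [epsZ]
  simp only [e1, e2]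

theorem sum_epsZ (hζ : IsPrimitiveRoot ζ (2 ^ (n + 1))) {ν : ℂ} (hν : ν ^ (2 ^ (n + 1)) = 1) :
    (2 : ℤ) ∣ (∑ k ∈ Finset.range (2 ^ n), epsZ (ν * conj (ζ ^ k))) - 1 := by
  have hN : 0 < (2 ^ (n + 1) : ℕ) := pow_pos (by norm_num) _
  obtain ⟨e, he, rfl⟩ := hζ.eq_pow_of_pow_eq_one hν
  have h1 : ∑ k ∈ Finset.range (2 ^ n), epsZ (ζ ^ e * conj (ζ ^ k))
      = ∑ k ∈ Finset.range (2 ^ n), (if e = k then (1 : ℤ) else if e = k + 2 ^ n then -1 else 0) := by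
    apply Finset.sum_congr rfl; intro k hk
    exact epsZ_pow hζ he (Finset.mem_range.1 hk)
  rw [h1]
  by_cases hlt : e < 2 ^ n
  · rw [Finset.sum_eq_single e]
    · simp
    · intro k _ hke
      rw [if_neg (Ne.symm hke), if_neg (by omega)]
    · intro h; exact absurd (Finset.mem_range.2 hlt) h
  · have he' : e - 2 ^ n < 2 ^ n := by rw [pow_succ] at he; omega
    rw [Finset.sum_eq_single (e - 2 ^ n)]
    · rw [if_neg (by omega), if_pos (by omega)]; norm_num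
    · intro k hk hke
      have := Finset.mem_range.1 hk
      rw [if_neg (by omega), if_neg (by omega)]
    · intro h; exact absurd (Finset.mem_range.2 he') h

theorem two_dvd_sum_Xc_sub (hζ : IsPrimitiveRoot ζ (2 ^ (n + 1))) (a : I → ℤ) (μ : I → ℂ)
    (hμ : ∀ i, μ i ^ (2 ^ (n + 1)) = 1) :
    (2 : ℤ) ∣ (∑ k ∈ Finset.range (2 ^ n), Xc ζ a μ k) - ∑ i, a i := by
  simp only [Xc]
  rw [Finset.sum_comm, ← Finset.sum_sub_distrib]
  apply Finset.dvd_sum; intro i _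
  rw [← Finset.mul_sum]
  have := sum_epsZ hζ (hμ i)
  have e : a i * ∑ k ∈ Finset.range (2 ^ n), epsZ (μ i * conj (ζ ^ k)) - a i
      = a i * ((∑ k ∈ Finset.range (2 ^ n), epsZ (μ i * conj (ζ ^ k))) - 1) := by ring
  rw [e]
  exact Dvd.dvd.mul_left this _

theorem Xc_reflect (hζ : IsPrimitiveRoot ζ (2 ^ (n + 1))) (a : I → ℤ) (μ : I → ℂ)
    (hμ : ∀ i, μ i ^ (2 ^ (n + 1)) = 1)
    (hreal : ∀ j ∈ oddJ n, conj (∑ i, (a i : ℂ) * μ i ^ j) = ∑ i, (a i : ℂ) * μ i ^ j)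
    {k : ℕ} (hk : k ≤ 2 ^ n) : Xc ζ a μ (2 ^ n - k) = - Xc ζ a μ k := by
  have hm0 : ((2 ^ n : ℕ) : ℂ) ≠ 0 := by exact_mod_cast pow_ne_zero _ (by norm_num)
  have h1 := sum_oddJ_mul_conj hζ.pow_eq_one a μ hμ (2 ^ n - k)
  have h2 := sum_oddJ_mul_conj hζ.pow_eq_one a μ hμ k
  have hnorm : ζ * conj ζ = 1 :=
    (mul_conj_eq_one_iff (pow_ne_zero (n + 1) (by norm_num : (2 : ℕ) ≠ 0)) hζ.pow_eq_one).2 rfl
  have h3 : ∑ j ∈ oddJ n, (∑ i, (a i : ℂ) * μ i ^ j) * conj (ζ ^ (j * (2 ^ n - k)))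
      = - conj (∑ j ∈ oddJ n, (∑ i, (a i : ℂ) * μ i ^ j) * conj (ζ ^ (j * k))) := by
    rw [map_sum, ← Finset.sum_neg_distrib]
    apply Finset.sum_congr rfl; intro j hj
    rw [map_mul, hreal j hj, Complex.conj_conj]
    have hodd := odd_of_mem_oddJ hj
    have e1 : ζ ^ (j * (2 ^ n - k)) * ζ ^ (j * k) = -1 := by
      rw [← pow_add, ← mul_add, Nat.sub_add_cancel hk, mul_comm, pow_mul, pow_half_eq_neg_one hζ]
      exact hodd.neg_one_pow
    have e2 : ζ ^ (j * k) * conj (ζ ^ (j * k)) = 1 := by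
      rw [map_pow, ← mul_pow, hnorm, one_pow]
    have e3 : conj (ζ ^ (j * (2 ^ n - k))) = - ζ ^ (j * k) := by
      have e4 : conj (ζ ^ (j * (2 ^ n - k))) * conj (ζ ^ (j * k)) = -1 := by
        rw [← map_mul, e1]; simp
      calc conj (ζ ^ (j * (2 ^ n - k)))
          = conj (ζ ^ (j * (2 ^ n - k))) * (ζ ^ (j * k) * conj (ζ ^ (j * k))) := by rw [e2, mul_one]
        _ = (conj (ζ ^ (j * (2 ^ n - k))) * conj (ζ ^ (j * k))) * ζ ^ (j * k) := by ring
        _ = - ζ ^ (j * k) := by rw [e4]; ring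
    rw [e3]; ring
  rw [h1, h2] at h3
  have h4 : ((2 ^ n : ℕ) : ℂ) * (Xc ζ a μ (2 ^ n - k) : ℂ)
      = ((2 ^ n : ℕ) : ℂ) * ((- Xc ζ a μ k : ℤ) : ℂ) := by
    rw [h3, map_mul, Complex.conj_natCast, map_intCast]; push_cast; ring
  exact_mod_cast mul_left_cancel₀ hm0 h4

/-- A real element of `ℤ[ζ]`: its normalised trace is an integer congruent to its augmentation. -/
theorem real_avg (hζ : IsPrimitiveRoot ζ (2 ^ (n + 1))) (a : I → ℤ) (μ : I → ℂ)
    (hμ : ∀ i, μ i ^ (2 ^ (n + 1)) = 1)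
    (hreal : ∀ j ∈ oddJ n, conj (∑ i, (a i : ℂ) * μ i ^ j) = ∑ i, (a i : ℂ) * μ i ^ j) :
    ∃ A : ℤ, ∑ j ∈ oddJ n, (∑ i, (a i : ℂ) * μ i ^ j) = ((2 ^ n : ℕ) : ℂ) * (A : ℂ) ∧
      (2 : ℤ) ∣ A - ∑ i, a i := by
  refine ⟨Xc ζ a μ 0, ?_, ?_⟩
  · have := sum_oddJ_mul_conj hζ.pow_eq_one a μ hμ 0
    simpa using this
  · have h1 := two_dvd_sum_Xc_sub hζ a μ hμ
    obtain ⟨m, hm⟩ : ∃ m, 2 ^ n = m + 1 := ⟨2 ^ n - 1, by
      have : 0 < 2 ^ n := pow_pos (by norm_num) n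
      omega⟩
    have h2 : ∑ k ∈ Finset.range (2 ^ n), Xc ζ a μ k = Xc ζ a μ 0 := by
      rw [hm, Finset.sum_range_succ']
      have h3 : ∑ k ∈ Finset.range m, Xc ζ a μ (k + 1) = 0 := by
        have h4 : ∑ k ∈ Finset.range m, Xc ζ a μ (k + 1)
            = - ∑ k ∈ Finset.range m, Xc ζ a μ (k + 1) := by
          conv_lhs => rw [← Finset.sum_range_reflect]
          rw [← Finset.sum_neg_distrib]
          apply Finset.sum_congr rfl; intro k hk
          have hk' := Finset.mem_range.1 hk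
          have := Xc_reflect hζ a μ hμ hreal (k := k + 1) (by omega)
          rw [← this]
          congr 1
          omega
        omega
      rw [h3, zero_add]
    rw [h2] at h1
    exact h1

end Real

end Cfsg.Agent.Lib.Helper81
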