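import Cfsg.Agent.Lib.Helper81.Cyc2
import Cfsg.Agent.Lib.Helper81.LocalRing

set_option autoImplicit false
set_option linter.unusedSectionVars false
open Cfsg
open scoped ComplexConjugate
open Polynomial

namespace Cfsg.Agent.Lib.Helper81

section Poly

theorem exists_U (n : ℕ) : ∃ U : ℤ[X], (X - 1 : ℤ[X]) ^ (2 ^ n) = X ^ (2 ^ n) + 1 + 2 * U := by
  induction n with
  | zero => exact ⟨-1, by simp; ring⟩
  | succ n ih =>
    obtain ⟨U, hU⟩ := ih
    refine ⟨X ^ (2 ^ n) + 2 * U ^ 2 + 2 * X ^ (2 ^ n) * U + 2 * U, ?_⟩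
    rw [pow_succ, pow_mul, hU, pow_mul]
    ring

theorem aeval_eq_eval_one_add (P : ℤ[X]) :
    ∃ g : ℤ[X], ∀ z : ℂ, aeval z P = ((P.eval 1 : ℤ) : ℂ) + (z - 1) * aeval z g := by
  obtain ⟨g, hg⟩ := X_sub_C_dvd_sub_C_eval (a := (1 : ℤ)) (p := P)
  refine ⟨g, fun z => ?_⟩
  have : P = C (P.eval 1) + (X - C 1) * g := by rw [← hg]; ring
  conv_lhs => rw [this]
  simp

theorem exists_div (m : ℕ) (Q : ℤ[X]) (hQ : (2 : ℤ) ∣ Q.eval 1) :
    ∃ Q' : ℤ[X], ∀ z : ℂ, z ^ m = -1 → aeval z Q = (z - 1) * aeval z Q' := by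
  obtain ⟨g, hg⟩ := aeval_eq_eval_one_add Q
  obtain ⟨c, hc⟩ := hQ
  refine ⟨g - C c * ∑ i ∈ Finset.range m, X ^ i, fun z hz => ?_⟩
  have h1 : (∑ i ∈ Finset.range m, z ^ i) * (z - 1) = -2 := by
    rw [geom_sum_mul, hz]; norm_num
  rw [hg z, hc]
  simp only [map_sub, map_mul, aeval_C, map_sum, map_pow, aeval_X]
  push_cast
  have : (algebraMap ℤ ℂ) c = (c : ℂ) := rfl
  rw [this]
  linear_combination (c : ℂ) * h1

end Poly

section Loc

variable {p : ℕ} {M : Ideal AlgInt}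

theorem memLocalIdeal_intCast_iff (hM : IsPModular p M) (n : ℤ) :
    MemLocalIdeal M (n : ℂ) ↔ (p : ℤ) ∣ n := by
  rcases Int.eq_nat_or_neg n with ⟨k, rfl | rfl⟩
  · rw [Int.cast_natCast, memLocalIdeal_natCast_iff hM, Int.natCast_dvd_natCast]
  · rw [Int.cast_neg, Int.cast_natCast, dvd_neg, Int.natCast_dvd_natCast,
      ← memLocalIdeal_natCast_iff hM]
    constructor
    · intro h'; simpa using memLocalIdeal_neg h'
    · intro h'; exact memLocalIdeal_neg h'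

theorem aeval_memLocalRing (hM : IsPModular p M) {z : ℂ} (hz : MemLocalRing M z) (P : ℤ[X]) :
    MemLocalRing M (aeval z P) := by
  rw [aeval_eq_sum_range]
  apply memLocalRing_sum hM; intro i _
  rw [zsmul_eq_mul]
  exact memLocalRing_mul hM (memLocalRing_intCast hM _) (memLocalRing_pow hM hz i)

theorem aeval_memLocalIdeal_iff (hM : IsPModular p M) {z : ℂ} (hz : MemLocalIdeal M (z - 1))
    (P : ℤ[X]) : MemLocalIdeal M (aeval z P) ↔ (p : ℤ) ∣ P.eval 1 := by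
  obtain ⟨g, hg⟩ := aeval_eq_eval_one_add P
  have hzR : MemLocalRing M z := by
    have := memLocalRing_add hM (memLocalRing_of_memLocalIdeal hz) (memLocalRing_one hM)
    simpa using this
  have h1 : MemLocalIdeal M ((z - 1) * aeval z g) :=
    memLocalIdeal_mul_right hM hz (aeval_memLocalRing hM hzR g)
  rw [← memLocalIdeal_intCast_iff hM, hg z]
  constructor
  · intro h
    have := memLocalIdeal_sub hM h h1
    simpa using this
  · intro h
    exact memLocalIdeal_add hM h h1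

end Loc

section Div

variable {M : Ideal AlgInt}

theorem exists_pow_div (hM : IsPModular 2 M) {m : ℕ} {ζ : ℂ} (hζm : ζ ^ m = -1)
    (hζ1 : MemLocalIdeal M (ζ - 1)) (r : ℕ) : ∀ P : ℤ[X],
    (∃ t, MemLocalRing M t ∧ aeval ζ P = (ζ - 1) ^ r * t) →
      ∃ Q : ℤ[X], ∀ z : ℂ, z ^ m = -1 → aeval z P = (z - 1) ^ r * aeval z Q := by
  have hne : ζ - 1 ≠ 0 := by
    intro h
    have : ζ = 1 := by linear_combination h
    rw [this, one_pow] at hζm
    norm_num at hζm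
  induction r with
  | zero => intro P _; exact ⟨P, fun z _ => by simp⟩
  | succ r ih =>
    rintro P ⟨t, ht, hP⟩
    obtain ⟨Q, hQ⟩ := ih P ⟨(ζ - 1) * t,
      memLocalRing_mul hM (memLocalRing_of_memLocalIdeal hζ1) ht, by rw [hP]; ring⟩
    have h1 : aeval ζ Q = (ζ - 1) * t := by
      have h2 := hQ ζ hζm
      rw [hP, pow_succ, mul_assoc] at h2
      exact (mul_left_cancel₀ (pow_ne_zero r hne) h2).symm
    have h3 : MemLocalIdeal M (aeval ζ Q) := by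
      rw [h1]; exact memLocalIdeal_mul_right hM hζ1 ht
    have h4 : (2 : ℤ) ∣ Q.eval 1 := by
      have := (aeval_memLocalIdeal_iff hM hζ1 Q).1 h3
      exact_mod_cast this
    obtain ⟨Q', hQ'⟩ := exists_div m Q h4
    refine ⟨Q', fun z hz => ?_⟩
    rw [hQ z hz, hQ' z hz]; ring

theorem exists_two_div (hM : IsPModular 2 M) {n : ℕ} {ζ : ℂ} (hζm : ζ ^ (2 ^ n) = -1) (P : ℤ[X])
    (h : ∃ t, MemLocalRing M t ∧ aeval ζ P = 2 * t) :
    ∃ P' : ℤ[X], ∀ z : ℂ, z ^ (2 ^ n) = -1 → aeval z P = 2 * aeval z P' := by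
  have hζ1 : MemLocalIdeal M (ζ - 1) := by
    apply memLocalIdeal_sub_one_of_pow_eq_one hM (k := n + 1)
    rw [pow_succ, pow_mul, hζm]; norm_num
  obtain ⟨U, hU⟩ := exists_U n
  have hUz : ∀ z : ℂ, z ^ (2 ^ n) = -1 → (z - 1) ^ (2 ^ n) = 2 * aeval z U := by
    intro z hz
    have := congrArg (aeval z) hU
    simp only [map_pow, map_sub, aeval_X, map_one, map_add, map_mul] at this
    rw [this, hz]
    have h2 : (aeval z) (2 : ℤ[X]) = (2 : ℂ) := by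
      have : (2 : ℤ[X]) = C 2 := rfl
      rw [this, aeval_C]; rfl
    rw [h2]; ring
  have hU1 : U.eval 1 = -1 := by
    have := congrArg (eval 1) hU
    simp only [eval_pow, eval_sub, eval_X, eval_one, sub_self, eval_add, one_pow, eval_mul] at this
    rw [zero_pow (pow_ne_zero _ (by norm_num))] at this
    have h2 : eval 1 (2 : ℤ[X]) = 2 := by
      have : (2 : ℤ[X]) = C 2 := rfl
      rw [this, eval_C]
    rw [h2] at this
    omega
  have hζR : MemLocalRing M ζ := by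
    have := memLocalRing_add hM (memLocalRing_of_memLocalIdeal hζ1) (memLocalRing_one hM)
    simpa using this
  have hUunit : ¬ MemLocalIdeal M (aeval ζ U) := by
    rw [aeval_memLocalIdeal_iff hM hζ1, hU1]
    norm_num
  obtain ⟨t, ht, hP⟩ := h
  have hU0 := ne_zero_of_not_memLocalIdeal hM hUunit
  obtain ⟨Q, hQ⟩ := exists_pow_div hM hζm hζ1 (2 ^ n) P ⟨t / aeval ζ U,
    memLocalRing_div hM ht (aeval_memLocalRing hM hζR U) hUunit, by
      rw [hP, hUz ζ hζm]; field_simp⟩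
  refine ⟨U * Q, fun z hz => ?_⟩
  rw [hQ z hz, hUz z hz, map_mul]; ring

theorem exists_two_pow_div (hM : IsPModular 2 M) {n : ℕ} {ζ : ℂ} (hζm : ζ ^ (2 ^ n) = -1) (h : ℕ) :
    ∀ P : ℤ[X], (∃ t, MemLocalRing M t ∧ aeval ζ P = 2 ^ h * t) →
    ∃ P' : ℤ[X], ∀ z : ℂ, z ^ (2 ^ n) = -1 → aeval z P = 2 ^ h * aeval z P' := by
  induction h with
  | zero => intro P _; exact ⟨P, fun z _ => by simp⟩
  | succ h ih =>
    rintro P ⟨t, ht, hP⟩
    obtain ⟨P₁, hP₁⟩ := exists_two_div hM hζm P ⟨2 ^ h * t,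
      memLocalRing_mul hM (memLocalRing_pow hM (by exact_mod_cast memLocalRing_natCast hM 2) h) ht,
      by rw [hP]; ring⟩
    have h1 : aeval ζ P₁ = 2 ^ h * t := by
      have h2 := hP₁ ζ hζm
      rw [hP, pow_succ] at h2
      have h3 : (2 : ℂ) * (2 ^ h * t) = 2 * aeval ζ P₁ := by rw [← h2]; ring
      exact (mul_left_cancel₀ (by norm_num) h3).symm
    obtain ⟨P', hP'⟩ := ih P₁ ⟨t, ht, h1⟩
    refine ⟨P', fun z hz => ?_⟩
    rw [hP₁ z hz, hP' z hz]; ring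

end Div

section Data

variable {M : Ideal AlgInt} {n : ℕ} {I : Type*} [Fintype I]

theorem exists_poly {ζ : ℂ} (hζ : IsPrimitiveRoot ζ (2 ^ (n + 1))) (a : I → ℤ) (μ : I → ℂ)
    (hμ : ∀ i, μ i ^ (2 ^ (n + 1)) = 1) :
    ∃ P : ℤ[X], ∀ j : ℕ, aeval (ζ ^ j) P = ∑ i, (a i : ℂ) * μ i ^ j := by
  have hN : 0 < (2 ^ (n + 1) : ℕ) := pow_pos (by norm_num) _
  choose e _ he using fun i => hζ.eq_pow_of_pow_eq_one (hμ i)
  refine ⟨∑ i, C (a i) * X ^ (e i), fun j => ?_⟩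
  simp only [map_sum, map_mul, aeval_C, map_pow, aeval_X]
  apply Finset.sum_congr rfl; intro i _
  rw [← he i, ← pow_mul, ← pow_mul, mul_comm j (e i)]
  rfl

theorem poly_data (ζ : ℂ) (P : ℤ[X]) (j : ℕ) :
    aeval (ζ ^ j) P = ∑ k : Fin (P.natDegree + 1), ((P.coeff k : ℤ) : ℂ) * (ζ ^ (k : ℕ)) ^ j := by
  rw [aeval_eq_sum_range,
    Fin.sum_univ_eq_sum_range (fun k => ((P.coeff k : ℤ) : ℂ) * (ζ ^ k) ^ j) (P.natDegree + 1)]
  apply Finset.sum_congr rfl; intro k _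
  rw [zsmul_eq_mul, ← pow_mul, ← pow_mul, mul_comm j k]

theorem poly_sum (P : ℤ[X]) : ∑ k : Fin (P.natDegree + 1), P.coeff k = P.eval 1 := by
  rw [eval_eq_sum_range, Fin.sum_univ_eq_sum_range (fun k => P.coeff k) (P.natDegree + 1)]
  simp

theorem pow_pow_half_of_mem {ζ : ℂ} (hζm : ζ ^ (2 ^ n) = -1) {j : ℕ} (hj : j ∈ oddJ n) :
    (ζ ^ j) ^ (2 ^ n) = -1 := by
  rw [← pow_mul, mul_comm, pow_mul, hζm]
  exact (odd_of_mem_oddJ hj).neg_one_pow

/-- the Parseval bound for an element of `ℤ[ζ]` of exact `2`-adic valuation `h` -/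
theorem parseval_bound_div (hM : IsPModular 2 M) (a : I → ℤ) (μ : I → ℂ)
    (hμ : ∀ i, μ i ^ (2 ^ (n + 1)) = 1) (h : ℕ) {w : ℂ} (hw : MemLocalRing M w)
    (hw' : ¬ MemLocalIdeal M w) (he : ∑ i, (a i : ℂ) * μ i = 2 ^ h * w) :
    ((2 ^ n : ℕ) : ℝ) * 4 ^ h ≤ ∑ j ∈ oddJ n, ‖∑ i, (a i : ℂ) * μ i ^ j‖ ^ 2 := by
  have hζ := Complex.isPrimitiveRoot_exp (2 ^ (n + 1)) (pow_ne_zero _ (by norm_num))
  set ζ := Complex.exp (2 * Real.pi * Complex.I / ((2 ^ (n + 1) : ℕ) : ℂ)) with hζdef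
  have hζm := pow_half_eq_neg_one hζ
  have hζ1 : MemLocalIdeal M (ζ - 1) :=
    memLocalIdeal_sub_one_of_pow_eq_one hM (k := n + 1) hζ.pow_eq_one
  obtain ⟨P, hP⟩ := exists_poly hζ a μ hμ
  have h1 : aeval ζ P = 2 ^ h * w := by
    have := hP 1
    simp only [pow_one] at this
    rw [this, he]
  obtain ⟨P', hP'⟩ := exists_two_pow_div hM hζm h P ⟨w, hw, h1⟩
  have h2 : aeval ζ P' = w := by
    have h3 := hP' ζ hζm
    rw [h1] at h3
    exact (mul_left_cancel₀ (pow_ne_zero h (by norm_num)) h3).symm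
  have h3 : ¬ ((2 : ℕ) : ℤ) ∣ P'.eval 1 := by
    rw [← aeval_memLocalIdeal_iff hM hζ1, h2]; exact hw'
  have hb := parseval_bound (n := n + 1) Nat.prime_two (fun k : Fin (P'.natDegree + 1) => P'.coeff k)
    (fun k => ζ ^ (k : ℕ))
    (fun k => by rw [← pow_mul, mul_comm, pow_mul, hζ.pow_eq_one, one_pow])
    (by rw [poly_sum]; exact h3)
  rw [Nat.totient_prime_pow_succ Nat.prime_two] at hb
  simp only [Nat.add_one_sub_one, mul_one] at hb
  have h4 : ∑ j ∈ oddJ n, ‖∑ i, (a i : ℂ) * μ i ^ j‖ ^ 2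
      = 4 ^ h * ∑ j ∈ oddJ n, ‖∑ k : Fin (P'.natDegree + 1), ((P'.coeff k : ℤ) : ℂ) * (ζ ^ (k : ℕ)) ^ j‖ ^ 2 := by
    rw [Finset.mul_sum]
    apply Finset.sum_congr rfl; intro j hj
    rw [← hP j, hP' _ (pow_pow_half_of_mem hζm hj), ← poly_data, norm_mul, mul_pow, norm_pow]
    congr 1
    rw [← pow_mul, mul_comm, pow_mul]
    norm_num
  rw [h4, mul_comm]
  exact mul_le_mul_of_nonneg_left hb (by positivity)

/-- the normalised trace of a real element of `ℤ[ζ]` divisible by `2 ^ h` -/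
theorem real_avg_div (hM : IsPModular 2 M) (a : I → ℤ) (μ : I → ℂ)
    (hμ : ∀ i, μ i ^ (2 ^ (n + 1)) = 1)
    (hreal : ∀ j ∈ oddJ n, conj (∑ i, (a i : ℂ) * μ i ^ j) = ∑ i, (a i : ℂ) * μ i ^ j)
    (h : ℕ) {w : ℂ} (hw : MemLocalRing M w) (he : ∑ i, (a i : ℂ) * μ i = 2 ^ h * w) :
    ∃ A' : ℤ, ∑ j ∈ oddJ n, (∑ i, (a i : ℂ) * μ i ^ j) = ((2 ^ n : ℕ) : ℂ) * (2 ^ h * (A' : ℂ)) ∧
      (MemLocalIdeal M w ↔ (2 : ℤ) ∣ A') := by
  have hζ := Complex.isPrimitiveRoot_exp (2 ^ (n + 1)) (pow_ne_zero _ (by norm_num))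
  set ζ := Complex.exp (2 * Real.pi * Complex.I / ((2 ^ (n + 1) : ℕ) : ℂ)) with hζdef
  have hζm := pow_half_eq_neg_one hζ
  have hζ1 : MemLocalIdeal M (ζ - 1) :=
    memLocalIdeal_sub_one_of_pow_eq_one hM (k := n + 1) hζ.pow_eq_one
  obtain ⟨P, hP⟩ := exists_poly hζ a μ hμ
  have h1 : aeval ζ P = 2 ^ h * w := by
    have := hP 1
    simp only [pow_one] at this
    rw [this, he]
  obtain ⟨P', hP'⟩ := exists_two_pow_div hM hζm h P ⟨w, hw, h1⟩
  have h2 : aeval ζ P' = w := by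
    have h3 := hP' ζ hζm
    rw [h1] at h3
    exact (mul_left_cancel₀ (pow_ne_zero h (by norm_num)) h3).symm
  have h20 : (2 : ℂ) ^ h ≠ 0 := pow_ne_zero h (by norm_num)
  obtain ⟨A', hA1, hA2⟩ := real_avg hζ (fun k : Fin (P'.natDegree + 1) => P'.coeff k)
    (fun k => ζ ^ (k : ℕ))
    (fun k => by rw [← pow_mul, mul_comm, pow_mul, hζ.pow_eq_one, one_pow])
    (by
      intro j hj
      rw [← poly_data]
      have h5 := hreal j hj
      rw [← hP j, hP' _ (pow_pow_half_of_mem hζm hj), map_mul, map_pow] at h5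
      have h6 : conj (2 : ℂ) = 2 := Complex.conj_ofNat 2
      rw [h6] at h5
      exact mul_left_cancel₀ h20 h5)
  refine ⟨A', ?_, ?_⟩
  · have : ∑ j ∈ oddJ n, (∑ i, (a i : ℂ) * μ i ^ j)
        = 2 ^ h * ∑ j ∈ oddJ n, ∑ k : Fin (P'.natDegree + 1), ((P'.coeff k : ℤ) : ℂ) * (ζ ^ (k : ℕ)) ^ j := by
      rw [Finset.mul_sum]
      apply Finset.sum_congr rfl; intro j hj
      rw [← hP j, hP' _ (pow_pow_half_of_mem hζm hj), ← poly_data]
    rw [this, hA1]; ring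
  · rw [poly_sum] at hA2
    rw [← h2, aeval_memLocalIdeal_iff hM hζ1]
    push_cast
    constructor
    · intro h7
      have := dvd_add hA2 h7
      simpa using this
    · intro h7
      have := dvd_sub h7 hA2
      simpa using this

end Data

end Cfsg.Agent.Lib.Helper81
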