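import Cfsg.Agent.Lib.Helper4.PermChar
import Cfsg.Agent.Lib.Helper20.CharBasic

set_option autoImplicit false
set_option linter.unusedSectionVars false
open Cfsg
open Cfsg.Agent.Lib.Helper20

namespace Cfsg.Agent.Lib.Helper81

section PRegChar

variable {E : Type*} [Group E] [Finite E] {p : ℕ}

theorem mem_iff_not_dvd_orderOf (hp : p.Prime) (H : Subgroup E) [H.Normal]
    (hH : ¬ p ∣ Nat.card H) {n : ℕ} (hidx : H.index = p ^ n) (e : E) :
    e ∈ H ↔ ¬ p ∣ orderOf e := by
  constructor
  · intro he hd
    apply hH
    have h2 : orderOf e ∣ Nat.card H := by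
      have := orderOf_dvd_natCard (⟨e, he⟩ : H)
      rwa [← Subgroup.orderOf_coe] at this
    exact hd.trans h2
  · intro hd
    rw [← QuotientGroup.eq_one_iff, ← orderOf_eq_one_iff]
    have d1 : orderOf (e : E ⧸ H) ∣ orderOf e := orderOf_map_dvd (QuotientGroup.mk' H) e
    have d2 : orderOf (e : E ⧸ H) ∣ p ^ n := by
      rw [← hidx, Subgroup.index_eq_card]
      exact orderOf_dvd_natCard _
    have hc : Nat.Coprime (orderOf e) (p ^ n) :=
      Nat.Coprime.pow_right n ((Nat.Prime.coprime_iff_not_dvd hp).2 hd).symm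
    exact Nat.eq_one_of_dvd_coprimes hc d1 d2

/-- If `E` has a normal `p`-complement of index `p ^ n` then `p ^ n` times the indicator function
of the `p`-regular elements is a character. -/
theorem isCharacter_pReg_of_complement (hp : p.Prime) (H : Subgroup E) [H.Normal]
    (hH : ¬ p ∣ Nat.card H) {n : ℕ} (hidx : H.index = p ^ n) :
    IsCharacter E (fun e => if p ∣ orderOf e then 0 else ((p ^ n : ℕ) : ℂ)) := by
  classical
  have h1 := Cfsg.Agent.Lib.Helper4.isCharacter_fixedBy (G := E) (X := E ⧸ H)
  convert h1 using 1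
  funext e
  by_cases he : e ∈ H
  · have hd := (mem_iff_not_dvd_orderOf hp H hH hidx e).1 he
    rw [if_neg hd]
    have : MulAction.fixedBy (E ⧸ H) e = Set.univ := by
      ext q
      simp only [MulAction.mem_fixedBy, Set.mem_univ, iff_true]
      induction q using QuotientGroup.induction_on with
      | H a =>
        show ((e * a : E) : E ⧸ H) = (a : E ⧸ H)
        rw [QuotientGroup.eq]
        have h3 : (e * a)⁻¹ * a = a⁻¹ * e⁻¹ * a⁻¹⁻¹ := by group
        rw [h3]
        exact Subgroup.Normal.conj_mem inferInstance _ (H.inv_mem he) _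
    rw [this, Nat.card_coe_set_eq, Set.ncard_univ, ← Subgroup.index_eq_card, hidx]
  · have hd : p ∣ orderOf e := by
      by_contra h
      exact he ((mem_iff_not_dvd_orderOf hp H hH hidx e).2 h)
    rw [if_pos hd]
    have : MulAction.fixedBy (E ⧸ H) e = ∅ := by
      ext q
      simp only [MulAction.mem_fixedBy, Set.mem_empty_iff_false, iff_false]
      induction q using QuotientGroup.induction_on with
      | H a =>
        intro h
        have h' : ((e * a : E) : E ⧸ H) = (a : E ⧸ H) := h
        rw [QuotientGroup.eq] at h'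
        apply he
        have h4 := Subgroup.Normal.conj_mem (inferInstance : H.Normal) _ (H.inv_mem h') a
        have h3 : a * ((e * a)⁻¹ * a)⁻¹ * a⁻¹ = e := by group
        rwa [h3] at h4
    rw [this]
    simp

theorem exists_normal_pComplement_of_isElementary {q : ℕ} (hp : p.Prime) (hq : q.Prime)
    (hE : IsElementary q E) :
    ∃ (H : Subgroup E) (n : ℕ), H.Normal ∧ ¬ p ∣ Nat.card H ∧ H.index = p ^ n := by
  obtain ⟨x, hx, hcop, k, hk⟩ := hE
  have hnorm : (Subgroup.zpowers x).Normal := by
    constructor
    intro y hy g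
    obtain ⟨m, rfl⟩ := Subgroup.mem_zpowers_iff.1 hy
    have hc : x ^ m ∈ Subgroup.center E := Subgroup.zpow_mem _ hx m
    have : g * x ^ m * g⁻¹ = x ^ m := by
      rw [Subgroup.mem_center_iff] at hc
      rw [hc g, mul_inv_cancel_right]
    rw [this]
    exact Subgroup.zpow_mem _ (Subgroup.mem_zpowers x) m
  by_cases hpq : p = q
  · subst hpq
    refine ⟨Subgroup.zpowers x, k, hnorm, ?_, hk⟩
    rw [Nat.card_zpowers]
    exact (Nat.Prime.coprime_iff_not_dvd hp).1 hcop.symm
  · have : Fact p.Prime := ⟨hp⟩
    obtain ⟨P⟩ : Nonempty (Sylow p E) := inferInstance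
    have hPc : (P : Subgroup E) ≤ Subgroup.center E := by
      intro g hg
      have hgx : g ∈ Subgroup.zpowers x := by
        rw [← QuotientGroup.eq_one_iff, ← orderOf_eq_one_iff]
        obtain ⟨j, hj⟩ := P.2 ⟨g, hg⟩
        have hj' : g ^ p ^ j = 1 := congrArg Subtype.val hj
        have d1 : orderOf (g : E ⧸ Subgroup.zpowers x) ∣ p ^ j :=
          (orderOf_map_dvd (QuotientGroup.mk' (Subgroup.zpowers x)) g).trans
            (orderOf_dvd_of_pow_eq_one hj')
        have d2 : orderOf (g : E ⧸ Subgroup.zpowers x) ∣ q ^ k := by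
          rw [← hk, Subgroup.index_eq_card]
          exact orderOf_dvd_natCard _
        have hc : Nat.Coprime (p ^ j) (q ^ k) :=
          Nat.Coprime.pow _ _ ((Nat.coprime_primes hp hq).2 hpq)
        exact Nat.eq_one_of_dvd_coprimes hc d1 d2
      obtain ⟨m, rfl⟩ := Subgroup.mem_zpowers_iff.1 hgx
      exact Subgroup.zpow_mem _ hx m
    have hP : Subgroup.normalizer (P : Set E) ≤ Subgroup.centralizer (P : Set E) := by
      intro g _
      rw [Subgroup.mem_centralizer_iff]
      intro h hh
      exact ((Subgroup.mem_center_iff.1 (hPc hh)) g).symm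
    have hcompl := MonoidHom.ker_transferSylow_isComplement' P hP
    refine ⟨(MonoidHom.transferSylow P hP).ker, (Nat.card E).factorization p, inferInstance,
      MonoidHom.not_dvd_card_ker_transferSylow P hP, ?_⟩
    rw [hcompl.symm.index_eq_card, P.card_eq_multiplicity]

theorem isCharacter_natCast_mul {G : Type*} [Group G] (n : ℕ) {χ : G → ℂ} (hχ : IsCharacter G χ) :
    IsCharacter G (fun g => (n : ℂ) * χ g) := by
  induction n with
  | zero =>
    have h0 : (fun g => ((0 : ℕ) : ℂ) * χ g) = (0 : G → ℂ) := by funext g; simp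
    rw [h0]; exact isCharacter_zero
  | succ n ih =>
    have := isCharacter_add ih hχ
    convert this using 1
    funext g
    simp only [Pi.add_apply]
    push_cast; ring

end PRegChar

/-- The restriction of `p ^ a χ°` to an elementary subgroup is a character. -/
theorem isCharacter_pReg_restrict {G : Type*} [Group G] [Finite G] {p q : ℕ} (hp : p.Prime)
    (hq : q.Prime) {χ : G → ℂ} (hχ : IsCharacter G χ) (E : Subgroup G) (hE : IsElementary q E) :
    IsCharacter E (fun e : E => if p ∣ orderOf (e : G) then 0
      else ((p ^ (Nat.card G).factorization p : ℕ) : ℂ) * χ e) := by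
  obtain ⟨H, n, hH, hHc, hidx⟩ := exists_normal_pComplement_of_isElementary hp hq hE
  have h1 := isCharacter_pReg_of_complement hp H hHc hidx
  have h2 := isCharacter_mul h1 (isCharacter_restrict hχ E)
  have hn : n ≤ (Nat.card G).factorization p := by
    have d1 : p ^ n ∣ Nat.card E := hidx ▸ Subgroup.index_dvd_card H
    have d2 : p ^ n ∣ Nat.card G := d1.trans (Subgroup.card_subgroup_dvd_card E)
    exact (hp.pow_dvd_iff_le_factorization Nat.card_pos.ne').1 d2
  have h3 := isCharacter_natCast_mul (p ^ ((Nat.card G).factorization p - n)) h2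
  convert h3 using 1
  funext e
  simp only [Pi.mul_apply, Subgroup.orderOf_coe]
  split_ifs
  · simp
  · have : p ^ (Nat.card G).factorization p = p ^ ((Nat.card G).factorization p - n) * p ^ n := by
      rw [← pow_add, Nat.sub_add_cancel hn]
    rw [this]
    push_cast
    ring

end Cfsg.Agent.Lib.Helper81
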