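import Cfsg.Agent.Lib.Helper81.Heights
import Cfsg.Agent.S0961
import Cfsg.Agent.Lib.Helper32.GenChar

set_option autoImplicit false
set_option linter.unusedSectionVars false
open Cfsg
open scoped ComplexConjugate
open Cfsg.Agent.Lib.Helper20

namespace Cfsg.Agent.Lib.Helper81

section IntLemmas

variable {p : ℕ} {M : Ideal AlgInt}

theorem intCast_eq_natAbs_or (n : ℤ) : (n : ℂ) = (n.natAbs : ℂ) ∨ (n : ℂ) = -(n.natAbs : ℂ) := by
  rcases Int.natAbs_eq n with h | h
  · left; conv_lhs => rw [h]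
    simp
  · right; conv_lhs => rw [h]
    simp

theorem factorization_mul_of_not_dvd (_hp : p.Prime) {u N : ℕ} (hu : ¬ p ∣ u) (hN : N ≠ 0) :
    (u * N).factorization p = N.factorization p := by
  have hu0 : u ≠ 0 := by rintro rfl; exact hu (dvd_zero p)
  rw [Nat.factorization_mul hu0 hN]
  simp [Nat.factorization_eq_zero_of_not_dvd hu]

theorem memLocalRing_int_iff (hM : IsPModular p M) {n : ℤ} (hn : n ≠ 0) {u b : ℕ} (hu : ¬ p ∣ u)
    (hb : b ≠ 0) :
    MemLocalRing M ((u : ℂ) * n / b) ↔ b.factorization p ≤ n.natAbs.factorization p := by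
  have hN : n.natAbs ≠ 0 := Int.natAbs_ne_zero.2 hn
  have hu0 : u ≠ 0 := by rintro rfl; exact hu (dvd_zero p)
  rw [← factorization_mul_of_not_dvd hM.1 hu hN,
    ← memLocalRing_natCast_div_iff hM (mul_ne_zero hu0 hN) hb]
  rcases intCast_eq_natAbs_or n with h | h
  · rw [h]; push_cast; rfl
  · rw [h]; push_cast
    constructor
    · intro h1
      have := memLocalRing_neg h1
      convert this using 1; ring
    · intro h1
      have := memLocalRing_neg h1
      convert this using 1; ring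

theorem memLocalIdeal_int_iff (hM : IsPModular p M) {n : ℤ} (hn : n ≠ 0) {u b : ℕ} (hu : ¬ p ∣ u)
    (hb : b ≠ 0) :
    MemLocalIdeal M ((u : ℂ) * n / b) ↔ b.factorization p < n.natAbs.factorization p := by
  have hN : n.natAbs ≠ 0 := Int.natAbs_ne_zero.2 hn
  have hu0 : u ≠ 0 := by rintro rfl; exact hu (dvd_zero p)
  rw [← factorization_mul_of_not_dvd hM.1 hu hN,
    ← memLocalIdeal_natCast_div_iff hM (mul_ne_zero hu0 hN) hb]
  rcases intCast_eq_natAbs_or n with h | h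
  · rw [h]; push_cast; rfl
  · rw [h]; push_cast
    constructor
    · intro h1
      have := memLocalIdeal_neg h1
      convert this using 1; ring
    · intro h1
      have := memLocalIdeal_neg h1
      convert this using 1; ring

end IntLemmas

section Integrality

variable {G : Type*} [Group G] [Fintype G] {p : ℕ} {M : Ideal AlgInt}

theorem pRegularPart_smul_eq (c : ℂ) (χ : G → ℂ) :
    (fun x : G => if p ∣ orderOf x then (0 : ℂ) else c * χ x) = c • pRegularPart p χ := by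
  classical
  funext x
  rw [pRegularPart_eq]
  simp only [Pi.smul_apply, smul_eq_mul, IsPRegular]
  by_cases h : p ∣ orderOf x
  · simp [h]
  · simp [h]

theorem exists_int_mC (hp : p.Prime) (χ ψ : IrrCharacter G) :
    ∃ n : ℤ, ((p ^ (Nat.card G).factorization p : ℕ) : ℂ) * mC p (χ : G → ℂ) (ψ : G → ℂ) = n := by
  have : Fact p.Prime := ⟨hp⟩
  have h1 := Cfsg.Agent.S0961.result p χ
  obtain ⟨n, hn⟩ := Cfsg.Agent.Lib.Helper32.genChar_inner_irr_int h1 ψ.2
  refine ⟨n, ?_⟩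
  rw [← hn, pRegularPart_smul_eq, classInner_smul_left]
  rfl

open Classical in
/-- the integer `p ^ a m_{χψ}` -/
noncomputable def nC (p : ℕ) (χ ψ : IrrCharacter G) : ℤ :=
  if hp : p.Prime then Classical.choose (exists_int_mC hp χ ψ) else 0

theorem nC_spec (hp : p.Prime) (χ ψ : IrrCharacter G) :
    (nC p χ ψ : ℂ) = ((p ^ (Nat.card G).factorization p : ℕ) : ℂ) * mC p (χ : G → ℂ) (ψ : G → ℂ) := by
  rw [nC, dif_pos hp]
  exact (Classical.choose_spec (exists_int_mC hp χ ψ)).symm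

theorem nC_symm (hp : p.Prime) (χ ψ : IrrCharacter G) : nC p χ ψ = nC p ψ χ := by
  have : (nC p χ ψ : ℂ) = (nC p ψ χ : ℂ) := by rw [nC_spec hp, nC_spec hp, mC_symm]
  exact_mod_cast this

theorem Sm_eq_nC (hp : p.Prime) (χ ψ : IrrCharacter G) :
    Sm p (ψ : G → ℂ) (χ : G → ℂ)
      = ((Nat.card G / p ^ (Nat.card G).factorization p : ℕ) : ℂ) * (nC p χ ψ : ℂ) /
        (charDegree (ψ : G → ℂ) : ℂ) := by
  have h1 := Nat.ordProj_mul_ordCompl_eq_self (Nat.card G) p
  have e1 : (Nat.card G : ℂ) = ((p ^ (Nat.card G).factorization p : ℕ) : ℂ) *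
      ((Nat.card G / p ^ (Nat.card G).factorization p : ℕ) : ℂ) := by exact_mod_cast h1.symm
  rw [Sm_eq, nC_spec hp, mC_symm ψ χ, irr_one_eq]
  conv_lhs => rw [e1]
  ring

theorem not_dvd_ordCompl_card (hp : p.Prime) :
    ¬ p ∣ Nat.card G / p ^ (Nat.card G).factorization p :=
  Nat.not_dvd_ordCompl hp Nat.card_pos.ne'

/-- `p ^ ν(ψ(1))` divides `p ^ a m_{χψ}`. -/
theorem pow_nuDeg_dvd_nC (hM : IsPModular p M) (χ ψ : IrrCharacter G) :
    ((p ^ nuDeg p ψ : ℕ) : ℤ) ∣ nC p χ ψ := by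
  by_cases hn : nC p χ ψ = 0
  · rw [hn]; exact dvd_zero _
  · have h1 := Sm_memLocalRing hM ψ χ
    rw [Sm_eq_nC hM.1, memLocalRing_int_iff hM hn (not_dvd_ordCompl_card hM.1)
      (charDegree_ne_zero ψ)] at h1
    rw [Int.natCast_dvd]
    exact (hM.1.pow_dvd_iff_le_factorization (Int.natAbs_ne_zero.2 hn)).2 h1

theorem nC_eq_zero (hM : IsPModular p M) {χ ψ : IrrCharacter G}
    (h : ¬ SameBlock M (χ : G → ℂ) (ψ : G → ℂ)) : nC p χ ψ = 0 := by
  have : (nC p χ ψ : ℂ) = 0 := by rw [nC_spec hM.1, mC_eq_zero hM h, mul_zero]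
  exact_mod_cast this

/-- height zero: exact valuation -/
theorem nC_of_height_zero (hM : IsPModular p M) {B : Set (IrrCharacter G)} (hB : IsPBlock M B)
    {χ ψ : IrrCharacter G} (hχ : χ ∈ B) (hψ : ψ ∈ B) (h0 : blockHeight p B (χ : G → ℂ) = 0) :
    nC p χ ψ ≠ 0 ∧ (nC p χ ψ).natAbs.factorization p = nuDeg p ψ := by
  have h1 := Sm_unit_of_height_zero hM hB hχ hψ h0
  have h2 := Sm_memLocalRing hM ψ χ
  rw [Sm_eq_nC hM.1] at h1 h2
  have hn : nC p χ ψ ≠ 0 := by
    intro h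
    apply h1
    rw [h]; simpa using memLocalIdeal_zero hM
  refine ⟨hn, ?_⟩
  rw [memLocalIdeal_int_iff hM hn (not_dvd_ordCompl_card hM.1) (charDegree_ne_zero ψ)] at h1
  rw [memLocalRing_int_iff hM hn (not_dvd_ordCompl_card hM.1) (charDegree_ne_zero ψ)] at h2
  simp only [nuDeg]
  omega

/-- positive height: valuation too large -/
theorem nC_of_height_pos (hM : IsPModular p M) {B : Set (IrrCharacter G)} (hB : IsPBlock M B)
    {χ ψ : IrrCharacter G} (hχ : χ ∈ B) (hψ : ψ ∈ B) (h0 : blockHeight p B (χ : G → ℂ) ≠ 0)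
    (hn : nC p χ ψ ≠ 0) : nuDeg p ψ < (nC p χ ψ).natAbs.factorization p := by
  have h1 := Sm_memLocalIdeal_of_height_pos hM hB hχ hψ h0
  rw [Sm_eq_nC hM.1, memLocalIdeal_int_iff hM hn (not_dvd_ordCompl_card hM.1)
    (charDegree_ne_zero ψ)] at h1
  exact h1

end Integrality

end Cfsg.Agent.Lib.Helper81
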