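import Cfsg.Agent.Lib.Helper81.SubsecMajor2
import Cfsg.Agent.Lib.Helper21.DefectCard

set_option autoImplicit false
set_option linter.unusedSectionVars false
open Cfsg
open scoped ComplexConjugate
open Cfsg.Agent.Lib.Helper20

namespace Cfsg.Agent.Lib.Helper81

section Setup

variable {G : Type*} [Group G] [Fintype G] {p : ℕ} {M : Ideal AlgInt}

theorem major_setup [Fact p.Prime] (hM : IsPModular p M) {B : Set (IrrCharacter G)}
    (hB : IsPBlock M B) {D : Subgroup G} (hD : IsDefectGroup p M B D) {z : G} (hzD : z ∈ D)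
    (hzc : ∀ d ∈ D, d * z = z * d)
    {b : Set (IrrCharacter (Subgroup.centralizer ({z} : Set G)))}
    (hb : IsInducedBlock M (Subgroup.centralizer ({z} : Set G)) b B)
    (hbD : IsDefectGroup p M b (D.subgroupOf (Subgroup.centralizer ({z} : Set G)))) :
    (∃ n, SubsecData p M (Subgroup.centralizer ({z} : Set G)) z n b B) ∧
      blockDefect p b = blockDefect p B := by
  classical
  have : Fintype (Subgroup.centralizer ({z} : Set G)) := Fintype.ofFinite _
  have hp : p.Prime := Fact.out
  have h1 := Cfsg.Agent.Lib.Helper21.card_defectGroup hM B hB D hD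
  have h2 := Cfsg.Agent.Lib.Helper21.card_defectGroup hM b hb.1 _ hbD
  have hle : D ≤ Subgroup.centralizer ({z} : Set G) := by
    intro d hd
    rw [Subgroup.mem_centralizer_iff]
    intro h hh
    rw [Set.mem_singleton_iff.1 hh]
    exact (hzc d hd).symm
  have h3 : Nat.card (D.subgroupOf (Subgroup.centralizer ({z} : Set G))) = Nat.card D :=
    Nat.card_congr (Subgroup.subgroupOfEquivOfLe hle).toEquiv
  constructor
  · have h4 : orderOf z ∣ p ^ blockDefect p B := by
      rw [← h1]
      have := orderOf_dvd_natCard (⟨z, hzD⟩ : D)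
      rwa [Subgroup.orderOf_mk] at this
    obtain ⟨n, _, hn⟩ := (Nat.dvd_prime_pow hp).1 h4
    exact ⟨n, hM, hn, Subgroup.mem_centralizer_iff.2 (by
      intro h hh'; rw [Set.mem_singleton_iff.1 hh']),
      fun c => Subgroup.mem_centralizer_iff.1 c.2 z rfl, le_rfl, hb⟩
  · rw [h3, h1] at h2
    exact (Nat.pow_right_injective hp.two_le h2).symm

end Setup

end Cfsg.Agent.Lib.Helper81
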