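import Mathlib

set_option autoImplicit false
open scoped ComplexConjugate

namespace Cfsg.Agent.Lib.Helper81

section Comb

theorem int_sq_add_self_nonneg (m : ℤ) : 0 ≤ m ^ 2 + m := by
  rcases le_or_gt 0 m with h | h
  · positivity
  · have h1 : m + 1 ≤ 0 := by omega
    nlinarith

theorem bracket_ge {α : Type*} (S : Finset α) (x : α → ℤ) (P : ℕ) (hS : S.card ≤ P) (ρ q : ℤ)
    (h : ∑ w ∈ S, x w = -ρ - P * q) :
    (P : ℤ) * ρ - ρ ^ 2 ≤ P * ∑ w ∈ S, x w ^ 2 - (∑ w ∈ S, x w) ^ 2 := by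
  have E1 : 0 ≤ ∑ w ∈ S, ((x w + q) ^ 2 + (x w + q)) :=
    Finset.sum_nonneg (fun w _ => int_sq_add_self_nonneg _)
  have E1' : ∑ w ∈ S, ((x w + q) ^ 2 + (x w + q))
      = ∑ w ∈ S, x w ^ 2 + (2 * q + 1) * ∑ w ∈ S, x w + S.card * (q ^ 2 + q) := by
    have : ∀ w, (x w + q) ^ 2 + (x w + q) = x w ^ 2 + (2 * q + 1) * x w + (q ^ 2 + q) := by
      intro w; ring
    simp only [this, Finset.sum_add_distrib, ← Finset.mul_sum, Finset.sum_const, nsmul_eq_mul]
    ring
  have E2 : 0 ≤ ((P : ℤ) - S.card) * (q ^ 2 + q) :=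
    mul_nonneg (by have : (S.card : ℤ) ≤ P := by exact_mod_cast hS
                   linarith) (int_sq_add_self_nonneg q)
  rw [E1'] at E1
  set X := ∑ w ∈ S, x w ^ 2
  rw [h] at E1 ⊢
  have E3 : 0 ≤ X + (2 * q + 1) * (-ρ - P * q) + (P : ℤ) * (q ^ 2 + q) := by nlinarith
  have hP0 : (0 : ℤ) ≤ P := Int.natCast_nonneg _
  have E4 := mul_nonneg hP0 E3
  nlinarith

theorem bracket_nonneg {α : Type*} (S : Finset α) (x : α → ℤ) (P : ℕ) (hP : 0 < P)
    (hS : S.card ≤ P) : 0 ≤ (P : ℤ) * ∑ w ∈ S, x w ^ 2 - (∑ w ∈ S, x w) ^ 2 := by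
  have hP' : (0 : ℤ) < P := by exact_mod_cast hP
  set T := ∑ w ∈ S, x w with hT
  have h1 := Int.emod_add_mul_ediv (-T) P
  have h2 := Int.emod_nonneg (-T) hP'.ne'
  have h3 := Int.emod_lt_of_pos (-T) hP'
  have := bracket_ge S x P hS ((-T) % P) ((-T) / P) (by rw [← hT]; linarith)
  nlinarith

theorem bracket_ge_of_not_dvd {α : Type*} (S : Finset α) (x : α → ℤ) (P : ℕ) (hP : 0 < P)
    (hS : S.card ≤ P) (hT : ¬ (P : ℤ) ∣ ∑ w ∈ S, x w) :
    (P : ℤ) - 1 ≤ (P : ℤ) * ∑ w ∈ S, x w ^ 2 - (∑ w ∈ S, x w) ^ 2 := by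
  have hP' : (0 : ℤ) < P := by exact_mod_cast hP
  set T := ∑ w ∈ S, x w with hTdef
  have h1 := Int.emod_add_mul_ediv (-T) P
  have h2 := Int.emod_nonneg (-T) hP'.ne'
  have h3 := Int.emod_lt_of_pos (-T) hP'
  have h4 : (-T) % P ≠ 0 := by
    intro h0
    apply hT
    have : (P : ℤ) ∣ -T := Int.dvd_of_emod_eq_zero h0
    exact (dvd_neg).1 this
  have := bracket_ge S x P hS ((-T) % P) ((-T) / P) (by rw [← hTdef]; linarith)
  set ρ := (-T) % P
  have h5 : 1 ≤ ρ := by omega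
  have h6 : ρ ≤ P - 1 := by omega
  nlinarith

theorem sum_sum_ite_eq_sum_sq {I α : Type*} [Fintype I] [DecidableEq α] (a : I → ℤ) (v : I → α) :
    ∑ i, ∑ i', (if v i = v i' then a i * a i' else 0)
      = ∑ w ∈ Finset.univ.image v, (∑ i with v i = w, a i) ^ 2 := by
  have h1 : ∀ w ∈ Finset.univ.image v, (∑ i with v i = w, a i) ^ 2
      = ∑ i with v i = w, a i * ∑ i' with v i' = v i, a i' := by
    intro w _
    rw [sq, Finset.sum_mul]
    apply Finset.sum_congr rfl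
    intro i hi
    rw [(Finset.mem_filter.1 hi).2]
  rw [Finset.sum_congr rfl h1,
    Finset.sum_fiberwise_of_maps_to (fun i _ => Finset.mem_image_of_mem v (Finset.mem_univ i))]
  apply Finset.sum_congr rfl; intro i _
  rw [Finset.mul_sum, Finset.sum_filter]
  apply Finset.sum_congr rfl; intro i' _
  by_cases h : v i = v i'
  · rw [if_pos h, if_pos h.symm]
  · rw [if_neg h, if_neg (fun h' => h h'.symm)]

theorem comb_bound {I α β : Type*} [Fintype I] [DecidableEq α] [DecidableEq β] (a : I → ℤ)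
    (v : I → α) (u : α → β) (P : ℕ) (hP : 0 < P)
    (hfib : ∀ (S : Finset α) (t : β), (∀ w ∈ S, u w = t) → S.card ≤ P)
    (ha : ¬ (P : ℤ) ∣ ∑ i, a i) :
    (P : ℤ) - 1 ≤ P * (∑ i, ∑ i', (if v i = v i' then a i * a i' else 0))
      - ∑ i, ∑ i', (if u (v i) = u (v i') then a i * a i' else 0) := by
  rw [sum_sum_ite_eq_sum_sq a v, sum_sum_ite_eq_sum_sq a (fun i => u (v i))]
  set V := Finset.univ.image v with hV
  set U := Finset.univ.image (fun i => u (v i)) with hU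
  set A : α → ℤ := fun w => ∑ i with v i = w, a i with hA
  have hmaps : ∀ w ∈ V, u w ∈ U := by
    intro w hw
    obtain ⟨i, _, rfl⟩ := Finset.mem_image.1 hw
    exact Finset.mem_image_of_mem (fun i => u (v i)) (Finset.mem_univ i)
  have hT : ∀ t, (∑ i with u (v i) = t, a i) = ∑ w ∈ V with u w = t, A w := by
    intro t
    have hm : ∀ i ∈ Finset.univ.filter (fun i => u (v i) = t), v i ∈ V.filter (fun w => u w = t) := by
      intro i hi
      exact Finset.mem_filter.2 ⟨Finset.mem_image_of_mem v (Finset.mem_univ i),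
        (Finset.mem_filter.1 hi).2⟩
    rw [← Finset.sum_fiberwise_of_maps_to hm]
    apply Finset.sum_congr rfl
    intro w hw
    apply Finset.sum_congr _ (fun _ _ => rfl)
    ext i
    simp only [Finset.mem_filter, Finset.mem_univ, true_and]
    constructor
    · rintro ⟨_, h⟩; exact h
    · intro h; exact ⟨by rw [h]; exact (Finset.mem_filter.1 hw).2, h⟩
  have h1 : ∑ w ∈ V, A w ^ 2 = ∑ t ∈ U, ∑ w ∈ V with u w = t, A w ^ 2 :=
    (Finset.sum_fiberwise_of_maps_to hmaps _).symm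
  have h2 : (P : ℤ) * ∑ w ∈ V, A w ^ 2 - ∑ t ∈ U, (∑ i with u (v i) = t, a i) ^ 2
      = ∑ t ∈ U, ((P : ℤ) * ∑ w ∈ V with u w = t, A w ^ 2 - (∑ w ∈ V with u w = t, A w) ^ 2) := by
    rw [h1, Finset.mul_sum, ← Finset.sum_sub_distrib]
    apply Finset.sum_congr rfl; intro t _
    rw [hT]
  rw [h2]
  have hcard : ∀ t, (V.filter (fun w => u w = t)).card ≤ P := fun t =>
    hfib _ t (fun w hw => (Finset.mem_filter.1 hw).2)
  have hex : ∃ t ∈ U, ¬ (P : ℤ) ∣ ∑ w ∈ V with u w = t, A w := by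
    by_contra hcon
    push Not at hcon
    apply ha
    have : ∑ i, a i = ∑ t ∈ U, ∑ w ∈ V with u w = t, A w := by
      rw [← Finset.sum_fiberwise_of_maps_to
        (fun i _ => Finset.mem_image_of_mem (fun i => u (v i)) (Finset.mem_univ i))]
      apply Finset.sum_congr rfl; intro t _
      exact hT t
    rw [this]
    exact Finset.dvd_sum hcon
  obtain ⟨t₀, ht₀, hnd⟩ := hex
  calc (P : ℤ) - 1 ≤ (P : ℤ) * ∑ w ∈ V with u w = t₀, A w ^ 2 - (∑ w ∈ V with u w = t₀, A w) ^ 2 :=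
        bracket_ge_of_not_dvd _ A P hP (hcard t₀) hnd
    _ ≤ _ := Finset.single_le_sum
        (f := fun t => (P : ℤ) * ∑ w ∈ V with u w = t, A w ^ 2 - (∑ w ∈ V with u w = t, A w) ^ 2)
        (fun t _ => bracket_nonneg _ A P hP (hcard t)) ht₀

end Comb

section Analytic

theorem geom_root {K : ℕ} {ν : ℂ} (hν : ν ^ K = 1) :
    ∑ j ∈ Finset.range K, ν ^ j = if ν = 1 then (K : ℂ) else 0 := by
  split_ifs with h
  · simp [h]
  · rw [geom_sum_eq h, hν, sub_self, zero_div]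

theorem mul_conj_eq_one_iff {K : ℕ} (hK : K ≠ 0) {a b : ℂ} (hb : b ^ K = 1) :
    a * conj b = 1 ↔ a = b := by
  have hnb : ‖b‖ = 1 := Complex.norm_eq_one_of_pow_eq_one hb hK
  have h1 : b * conj b = 1 := by
    rw [Complex.mul_conj, Complex.normSq_eq_norm_sq, hnb]; simp
  constructor
  · intro h
    calc a = a * (b * conj b) := by rw [h1, mul_one]
      _ = (a * conj b) * b := by ring
      _ = b := by rw [h, one_mul]
  · rintro rfl; exact h1

open Classical in
theorem parseval_full {I : Type*} [Fintype I] {K : ℕ} (hK : K ≠ 0) (a : I → ℤ) (μ : I → ℂ)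
    (hμ : ∀ i, μ i ^ K = 1) :
    ∑ j ∈ Finset.range K, (∑ i, (a i : ℂ) * μ i ^ j) * conj (∑ i, (a i : ℂ) * μ i ^ j)
      = (K : ℂ) * ((∑ i, ∑ i', (if μ i = μ i' then a i * a i' else 0) : ℤ) : ℂ) := by
  have h1 : ∀ j : ℕ, (∑ i, (a i : ℂ) * μ i ^ j) * conj (∑ i, (a i : ℂ) * μ i ^ j)
      = ∑ i, ∑ i', ((a i : ℂ) * (a i' : ℂ)) * (μ i * conj (μ i')) ^ j := by
    intro j
    rw [map_sum, Finset.sum_mul_sum]
    apply Finset.sum_congr rfl; intro i _
    apply Finset.sum_congr rfl; intro i' _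
    simp only [map_mul, map_pow, map_intCast, mul_pow]
    ring
  simp only [h1]
  rw [Finset.sum_comm]
  push_cast
  rw [Finset.mul_sum]
  apply Finset.sum_congr rfl; intro i _
  rw [Finset.sum_comm, Finset.mul_sum]
  apply Finset.sum_congr rfl; intro i' _
  rw [← Finset.mul_sum]
  have hν : (μ i * conj (μ i')) ^ K = 1 := by
    rw [mul_pow, ← map_pow, hμ, hμ]; simp
  rw [geom_root hν]
  by_cases h : μ i = μ i'
  · rw [if_pos ((mul_conj_eq_one_iff hK (hμ i')).2 h), if_pos h]; push_cast; ring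
  · rw [if_neg (fun h' => h ((mul_conj_eq_one_iff hK (hμ i')).1 h')), if_neg h]; simp

theorem card_le_of_pow_eq {P : ℕ} (hP : 0 < P) (S : Finset ℂ) (t : ℂ) (h : ∀ w ∈ S, w ^ P = t) :
    S.card ≤ P := by
  classical
  have h1 : S ⊆ (Polynomial.nthRoots P t).toFinset := by
    intro w hw
    rw [Multiset.mem_toFinset, Polynomial.mem_nthRoots hP]
    exact h w hw
  calc S.card ≤ (Polynomial.nthRoots P t).toFinset.card := Finset.card_le_card h1
    _ ≤ Multiset.card (Polynomial.nthRoots P t) := Multiset.toFinset_card_le _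
    _ ≤ P := Polynomial.card_nthRoots P t

theorem normSq_eq_mul_conj' (z : ℂ) : ((‖z‖ ^ 2 : ℝ) : ℂ) = z * conj z := by
  rw [Complex.mul_conj, Complex.normSq_eq_norm_sq]

/-- An elementary substitute for "the norm of a nonzero cyclotomic integer is at least one". -/
theorem parseval_bound {p n : ℕ} (hp : p.Prime) {I : Type*} [Fintype I] (a : I → ℤ) (μ : I → ℂ)
    (hμ : ∀ i, μ i ^ (p ^ n) = 1) (ha : ¬ (p : ℤ) ∣ ∑ i, a i) :
    ((Nat.totient (p ^ n) : ℕ) : ℝ)
      ≤ ∑ j ∈ (Finset.range (p ^ n)).filter (fun j => Nat.Coprime j (p ^ n)),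
        ‖∑ i, (a i : ℂ) * μ i ^ j‖ ^ 2 := by
  classical
  cases n with
  | zero =>
    have h1 : (Finset.range (p ^ 0)).filter (fun j => Nat.Coprime j (p ^ 0)) = {0} := by
      ext j; simp
    rw [h1, Finset.sum_singleton]
    simp only [pow_zero, Nat.totient_one, Nat.cast_one, mul_one]
    have h2 : (∑ i, (a i : ℂ)) = ((∑ i, a i : ℤ) : ℂ) := by push_cast; rfl
    rw [h2, Complex.norm_intCast]
    have h3 : (∑ i, a i) ≠ 0 := by
      intro h0; apply ha; rw [h0]; exact dvd_zero _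
    have h4 : (1 : ℝ) ≤ |((∑ i, a i : ℤ) : ℝ)| := by
      have : (1 : ℤ) ≤ |∑ i, a i| := Int.one_le_abs h3
      exact_mod_cast this
    nlinarith [abs_nonneg ((∑ i, a i : ℤ) : ℝ)]
  | succ n =>
    set g : ℕ → ℝ := fun j => ‖∑ i, (a i : ℂ) * μ i ^ j‖ ^ 2 with hg
    have hN : p ^ (n + 1) ≠ 0 := pow_ne_zero _ hp.ne_zero
    have hN' : p ^ n ≠ 0 := pow_ne_zero _ hp.ne_zero
    set Q₁ : ℤ := ∑ i, ∑ i', (if μ i = μ i' then a i * a i' else 0) with hQ₁
    set Q₂ : ℤ := ∑ i, ∑ i', (if μ i ^ p = μ i' ^ p then a i * a i' else 0) with hQ₂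
    have hall : ∑ j ∈ Finset.range (p ^ (n + 1)), g j = ((p ^ (n + 1) : ℕ) : ℝ) * (Q₁ : ℝ) := by
      have := parseval_full hN a μ hμ
      have h2 : ((∑ j ∈ Finset.range (p ^ (n + 1)), g j : ℝ) : ℂ)
          = ((((p ^ (n + 1) : ℕ) : ℝ) * (Q₁ : ℝ) : ℝ) : ℂ) := by
        rw [Complex.ofReal_sum]
        simp only [hg, normSq_eq_mul_conj']
        rw [this, ← hQ₁]
        push_cast
        rfl
      exact_mod_cast h2
    have hμ' : ∀ i, (μ i ^ p) ^ (p ^ n) = 1 := by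
      intro i; rw [← pow_mul, ← pow_succ']; exact hμ i
    have hnon : ∑ j ∈ Finset.range (p ^ n), g (p * j) = ((p ^ n : ℕ) : ℝ) * (Q₂ : ℝ) := by
      have := parseval_full hN' a (fun i => μ i ^ p) hμ'
      have h2 : ((∑ j ∈ Finset.range (p ^ n), g (p * j) : ℝ) : ℂ)
          = ((((p ^ n : ℕ) : ℝ) * (Q₂ : ℝ) : ℝ) : ℂ) := by
        rw [Complex.ofReal_sum]
        simp only [hg, normSq_eq_mul_conj', pow_mul]
        rw [this, ← hQ₂]
        push_cast
        rfl
      exact_mod_cast h2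
    have hsplit : ∑ j ∈ Finset.range (p ^ (n + 1)), g j
        = ∑ j ∈ (Finset.range (p ^ (n + 1))).filter (fun j => Nat.Coprime j (p ^ (n + 1))), g j
          + ∑ j ∈ Finset.range (p ^ n), g (p * j) := by
      rw [← Finset.sum_filter_add_sum_filter_not (Finset.range (p ^ (n + 1)))
        (fun j => Nat.Coprime j (p ^ (n + 1)))]
      congr 1
      symm
      apply Finset.sum_bij (fun j _ => p * j)
      · intro j hj
        rw [Finset.mem_filter, Finset.mem_range]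
        refine ⟨?_, ?_⟩
        · rw [pow_succ']
          exact Nat.mul_lt_mul_of_pos_left (Finset.mem_range.1 hj) hp.pos
        · intro hc
          have h1 : Nat.Coprime (p * j) p := Nat.Coprime.coprime_dvd_right (dvd_pow_self p (Nat.succ_ne_zero n)) hc
          have h2 : p ∣ Nat.gcd (p * j) p := Nat.dvd_gcd (dvd_mul_right p j) dvd_rfl
          rw [h1] at h2
          exact hp.one_lt.ne' (Nat.dvd_one.1 h2)
      · intro j _ j' _ h
        exact Nat.eq_of_mul_eq_mul_left hp.pos h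
      · intro j hj
        rw [Finset.mem_filter, Finset.mem_range] at hj
        have h1 : p ∣ j := by
          by_contra hnd
          apply hj.2
          exact Nat.Coprime.pow_right _ ((Nat.Prime.coprime_iff_not_dvd hp).2 hnd).symm
        obtain ⟨j', rfl⟩ := h1
        refine ⟨j', ?_, rfl⟩
        rw [Finset.mem_range]
        have := hj.1
        rw [pow_succ'] at this
        exact Nat.lt_of_mul_lt_mul_left this
      · intro j _; rfl
    have hcomb : (p : ℤ) - 1 ≤ p * Q₁ - Q₂ :=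
      comb_bound a μ (fun w => w ^ p) p hp.pos (fun S t h => card_le_of_pow_eq hp.pos S t h) ha
    have hcomb' : ((p : ℝ) - 1) ≤ p * (Q₁ : ℝ) - (Q₂ : ℝ) := by exact_mod_cast hcomb
    have hfin : ∑ j ∈ (Finset.range (p ^ (n + 1))).filter (fun j => Nat.Coprime j (p ^ (n + 1))), g j
        = ((p ^ n : ℕ) : ℝ) * (p * (Q₁ : ℝ) - (Q₂ : ℝ)) := by
      have : ∑ j ∈ (Finset.range (p ^ (n + 1))).filter (fun j => Nat.Coprime j (p ^ (n + 1))), g j
          = ∑ j ∈ Finset.range (p ^ (n + 1)), g j - ∑ j ∈ Finset.range (p ^ n), g (p * j) := by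
        rw [hsplit]; ring
      rw [this, hall, hnon]
      push_cast
      ring
    rw [hfin, Nat.totient_prime_pow_succ hp]
    have hp1 : 1 ≤ p := hp.pos
    push_cast [Nat.cast_sub hp1]
    have hpos : (0 : ℝ) ≤ (p : ℝ) ^ n := by positivity
    exact mul_le_mul_of_nonneg_left hcomb' hpos

end Analytic

end Cfsg.Agent.Lib.Helper81
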