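import Cfsg.Agent.Lib.Helper81.BrauerFeit

set_option autoImplicit false
set_option linter.unusedSectionVars false
open Cfsg
open scoped ComplexConjugate
open Cfsg.Agent.Lib.Helper20

namespace Cfsg.Agent.Lib.Helper81

section PH

variable {G : Type*} [Group G] [Fintype G] {p : ℕ} {M : Ideal AlgInt}

theorem kC_symm (hp : p.Prime) (B : Set (IrrCharacter G)) (χ ψ : IrrCharacter G) :
    kC p B χ ψ = kC p B ψ χ := by
  rw [kC, kC, nC_symm hp]

open Classical in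
theorem kC_two_terms (hM : IsPModular p M) {B : Set (IrrCharacter G)} (hB : IsPBlock M B)
    [Fintype (IrrCharacter G)] {ψ χ : IrrCharacter G} (hψ : ψ ∈ B) (hχ : χ ∈ B) (hne : χ ≠ ψ) :
    kC p B ψ ψ ^ 2 + kC p B ψ χ ^ 2 ≤ (p : ℤ) ^ blockDefect p B * kC p B ψ ψ := by
  rw [← sum_kC_sq hM hB hψ]
  rw [← Finset.add_sum_erase Finset.univ _ (Finset.mem_univ ψ), if_pos hψ]
  have hmem : χ ∈ Finset.univ.erase ψ := Finset.mem_erase.2 ⟨hne, Finset.mem_univ _⟩
  rw [← Finset.add_sum_erase _ _ hmem, if_pos hχ]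
  have : 0 ≤ ∑ x ∈ (Finset.univ.erase ψ).erase χ, (if x ∈ B then kC p B ψ x ^ 2 else 0) := by
    apply Finset.sum_nonneg; intro x _
    split_ifs
    · positivity
    · exact le_refl _
  linarith

/-- positive heights are at most `d - 2`. -/
theorem height_add_two_le (hM : IsPModular p M) {B : Set (IrrCharacter G)} (hB : IsPBlock M B)
    {ψ : IrrCharacter G} (hψ : ψ ∈ B) (h0 : blockHeight p B (ψ : G → ℂ) ≠ 0) :
    blockHeight p B (ψ : G → ℂ) + 2 ≤ blockDefect p B := by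
  classical
  have : Finite (Cfsg.IrrCharacter G) := finite_irrCharacter
  have : Fintype (Cfsg.IrrCharacter G) := Fintype.ofFinite _
  obtain ⟨χ, hχ, hmin⟩ := exists_minDeg (p := p) (isPBlock_nonempty hM hB)
  have hχ0 : blockHeight p B (χ : G → ℂ) = 0 := (blockHeight_eq_zero_iff hχ).2 hmin
  have hne : χ ≠ ψ := by rintro rfl; exact h0 hχ0
  have h1 := kC_two_terms hM hB hψ hχ hne
  have h2 : kC p B ψ χ ≠ 0 := by
    rw [kC_symm hM.1]; exact (kC_of_height_zero hM hB hχ hψ hχ0).2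
  have h2' : 0 < kC p B ψ χ ^ 2 := by positivity
  set K := kC p B ψ ψ with hK
  have hq : (0 : ℤ) < (p : ℤ) ^ blockDefect p B := pow_pos (by exact_mod_cast hM.1.pos) _
  have hKpos : 0 < K := by
    by_contra hcon
    push Not at hcon
    nlinarith [sq_nonneg K]
  have hKlt : K < (p : ℤ) ^ blockDefect p B := by
    by_contra hcon
    push Not at hcon
    nlinarith
  have hmul := kC_mul hM ψ hψ
  have hn : nC p ψ ψ ≠ 0 := by
    rw [← hmul]
    exact mul_ne_zero hKpos.ne' (by exact_mod_cast pow_ne_zero _ hM.1.ne_zero)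
  have h3 := nC_of_height_pos hM hB hψ hψ h0 hn
  have h4 : ((p ^ (nuDeg p ψ + 1) : ℕ) : ℤ) ∣ nC p ψ ψ := by
    rw [Int.natCast_dvd]
    exact (hM.1.pow_dvd_iff_le_factorization (Int.natAbs_ne_zero.2 hn)).2 h3
  rw [← hmul, ← blockHeight_add (p := p) hψ] at h4
  have h5 : ((p : ℤ) ^ (blockHeight p B (ψ : G → ℂ) + 1)) ∣ K := by
    have hp0 : ((p : ℤ) ^ minDeg p B) ≠ 0 := pow_ne_zero _ (by exact_mod_cast hM.1.ne_zero)
    apply (mul_dvd_mul_iff_right hp0).1
    have e1 : ((p ^ (blockHeight p B (ψ : G → ℂ) + minDeg p B + 1) : ℕ) : ℤ)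
        = (p : ℤ) ^ (blockHeight p B (ψ : G → ℂ) + 1) * (p : ℤ) ^ minDeg p B := by
      push_cast; ring
    have e2 : ((p ^ minDeg p B : ℕ) : ℤ) = (p : ℤ) ^ minDeg p B := by push_cast; rfl
    rw [e1, e2] at h4
    exact h4
  have h6 := Int.le_of_dvd hKpos h5
  have h7 : (p : ℤ) ^ (blockHeight p B (ψ : G → ℂ) + 1) < (p : ℤ) ^ blockDefect p B :=
    lt_of_le_of_lt h6 hKlt
  have h8 : p ^ (blockHeight p B (ψ : G → ℂ) + 1) < p ^ blockDefect p B := by exact_mod_cast h7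
  have := (Nat.pow_lt_pow_iff_right hM.1.one_lt).1 h8
  omega

open Classical in
/-- number of height zero characters when a positive height exists -/
theorem card_height_zero_le (hM : IsPModular p M) {B : Set (IrrCharacter G)} (hB : IsPBlock M B)
    [Fintype (IrrCharacter G)] {ψ : IrrCharacter G} (hψ : ψ ∈ B)
    (h0 : blockHeight p B (ψ : G → ℂ) ≠ 0) :
    4 * p ^ 2 * ∑ χ : IrrCharacter G,
      (if χ ∈ B ∧ blockHeight p B (χ : G → ℂ) = 0 then 1 else 0)
      ≤ p ^ (2 * blockDefect p B) := by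
  have hsum := sum_kC_sq hM hB hψ
  set K := kC p B ψ ψ with hK
  set q : ℤ := (p : ℤ) ^ blockDefect p B with hq
  have hterm : ∀ χ : IrrCharacter G, χ ≠ ψ →
      (p : ℤ) ^ 2 * ((if χ ∈ B ∧ blockHeight p B (χ : G → ℂ) = 0 then 1 else 0 : ℕ) : ℤ)
        ≤ (if χ ∈ B then kC p B ψ χ ^ 2 else 0) := by
    intro χ _
    by_cases hχ : χ ∈ B
    · by_cases hχ0 : blockHeight p B (χ : G → ℂ) = 0
      · rw [if_pos ⟨hχ, hχ0⟩, if_pos hχ]
        obtain ⟨hd, hne⟩ := kC_of_height_zero hM hB hχ hψ hχ0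
        rw [kC_symm hM.1] at hd hne
        have hd' : (p : ℤ) ∣ kC p B ψ χ := by
          refine dvd_trans ?_ hd
          push_cast
          exact dvd_pow_self _ h0
        have h1 : (p : ℤ) ≤ |kC p B ψ χ| := Int.le_of_dvd (abs_pos.2 hne) ((dvd_abs _ _).2 hd')
        have h2 : (0 : ℤ) ≤ (p : ℤ) := Int.natCast_nonneg _
        have h3 := mul_self_le_mul_self h2 h1
        rw [abs_mul_abs_self] at h3
        push_cast
        nlinarith
      · rw [if_neg (fun h => hχ0 h.2), if_pos hχ]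
        push_cast
        nlinarith [sq_nonneg (kC p B ψ χ)]
    · rw [if_neg (fun h => hχ h.1), if_neg hχ]; simp
  have hsplit1 : ∑ χ : IrrCharacter G, (if χ ∈ B then kC p B ψ χ ^ 2 else 0)
      = K ^ 2 + ∑ χ ∈ Finset.univ.erase ψ, (if χ ∈ B then kC p B ψ χ ^ 2 else 0) := by
    rw [← Finset.add_sum_erase Finset.univ _ (Finset.mem_univ ψ), if_pos hψ]
  have hsplit2 : ∑ χ : IrrCharacter G,
      (if χ ∈ B ∧ blockHeight p B (χ : G → ℂ) = 0 then 1 else 0)
      = ∑ χ ∈ Finset.univ.erase ψ,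
        (if χ ∈ B ∧ blockHeight p B (χ : G → ℂ) = 0 then 1 else 0) := by
    rw [← Finset.add_sum_erase Finset.univ _ (Finset.mem_univ ψ), if_neg (fun h => h0 h.2), zero_add]
  have hle : (p : ℤ) ^ 2 * ((∑ χ ∈ Finset.univ.erase ψ,
      (if χ ∈ B ∧ blockHeight p B (χ : G → ℂ) = 0 then 1 else 0) : ℕ) : ℤ)
      ≤ ∑ χ ∈ Finset.univ.erase ψ, (if χ ∈ B then kC p B ψ χ ^ 2 else 0) := by
    rw [Nat.cast_sum, Finset.mul_sum]
    apply Finset.sum_le_sum
    intro χ hχ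
    exact hterm χ (Finset.ne_of_mem_erase hχ)
  have hfin : (4 : ℤ) * (p : ℤ) ^ 2 * ((∑ χ : IrrCharacter G,
      (if χ ∈ B ∧ blockHeight p B (χ : G → ℂ) = 0 then 1 else 0) : ℕ) : ℤ)
      ≤ ((p ^ (2 * blockDefect p B) : ℕ) : ℤ) := by
    rw [hsplit2]
    have e : ((p ^ (2 * blockDefect p B) : ℕ) : ℤ) = q ^ 2 := by
      rw [hq]; push_cast; ring
    rw [e]
    rw [hsplit1] at hsum
    nlinarith [sq_nonneg (q - 2 * K)]
  exact_mod_cast hfin

open Classical in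
/-- Brauer–Feit: `2 k(B) ≤ p ^ (2 d - 2)` if `B` has a character of positive height. -/
theorem two_mul_card_le_of_pos_height (hM : IsPModular p M) {B : Set (IrrCharacter G)}
    (hB : IsPBlock M B) [Fintype (IrrCharacter G)] {ψ : IrrCharacter G} (hψ : ψ ∈ B)
    (h0 : blockHeight p B (ψ : G → ℂ) ≠ 0) :
    2 * ∑ χ : IrrCharacter G, (if χ ∈ B then 1 else 0) ≤ p ^ (2 * blockDefect p B - 2) := by
  have h1 := card_height_zero_le hM hB hψ h0
  have h2 := brauer_feit hM hB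
  have h3 := height_add_two_le hM hB hψ h0
  set k0 := ∑ χ : IrrCharacter G, (if χ ∈ B ∧ blockHeight p B (χ : G → ℂ) = 0 then 1 else 0)
  set k := ∑ χ : IrrCharacter G, (if χ ∈ B then 1 else 0)
  set W := ∑ ψ : IrrCharacter G, (if ψ ∈ B then p ^ (2 * blockHeight p B (ψ : G → ℂ)) else 0)
  have h4 : p ^ 2 * k ≤ W + (p ^ 2 - 1) * k0 := by
    rw [Finset.mul_sum, Finset.mul_sum, ← Finset.sum_add_distrib]
    apply Finset.sum_le_sum
    intro χ _
    have hp1 : 1 ≤ p ^ 2 := Nat.one_le_pow _ _ hM.1.pos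
    by_cases hχ : χ ∈ B
    · by_cases hχ0 : blockHeight p B (χ : G → ℂ) = 0
      · rw [if_pos hχ, if_pos hχ, if_pos ⟨hχ, hχ0⟩, hχ0]
        simp only [mul_zero, pow_zero, mul_one]
        omega
      · rw [if_pos hχ, if_pos hχ, if_neg (fun h => hχ0 h.2)]
        simp only [mul_zero, mul_one, add_zero]
        apply Nat.pow_le_pow_right hM.1.pos
        omega
    · rw [if_neg hχ, if_neg hχ, if_neg (fun h => hχ h.1)]; simp
  obtain ⟨e, he⟩ : ∃ e, blockDefect p B = e + 2 := ⟨blockDefect p B - 2, by omega⟩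
  have e1 : p ^ (2 * blockDefect p B) = p ^ 2 * p ^ (2 * blockDefect p B - 2) := by
    rw [← pow_add]; congr 1; omega
  have e2 : 4 ≤ p ^ (2 * blockDefect p B - 2) := by
    calc 4 = 2 ^ 2 := by norm_num
      _ ≤ p ^ 2 := Nat.pow_le_pow_left hM.1.two_le 2
      _ ≤ p ^ (2 * blockDefect p B - 2) := Nat.pow_le_pow_right hM.1.pos (by omega)
  set Q := p ^ (2 * blockDefect p B - 2)
  obtain ⟨P, hP⟩ : ∃ P, p ^ 2 = P + 1 := ⟨p ^ 2 - 1, by have := Nat.one_le_pow 2 p hM.1.pos; omega⟩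
  rw [e1] at h1 h2
  rw [hP] at h1 h2 h4
  simp only [Nat.add_sub_cancel] at h4
  have h1' : 4 * k0 ≤ Q := by
    have : (P + 1) * (4 * k0) ≤ (P + 1) * Q := by nlinarith
    exact Nat.le_of_mul_le_mul_left this (Nat.succ_pos P)
  -- 4 (P+1) k ≤ 4 W + 4 P k0 ≤ (P+1) Q + 4 + P Q ≤ 2 (P+1) Q
  have h5 : (P + 1) * (2 * (2 * k)) ≤ (P + 1) * (2 * Q) := by nlinarith
  have h6 := Nat.le_of_mul_le_mul_left h5 (Nat.succ_pos P)
  omega

end PH

end Cfsg.Agent.Lib.Helper81
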