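import Cfsg.Agent.Lib.Helper81.MajorSetup

set_option autoImplicit false
set_option linter.unusedSectionVars false
open Cfsg
open scoped ComplexConjugate
open Cfsg.Agent.Lib.Helper20

namespace Cfsg.Agent.Lib.Helper81

section SM

variable {G : Type*} [Group G] [Fintype G] {M : Ideal AlgInt} {H : Subgroup G} [Fintype H]
  {y : G} {n : ℕ} {b : Set (IrrCharacter H)} {B : Set (IrrCharacter G)}

theorem exists_height_zero {p : ℕ} (hne : B.Nonempty) :
    ∃ χ ∈ B, blockHeight p B (χ : G → ℂ) = 0 := by
  obtain ⟨χ₀, hχ₀, hmin⟩ := exists_minDeg (p := p) hne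
  exact ⟨χ₀, hχ₀, (blockHeight_eq_zero_iff hχ₀).2 hmin⟩

theorem AS_pos (D : SubsecData 2 M H y n b B) (hd : blockDefect 2 b = blockDefect 2 B)
    [Fintype (IrrCharacter H)] {ψ : IrrCharacter G} (hψ : ψ ∈ B) : 0 < AS D ψ := by
  classical
  have : Finite (IrrCharacter G) := finite_irrCharacter
  have : Fintype (IrrCharacter G) := Fintype.ofFinite _
  obtain ⟨χ₀, hχ₀, h0⟩ := exists_height_zero (p := 2) (⟨ψ, hψ⟩ : B.Nonempty)
  have h1 := Fsq_ge D hd hχ₀ hψ h0
  rw [Fsq_symm] at h1
  have h2 := sum_Fsq D ψ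
  have h3 : Fsq H y n b (ψ : G → ℂ) (χ₀ : G → ℂ)
      ≤ ∑ ψ' : IrrCharacter G, (if ψ' ∈ B then Fsq H y n b (ψ : G → ℂ) (ψ' : G → ℂ) else 0) := by
    have := Finset.single_le_sum (s := Finset.univ)
      (f := fun ψ' : IrrCharacter G => (if ψ' ∈ B then Fsq H y n b (ψ : G → ℂ) (ψ' : G → ℂ) else 0))
      (fun ψ' _ => by
        show 0 ≤ (if ψ' ∈ B then Fsq H y n b (ψ : G → ℂ) (ψ' : G → ℂ) else 0)
        split_ifs
        · exact Fsq_nonneg _ _
        · exact le_refl _) (Finset.mem_univ χ₀)
    simpa [hχ₀] using this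
  rw [h2] at h3
  have h4 : (0 : ℝ) < ((2 ^ n : ℕ) : ℝ) * 4 ^ blockHeight 2 B (ψ : G → ℂ) := by positivity
  have h5 : (0 : ℝ) < (2 : ℝ) ^ blockDefect 2 b * (((2 ^ n : ℕ) : ℝ) * (AS D ψ : ℝ)) := by linarith
  have h6 : (0 : ℝ) < (AS D ψ : ℝ) := by
    by_contra hneg
    have hneg' := not_lt.1 hneg
    have : (2 : ℝ) ^ blockDefect 2 b * (((2 ^ n : ℕ) : ℝ) * (AS D ψ : ℝ)) ≤ 0 := by
      apply mul_nonpos_of_nonneg_of_nonpos (by positivity)
      exact mul_nonpos_of_nonneg_of_nonpos (by positivity) hneg'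
    linarith
  exact_mod_cast h6

open Classical in
/-- Sambale: `k₀ + (2/3) ∑ 2 ^ i k_i ≤ 2 ^ d` if `l(b) ≤ 3` for a major subsection. -/
theorem sambale_three (D : SubsecData 2 M H y n b B) (hd : blockDefect 2 b = blockDefect 2 B)
    [Fintype (IrrCharacter G)] [Fintype (IrrCharacter H)] (hl : blockRank 2 b ≤ 3) :
    ∑ χ : IrrCharacter G, (if χ ∈ B then
      (if blockHeight 2 B (χ : G → ℂ) = 0 then (3 : ℤ) else 2 * 2 ^ blockHeight 2 B (χ : G → ℂ))
      else 0) ≤ 3 * 2 ^ blockDefect 2 B := by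
  by_cases hA : ∃ χ ∈ B, blockHeight 2 B (χ : G → ℂ) = 0 ∧ AS D χ = 1
  · obtain ⟨χ, hχ, h0, h1⟩ := hA
    have h2 := sum_four_pow_le D hd hχ h0
    rw [h1, mul_one, hd] at h2
    calc _ ≤ ∑ ψ : IrrCharacter G,
          3 * (if ψ ∈ B then (4 : ℤ) ^ blockHeight 2 B (ψ : G → ℂ) else 0) := by
          apply Finset.sum_le_sum; intro ψ _
          split_ifs with h3 h4
          · rw [h4]; norm_num
          · have : (2 : ℤ) ^ blockHeight 2 B (ψ : G → ℂ) ≤ 4 ^ blockHeight 2 B (ψ : G → ℂ) :=
              pow_le_pow_left₀ (by norm_num) (by norm_num) _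
            have h5 : (0 : ℤ) < 2 ^ blockHeight 2 B (ψ : G → ℂ) := by positivity
            linarith
          · norm_num
      _ = 3 * ∑ ψ : IrrCharacter G, (if ψ ∈ B then (4 : ℤ) ^ blockHeight 2 B (ψ : G → ℂ) else 0) := by
          rw [Finset.mul_sum]
      _ ≤ _ := by linarith
  · push Not at hA
    have h2 := sum_AS D
    calc _ ≤ ∑ χ : IrrCharacter G, (if χ ∈ B then AS D χ else 0) := by
          apply Finset.sum_le_sum; intro ψ _
          split_ifs with h3 h4
          · have h5 := AS_odd D h3 h4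
            have h6 := AS_nonneg D ψ
            have h7 := hA ψ h3 h4
            obtain ⟨t, ht⟩ := h5
            omega
          · have h5 := AS_dvd D hd h3 h4
            have h6 := AS_pos D hd h3
            have h7 := Int.le_of_dvd h6 h5
            rw [pow_succ] at h7
            linarith
          · exact le_refl _
      _ = 2 ^ blockDefect 2 b * (blockRank 2 b : ℤ) := h2
      _ ≤ _ := by
          rw [hd]
          have h8 : (blockRank 2 b : ℤ) ≤ 3 := by exact_mod_cast hl
          have h9 : (0 : ℤ) < 2 ^ blockDefect 2 B := by positivity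
          nlinarith

open Classical in
/-- Sambale: `k(B) - l(b) ≤ 3` implies `k(B) ≤ 2 ^ d` for a major subsection. -/
theorem sambale_diff_three (D : SubsecData 2 M H y n b B) (hd : blockDefect 2 b = blockDefect 2 B)
    [Fintype (IrrCharacter G)] [Fintype (IrrCharacter H)]
    (hk : ∑ χ : IrrCharacter G, (if χ ∈ B then (1 : ℤ) else 0) ≤ blockRank 2 b + 3) :
    ∑ χ : IrrCharacter G, (if χ ∈ B then (1 : ℤ) else 0) ≤ 2 ^ blockDefect 2 B := by
  have hB := D.hind.2.1
  have hM := D.hM
  set k : ℤ := ∑ χ : IrrCharacter G, (if χ ∈ B then (1 : ℤ) else 0) with hkdef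
  set Q : ℤ := 2 ^ blockDefect 2 B with hQ
  have hQpos : 0 < Q := by positivity
  -- off-diagonal inequality for height zero
  have I2 : ∀ χ ∈ B, blockHeight 2 B (χ : G → ℂ) = 0 → k - 1 ≤ AS D χ * (Q - AS D χ) := by
    intro χ hχ h0
    have h1 := sum_offdiag_le D hχ (fun ψ => (4 : ℤ) ^ blockHeight 2 B (ψ : G → ℂ))
      (fun ψ hψ _ => by
        have := Fsq_ge D hd hχ hψ h0
        push_cast at this ⊢
        exact this)
    rw [hd] at h1
    refine le_trans ?_ h1
    have h2 : k - 1 = ∑ ψ : IrrCharacter G, (if ψ ∈ B ∧ ψ ≠ χ then (1 : ℤ) else 0) := by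
      rw [hkdef, ← Finset.add_sum_erase Finset.univ _ (Finset.mem_univ χ), if_pos hχ,
        ← Finset.add_sum_erase Finset.univ (fun ψ => if ψ ∈ B ∧ ψ ≠ χ then (1 : ℤ) else 0)
          (Finset.mem_univ χ), if_neg (fun h : χ ∈ B ∧ χ ≠ χ => h.2 rfl)]
      have : ∑ x ∈ Finset.univ.erase χ, (if x ∈ B then (1 : ℤ) else 0)
          = ∑ x ∈ Finset.univ.erase χ, (if x ∈ B ∧ x ≠ χ then (1 : ℤ) else 0) := by
        apply Finset.sum_congr rfl; intro x hx
        have hne : x ≠ χ := (Finset.mem_erase.1 hx).1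
        simp [hne]
      rw [this]; ring
    rw [h2]
    apply Finset.sum_le_sum; intro ψ _
    split_ifs
    · exact one_le_pow₀ (by norm_num)
    · exact le_refl _
  obtain ⟨χ₀, hχ₀, h00⟩ := exists_height_zero (p := 2) (isPBlock_nonempty hM hB)
  have hk1 : 1 ≤ k := by
    have := Finset.single_le_sum (s := Finset.univ)
      (f := fun χ : IrrCharacter G => (if χ ∈ B then (1 : ℤ) else 0))
      (fun χ _ => by
        show 0 ≤ (if χ ∈ B then (1 : ℤ) else 0)
        split_ifs <;> norm_num) (Finset.mem_univ χ₀)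
    rw [if_pos hχ₀] at this
    exact this
  by_cases hA : ∃ χ ∈ B, blockHeight 2 B (χ : G → ℂ) = 0 ∧ Q - AS D χ = 1
  · obtain ⟨χ, hχ, h0, h1⟩ := hA
    have := I2 χ hχ h0
    rw [h1] at this
    linarith
  · push Not at hA
    by_cases hd0 : blockDefect 2 B = 0
    · have h1 := I2 χ₀ hχ₀ h00
      have h2 := AS_pos D hd hχ₀
      have hQ1 : Q = 1 := by rw [hQ, hd0, pow_zero]
      rw [hQ1] at h1 ⊢
      nlinarith
    · -- every `Q - A` is at least three
      have key : ∀ ψ ∈ B, 3 ≤ Q - AS D ψ := by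
        intro ψ hψ
        by_cases h0 : blockHeight 2 B (ψ : G → ℂ) = 0
        · have h1 := I2 ψ hψ h0
          have h2 := AS_pos D hd hψ
          have h3 := AS_odd D hψ h0
          have h4 := hA ψ hψ h0
          have h5 : 0 ≤ Q - AS D ψ := by
            by_contra hneg
            have hneg' := not_le.1 hneg
            nlinarith
          have h6 : Even Q := by
            rw [hQ]; exact (even_two).pow_of_ne_zero hd0
          obtain ⟨t, ht⟩ := h3
          obtain ⟨r, hr⟩ := h6
          omega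
        · have h1 := AS_dvd D hd hψ h0
          have h2 := AS_pos D hd hψ
          have h3 := height_add_two_le hM hB hψ h0
          have hne : χ₀ ≠ ψ := by rintro rfl; exact h0 h00
          have h4 := sum_offdiag_le D hψ
            (fun ψ' => if ψ' = χ₀ then (4 : ℤ) ^ blockHeight 2 B (ψ : G → ℂ) else 0)
            (fun ψ' _ _ => by
              by_cases he : ψ' = χ₀
              · subst he
                have := Fsq_ge D hd hχ₀ hψ h00
                rw [Fsq_symm] at this
                simpa using this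
              · simpa [he] using Fsq_nonneg _ _)
          rw [hd] at h4
          have h5 : ∑ ψ' : IrrCharacter G, (if ψ' ∈ B ∧ ψ' ≠ ψ then
              (if ψ' = χ₀ then (4 : ℤ) ^ blockHeight 2 B (ψ : G → ℂ) else 0) else 0)
              = (4 : ℤ) ^ blockHeight 2 B (ψ : G → ℂ) := by
            rw [Finset.sum_eq_single χ₀]
            · rw [if_pos ⟨hχ₀, hne⟩, if_pos rfl]
            · intro x _ hx
              split_ifs <;> rfl
            · intro h; exact absurd (Finset.mem_univ _) h
          rw [h5] at h4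
          have h6 : (0 : ℤ) < 4 ^ blockHeight 2 B (ψ : G → ℂ) := by positivity
          have h7 : 0 < Q - AS D ψ := by
            by_contra hneg
            have hneg' := not_lt.1 hneg
            nlinarith
          have h8 : (4 : ℤ) ∣ AS D ψ := by
            refine dvd_trans ?_ h1
            have : (4 : ℤ) = 2 ^ 2 := by norm_num
            rw [this]
            exact pow_dvd_pow 2 (by omega)
          have h9 : (4 : ℤ) ∣ Q := by
            have : (4 : ℤ) = 2 ^ 2 := by norm_num
            rw [this, hQ]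
            exact pow_dvd_pow 2 (by omega)
          have h10 := Int.le_of_dvd h7 (dvd_sub h9 h8)
          linarith
      have h1 : 3 * k ≤ ∑ ψ : IrrCharacter G, (if ψ ∈ B then Q - AS D ψ else 0) := by
        rw [hkdef, Finset.mul_sum]
        apply Finset.sum_le_sum; intro ψ _
        split_ifs with h
        · have := key ψ h; linarith
        · norm_num
      have h2 : ∑ ψ : IrrCharacter G, (if ψ ∈ B then Q - AS D ψ else 0)
          = Q * k - Q * (blockRank 2 b : ℤ) := by
        have h3 := sum_AS D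
        rw [hd] at h3
        rw [← h3, hkdef, Finset.mul_sum, ← Finset.sum_sub_distrib]
        apply Finset.sum_congr rfl; intro ψ _
        split_ifs <;> ring
      rw [h2] at h1
      nlinarith

end SM

end Cfsg.Agent.Lib.Helper81
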