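import Cfsg.Agent.Lib.Helper81.SubsecExpand

set_option autoImplicit false
set_option linter.unusedSectionVars false
open Cfsg
open scoped ComplexConjugate
open Cfsg.Agent.Lib.Helper20

namespace Cfsg.Agent.Lib.Helper81

section SB

variable {G : Type*} [Group G] [Fintype G] {p : ℕ} {M : Ideal AlgInt}
variable (H : Subgroup G) [Fintype H]

open Classical in
theorem sum_norm_mS_sq (hM : IsPModular p M) {y : G} {n : ℕ} (hn : orderOf y = p ^ n)
    (hyH : y ∈ H) (hcomm : ∀ c : H, y * (c : G) = (c : G) * y)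
    (hC : Subgroup.centralizer ({y} : Set G) ≤ H)
    {b : Set (IrrCharacter H)} {B : Set (IrrCharacter G)} (hind : IsInducedBlock M H b B)
    [Fintype (IrrCharacter G)] [Fintype (IrrCharacter H)] (j : ℕ) (hj : Nat.Coprime j (p ^ n)) :
    ∑ χ : IrrCharacter G, ∑ ψ : IrrCharacter G, (if χ ∈ B ∧ ψ ∈ B then
        ‖mS p H b (y ^ j) (χ : G → ℂ) (ψ : G → ℂ)‖ ^ 2 else 0)
      = (blockRank p b : ℝ) := by
  have hoj : orderOf (y ^ j) = p ^ n := by
    rw [Nat.Coprime.orderOf_pow (by rw [hn]; exact hj.symm), hn]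
  obtain ⟨m, hm⟩ := exists_pow_eq_self_of_coprime (x := y) (n := j) (by rw [hn]; exact hj)
  have h := sum_mS_sq (p := p) hM H (y ^ j) ⟨n, hoj⟩
    (Subgroup.pow_mem _ hyH j)
    (by
      intro c
      exact ((Commute.pow_left (show Commute y (c : G) from hcomm c) j)).eq)
    (by
      intro g hg
      apply hC
      rw [Subgroup.mem_centralizer_iff] at hg ⊢
      intro h hh'
      rw [Set.mem_singleton_iff.1 hh']
      have hc : Commute (y ^ j) g := hg (y ^ j) rfl
      rw [← hm]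
      exact (hc.pow_left m).eq)
    hind
  apply Complex.ofReal_injective
  rw [Complex.ofReal_natCast, ← h, Complex.ofReal_sum]
  apply Finset.sum_congr rfl; intro χ _
  rw [Complex.ofReal_sum]
  apply Finset.sum_congr rfl; intro ψ _
  split_ifs
  · exact normSq_eq_mul_conj' _
  · rfl

theorem totient_le_sum_norm_mS (hM : IsPModular p M) (hp : p.Prime) {y : G} {n : ℕ}
    (hn : orderOf y = p ^ n)
    (hyH : y ∈ H) (hcomm : ∀ c : H, y * (c : G) = (c : G) * y)
    {b : Set (IrrCharacter H)} {B : Set (IrrCharacter G)} (hind : IsInducedBlock M H b B)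
    [Fintype (IrrCharacter H)] {χ ψ : IrrCharacter G} (hχ : χ ∈ B) (hψ : ψ ∈ B)
    (h0χ : blockHeight p B (χ : G → ℂ) = 0) (h0ψ : blockHeight p B (ψ : G → ℂ) = 0) :
    ((Nat.totient (p ^ n) : ℕ) : ℝ)
      ≤ ∑ j ∈ (Finset.range (p ^ n)).filter (fun j => Nat.Coprime j (p ^ n)),
        (p : ℝ) ^ (2 * blockDefect p b) * ‖mS p H b (y ^ j) (χ : G → ℂ) (ψ : G → ℂ)‖ ^ 2 := by
  have hyc : (⟨y, hyH⟩ : H) ∈ Subgroup.center H := by
    rw [Subgroup.mem_center_iff]; intro g; apply Subtype.ext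
    simp only [Subgroup.coe_mul]
    exact (hcomm g).symm
  have hord : orderOf (⟨y, hyH⟩ : H) = p ^ n := by
    rw [← hn]; exact Subgroup.orderOf_mk y hyH
  have h := parseval_bound (n := n) hp (aC H p b χ ψ)
    (fun i => lam (⟨y, hyH⟩ : H) (i.1 : H → ℂ) * conj (lam (⟨y, hyH⟩ : H) (i.2 : H → ℂ)))
    (by
      intro i
      rw [mul_pow, ← map_pow, ← hord, lam_pow_orderOf i.1.2 hyc, lam_pow_orderOf i.2.2 hyc]
      simp)
    (sum_aC_not_dvd H hM hind hχ hψ h0χ h0ψ)
  refine h.trans (le_of_eq ?_)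
  apply Finset.sum_congr rfl; intro j _
  have e := pow_mul_mS_pow_eq (p := p) H hM b ⟨y, hyH⟩ hyc j χ ψ
  rw [← e, norm_mul, mul_pow, norm_pow, Complex.norm_natCast, ← pow_mul,
    mul_comm (blockDefect p b) 2]

open Classical in
/-- For any subsection `(y, b)` of `B` and any set `S` of height zero characters of `B`:
`|S| ^ 2 ≤ p ^ (2 d(b)) l(b)`. -/
theorem card_height_zero_sq_le (hM : IsPModular p M) (hp : p.Prime) {y : G} {n : ℕ}
    (hn : orderOf y = p ^ n)
    (hyH : y ∈ H) (hcomm : ∀ c : H, y * (c : G) = (c : G) * y)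
    (hC : Subgroup.centralizer ({y} : Set G) ≤ H)
    {b : Set (IrrCharacter H)} {B : Set (IrrCharacter G)} (hind : IsInducedBlock M H b B)
    [Fintype (IrrCharacter G)] [Fintype (IrrCharacter H)]
    (S : Set (IrrCharacter G)) (hS : ∀ χ ∈ S, χ ∈ B ∧ blockHeight p B (χ : G → ℂ) = 0) :
    Nat.card S ^ 2 ≤ p ^ (2 * blockDefect p b) * blockRank p b := by
  have e : Nat.card S = ∑ χ : IrrCharacter G, (if χ ∈ S then 1 else 0) := by
    rw [Nat.card_eq_fintype_card, Fintype.card_subtype, Finset.card_filter]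
  have e2 : ((Nat.card S : ℝ)) ^ 2 * ((Nat.totient (p ^ n) : ℕ) : ℝ)
      = ∑ χ : IrrCharacter G, ∑ ψ : IrrCharacter G, (if χ ∈ S ∧ ψ ∈ S then
        ((Nat.totient (p ^ n) : ℕ) : ℝ) else 0) := by
    rw [e]
    push_cast
    rw [sq, Finset.sum_mul_sum, Finset.sum_mul]
    apply Finset.sum_congr rfl; intro χ _
    rw [Finset.sum_mul]
    apply Finset.sum_congr rfl; intro ψ _
    by_cases h1 : χ ∈ S <;> by_cases h2 : ψ ∈ S <;> simp [h1, h2]
  have e3 : ((Nat.card S : ℝ)) ^ 2 * ((Nat.totient (p ^ n) : ℕ) : ℝ)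
      ≤ ((p : ℝ) ^ (2 * blockDefect p b) * (blockRank p b : ℝ))
        * ((Nat.totient (p ^ n) : ℕ) : ℝ) := by
    rw [e2]
    calc _ ≤ ∑ χ : IrrCharacter G, ∑ ψ : IrrCharacter G, (if χ ∈ B ∧ ψ ∈ B then
          ∑ j ∈ (Finset.range (p ^ n)).filter (fun j => Nat.Coprime j (p ^ n)),
          (p : ℝ) ^ (2 * blockDefect p b) * ‖mS p H b (y ^ j) (χ : G → ℂ) (ψ : G → ℂ)‖ ^ 2
          else 0) := by
          apply Finset.sum_le_sum; intro χ _
          apply Finset.sum_le_sum; intro ψ _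
          by_cases h : χ ∈ S ∧ ψ ∈ S
          · rw [if_pos h, if_pos ⟨(hS χ h.1).1, (hS ψ h.2).1⟩]
            exact totient_le_sum_norm_mS H hM hp hn hyH hcomm hind (hS χ h.1).1 (hS ψ h.2).1
              (hS χ h.1).2 (hS ψ h.2).2
          · rw [if_neg h]
            split_ifs
            · apply Finset.sum_nonneg; intro j _; positivity
            · exact le_refl _
      _ = ∑ j ∈ (Finset.range (p ^ n)).filter (fun j => Nat.Coprime j (p ^ n)),
          (p : ℝ) ^ (2 * blockDefect p b) * ∑ χ : IrrCharacter G, ∑ ψ : IrrCharacter G,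
          (if χ ∈ B ∧ ψ ∈ B then ‖mS p H b (y ^ j) (χ : G → ℂ) (ψ : G → ℂ)‖ ^ 2 else 0) := by
          simp only [Finset.mul_sum]
          symm
          rw [Finset.sum_comm]
          apply Finset.sum_congr rfl; intro χ _
          rw [Finset.sum_comm]
          apply Finset.sum_congr rfl; intro ψ _
          split_ifs with h
          · rfl
          · simp
      _ = ∑ j ∈ (Finset.range (p ^ n)).filter (fun j => Nat.Coprime j (p ^ n)),
          (p : ℝ) ^ (2 * blockDefect p b) * (blockRank p b : ℝ) := by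
          apply Finset.sum_congr rfl; intro j hj
          rw [sum_norm_mS_sq H hM hn hyH hcomm hC hind j (Finset.mem_filter.1 hj).2]
      _ = _ := by
          rw [Finset.sum_const, nsmul_eq_mul, mul_comm]
          congr 2
          rw [Nat.totient_eq_card_coprime]
          congr 1
          apply Finset.filter_congr; intro j _
          exact Nat.coprime_comm
  have hpos : (0 : ℝ) < ((Nat.totient (p ^ n) : ℕ) : ℝ) := by
    exact_mod_cast Nat.totient_pos.2 (pow_pos hp.pos n)
  have e4 := le_of_mul_le_mul_right e3 hpos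
  exact_mod_cast e4

end SB

end Cfsg.Agent.Lib.Helper81
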