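import Cfsg.Agent.Lib.Helper81.SubsecNorm
import Cfsg.Agent.Lib.Helper81.Parseval

set_option autoImplicit false
set_option linter.unusedSectionVars false
open Cfsg
open scoped ComplexConjugate
open Cfsg.Agent.Lib.Helper20

namespace Cfsg.Agent.Lib.Helper81

section SE

variable {G : Type*} [Group G] [Fintype G] {p : ℕ} {M : Ideal AlgInt}

/-- the scalar by which the central element `z` acts -/
noncomputable def lam (z : G) (ζ : G → ℂ) : ℂ := ζ z / ζ 1

theorem irr_central_pow_mul {ζ : G → ℂ} (hζ : IsIrrCharacter G ζ) {z : G}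
    (hz : z ∈ Subgroup.center G) (j : ℕ) (c : G) : ζ (z ^ j * c) = lam z ζ ^ j * ζ c := by
  have h10 := irr_one_ne_zero hζ
  induction j generalizing c with
  | zero => simp
  | succ j ih =>
    rw [pow_succ, mul_assoc, ih, pow_succ]
    have := Cfsg.Agent.Lib.Helper82.isIrr_central_mul hζ hz c
    have e : ζ (z * c) = lam z ζ * ζ c := by
      simp only [lam]; field_simp; exact this
    rw [e]; ring

theorem lam_pow_orderOf {ζ : G → ℂ} (hζ : IsIrrCharacter G ζ) {z : G}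
    (hz : z ∈ Subgroup.center G) : lam z ζ ^ orderOf z = 1 := by
  have h10 := irr_one_ne_zero hζ
  have := irr_central_pow_mul hζ hz (orderOf z) 1
  rw [pow_orderOf_eq_one, one_mul] at this
  exact (mul_right_cancel₀ h10 (by rw [one_mul]; exact this)).symm

theorem lam_mul_conj {ζ : G → ℂ} (hζ : IsIrrCharacter G ζ) {z : G}
    (hz : z ∈ Subgroup.center G) : lam z ζ * conj (lam z ζ) = 1 :=
  (mul_conj_eq_one_iff (orderOf_pos z).ne' (lam_pow_orderOf hζ hz)).2 rfl

theorem classInner_shift {ζ : G → ℂ} (hζ : IsIrrCharacter G ζ) {z : G}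
    (hz : z ∈ Subgroup.center G) (j : ℕ) (θ : G → ℂ) :
    classInner (fun c => θ (z ^ j * c)) ζ = lam z ζ ^ j * classInner θ ζ := by
  simp only [classInner]
  have h1 : ∀ c, conj (ζ c) = lam z ζ ^ j * conj (ζ (z ^ j * c)) := by
    intro c
    rw [irr_central_pow_mul hζ hz, map_mul, map_pow, ← mul_assoc, ← mul_pow, lam_mul_conj hζ hz,
      one_pow, one_mul]
  have h2 : ∑ c, θ (z ^ j * c) * conj (ζ c)
      = lam z ζ ^ j * ∑ c, θ (z ^ j * c) * conj (ζ (z ^ j * c)) := by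
    rw [Finset.mul_sum]
    apply Finset.sum_congr rfl; intro c _
    rw [h1 c]; ring
  have h3 : ∑ c, θ (z ^ j * c) * conj (ζ (z ^ j * c)) = ∑ c, θ c * conj (ζ c) :=
    Equiv.sum_comp (Equiv.mulLeft (z ^ j)) (fun c => θ c * conj (ζ c))
  rw [h2, h3]
  ring

end SE

section SE2

variable {G : Type*} [Group G] [Fintype G] {p : ℕ} {M : Ideal AlgInt}
variable (H : Subgroup G) [Fintype H]

/-- multiplicity as a natural number -/
noncomputable def cZ (χ : IrrCharacter G) (ζ : IrrCharacter H) : ℕ := (cR_int H χ ζ).choose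

theorem cZ_spec (χ : IrrCharacter G) (ζ : IrrCharacter H) :
    cR H (χ : G → ℂ) (ζ : H → ℂ) = (cZ H χ ζ : ℂ) := (cR_int H χ ζ).choose_spec

open Classical in
theorem Th_pow_eq [Fintype (IrrCharacter H)] (b : Set (IrrCharacter H)) (y : H)
    (hy : y ∈ Subgroup.center H) (j : ℕ) (χ : IrrCharacter G) :
    Th H b ((y : G) ^ j) (χ : G → ℂ) = ∑ ζ : IrrCharacter H,
      (if ζ ∈ b then lam y (ζ : H → ℂ) ^ j * (cZ H χ ζ : ℂ) else 0) • (ζ : H → ℂ) := by
  rw [Th, blockPart_eq_sum]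
  apply Finset.sum_congr rfl; intro ζ _
  split_ifs with hζ
  · have := classInner_shift ζ.2 hy j (fun k : H => (χ : G → ℂ) k)
    simp only [Subgroup.coe_mul, Subgroup.coe_pow] at this
    rw [this, ← cZ_spec]; rfl
  · rfl

open Classical in
theorem mS_pow_eq [Fintype (IrrCharacter H)] (b : Set (IrrCharacter H)) (y : H)
    (hy : y ∈ Subgroup.center H) (j : ℕ) (χ ψ : IrrCharacter G) :
    mS p H b ((y : G) ^ j) (χ : G → ℂ) (ψ : G → ℂ) = ∑ ζ : IrrCharacter H, ∑ ξ : IrrCharacter H,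
      (if ζ ∈ b ∧ ξ ∈ b then ((cZ H χ ζ : ℂ) * (cZ H ψ ξ : ℂ) * mC p (ζ : H → ℂ) (ξ : H → ℂ)) *
        (lam y (ζ : H → ℂ) * conj (lam y (ξ : H → ℂ))) ^ j else 0) := by
  rw [mS, Th_pow_eq H b y hy, Th_pow_eq H b y hy, pRegularPart_sum, classInner_sum_left]
  apply Finset.sum_congr rfl; intro ζ _
  rw [classInner_sum_right]
  apply Finset.sum_congr rfl; intro ξ _
  rw [pRegularPart_smul, classInner_smul_left, classInner_smul_right]
  by_cases hζ : ζ ∈ b
  · by_cases hξ : ξ ∈ b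
    · rw [if_pos hζ, if_pos hξ, if_pos ⟨hζ, hξ⟩]
      simp only [map_mul, map_pow, Complex.conj_natCast, mul_pow, mC]
      ring
    · rw [if_neg hξ, if_neg (fun h : ζ ∈ b ∧ ξ ∈ b => hξ h.2)]; simp
  · rw [if_neg hζ, if_neg (fun h : ζ ∈ b ∧ ξ ∈ b => hζ h.1)]; simp

open Classical in
/-- integer coefficients of `p ^ d m^{(y^j, b)}_{χψ}` -/
noncomputable def aC (p : ℕ) (b : Set (IrrCharacter H)) (χ ψ : IrrCharacter G)
    (i : IrrCharacter H × IrrCharacter H) : ℤ :=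
  if i.1 ∈ b ∧ i.2 ∈ b then (cZ H χ i.1 : ℤ) * (cZ H ψ i.2 : ℤ) * kC p b i.1 i.2 else 0

theorem pow_mul_mS_pow_eq (hM : IsPModular p M) [Fintype (IrrCharacter H)]
    (b : Set (IrrCharacter H)) (y : H)
    (hy : y ∈ Subgroup.center H) (j : ℕ) (χ ψ : IrrCharacter G) :
    (p : ℂ) ^ blockDefect p b * mS p H b ((y : G) ^ j) (χ : G → ℂ) (ψ : G → ℂ)
      = ∑ i : IrrCharacter H × IrrCharacter H, (aC H p b χ ψ i : ℂ) *
        (lam y (i.1 : H → ℂ) * conj (lam y (i.2 : H → ℂ))) ^ j := by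
  classical
  rw [mS_pow_eq H b y hy, Fintype.sum_prod_type, Finset.mul_sum]
  apply Finset.sum_congr rfl; intro ζ _
  rw [Finset.mul_sum]
  apply Finset.sum_congr rfl; intro ξ _
  simp only [aC]
  split_ifs with h
  · push_cast
    rw [kC_spec hM ζ h.2]; ring
  · simp

theorem sum_aC_not_dvd (hM : IsPModular p M) [Fintype (IrrCharacter H)]
    {b : Set (IrrCharacter H)} {B : Set (IrrCharacter G)} (hind : IsInducedBlock M H b B)
    {χ ψ : IrrCharacter G} (hχ : χ ∈ B) (hψ : ψ ∈ B)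
    (h0χ : blockHeight p B (χ : G → ℂ) = 0) (h0ψ : blockHeight p B (ψ : G → ℂ) = 0) :
    ¬ (p : ℤ) ∣ ∑ i : IrrCharacter H × IrrCharacter H, aC H p b χ ψ i := by
  classical
  intro hdvd
  apply subsec_unit hM H hind hχ hψ h0χ h0ψ
  have hH : (Nat.card H : ℂ) ≠ 0 := card_ne_zero_complex
  have e1 : (∑ ξ : IrrCharacter H, (if ξ ∈ b then
      cR H (ψ : G → ℂ) (ξ : H → ℂ) * (((p : ℂ) ^ blockDefect p b * (ξ : H → ℂ) 1) / (Nat.card H : ℂ))
        * Sm p (ξ : H → ℂ) (fun k : H => (χ : G → ℂ) k) else 0))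
      = ((∑ i : IrrCharacter H × IrrCharacter H, aC H p b χ ψ i : ℤ) : ℂ) := by
    rw [Fintype.sum_prod_type, Finset.sum_comm]
    push_cast
    apply Finset.sum_congr rfl; intro ξ _
    split_ifs with hξ
    · rw [Sm_res_eq_sum hM H hind.1 hξ χ, Finset.mul_sum]
      apply Finset.sum_congr rfl; intro ζ _
      simp only [aC]
      have h10 := irr_one_ne_zero ξ.2
      split_ifs with hζ h h
      · push_cast
        rw [kC_spec hM ζ hξ, Sm_eq, mC_symm ξ ζ, cZ_spec, cZ_spec]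
        field_simp
      · exact absurd ⟨hζ, hξ⟩ h
      · exact absurd h.1 hζ
      · simp
    · symm
      apply Finset.sum_eq_zero; intro ζ _
      simp only [aC]
      rw [if_neg (fun h : ζ ∈ b ∧ ξ ∈ b => hξ h.2)]; simp
  rw [e1]
  obtain ⟨m, hm⟩ := hdvd
  rw [hm]
  push_cast
  exact memLocalIdeal_mul_right hM (memLocalIdeal_p hM) (memLocalRing_intCast hM m)

end SE2

end Cfsg.Agent.Lib.Helper81
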