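import Cfsg.Agent.Lib.Helper81.Parseval

set_option autoImplicit false
open scoped ComplexConjugate

namespace Cfsg.Agent.Lib.Helper81

section Fiber

variable {V ι : Type*} [AddCommGroup V] [Fintype ι]

theorem bil_sub_sub (β : V →ₗ[ℤ] V →ₗ[ℤ] ℤ) (u v : V) :
    β (u - v) (u - v) = β u u - β u v - β v u + β v v := by
  simp only [map_sub, LinearMap.sub_apply]; ring

theorem bil_rad (β : V →ₗ[ℤ] V →ₗ[ℤ] ℤ) (hnn : ∀ v, 0 ≤ β v v) {u v : V} (hu : β u u = 0)
    (hv : β v v = 0) : β (u - v) (u - v) = 0 := by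
  have h1 : β (u - v) (u - v) + β (u + v) (u + v) = 2 * β u u + 2 * β v v := by
    simp only [map_sub, map_add, LinearMap.sub_apply, LinearMap.add_apply]; ring
  have h2 := hnn (u - v)
  have h3 := hnn (u + v)
  rw [hu, hv] at h1
  omega

theorem bil_pairs (β : V →ₗ[ℤ] V →ₗ[ℤ] ℤ) (x : ι → V) :
    ∑ a, ∑ a', β (x a - x a') (x a - x a')
      = 2 * ((Fintype.card ι : ℤ) * ∑ a, β (x a) (x a) - β (∑ a, x a) (∑ a, x a)) := by
  simp only [bil_sub_sub, Finset.sum_add_distrib, Finset.sum_sub_distrib, Finset.sum_const,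
    Finset.card_univ, nsmul_eq_mul]
  have h1 : β (∑ a, x a) (∑ a, x a) = ∑ a, ∑ a', β (x a) (x a') := by
    rw [map_sum β, LinearMap.sum_apply]
    apply Finset.sum_congr rfl; intro a _
    rw [map_sum]
  have h2 : ∑ a, ∑ a', β (x a') (x a) = ∑ a, ∑ a', β (x a) (x a') := Finset.sum_comm
  rw [h1, h2, ← Finset.mul_sum]
  ring

theorem fiber_bound [DecidableEq ι] (β : V →ₗ[ℤ] V →ₗ[ℤ] ℤ) (m : ℤ) (hm : 0 ≤ m)
    (hq : ∀ v, β v v = 0 ∨ m ≤ β v v) (x : ι → V) :
    (Fintype.card ι : ℤ) * ∑ a, β (x a) (x a) - β (∑ a, x a) (∑ a, x a) = 0 ∨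
      ((Fintype.card ι : ℤ) - 1) * m
        ≤ (Fintype.card ι : ℤ) * ∑ a, β (x a) (x a) - β (∑ a, x a) (∑ a, x a) := by
  have hnn : ∀ v, 0 ≤ β v v := by
    intro v; rcases hq v with h | h
    · rw [h]
    · exact le_trans hm h
  have hp := bil_pairs β x
  set Br := (Fintype.card ι : ℤ) * ∑ a, β (x a) (x a) - β (∑ a, x a) (∑ a, x a) with hBr
  set f : ι → ι → ℤ := fun a a' => β (x a - x a') (x a - x a') with hf
  have hfnn : ∀ a a', 0 ≤ f a a' := fun a a' => hnn _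
  have hfsymm : ∀ a a', f a a' = f a' a := by
    intro a a'
    simp only [hf, bil_sub_sub]; ring
  by_cases hall : ∀ a a', f a a' = 0
  · left
    have : ∑ a, ∑ a', f a a' = 0 := by
      apply Finset.sum_eq_zero; intro a _
      apply Finset.sum_eq_zero; intro a' _
      exact hall a a'
    rw [this] at hp
    omega
  · right
    push Not at hall
    obtain ⟨a₀, b₀, hab⟩ := hall
    have hne : a₀ ≠ b₀ := by
      rintro rfl
      apply hab
      simp [hf]
    have hh : ∀ a, m ≤ f a a₀ + f a b₀ := by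
      intro a
      rcases hq (x a - x a₀) with h1 | h1
      · rcases hq (x a - x b₀) with h2 | h2
        · exfalso
          apply hab
          have := bil_rad β hnn h2 h1
          have e : x a - x b₀ - (x a - x a₀) = x a₀ - x b₀ := by abel
          rw [e] at this
          exact this
        · have := hfnn a a₀
          have h2' : m ≤ f a b₀ := h2
          omega
      · have := hfnn a b₀
        have h1' : m ≤ f a a₀ := h1
        omega
    have hrow : ∀ a, m ≤ ∑ a', f a a' := by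
      intro a
      have h1 : f a a₀ + f a b₀ = ∑ a' ∈ ({a₀, b₀} : Finset ι), f a a' := by
        rw [Finset.sum_pair hne]
      calc m ≤ f a a₀ + f a b₀ := hh a
        _ = ∑ a' ∈ ({a₀, b₀} : Finset ι), f a a' := h1
        _ ≤ ∑ a', f a a' := Finset.sum_le_sum_of_subset_of_nonneg (Finset.subset_univ _)
            (fun a' _ _ => hfnn a a')
    have htwo : (Fintype.card ι : ℤ) * m ≤ ∑ a', f a₀ a' + ∑ a', f b₀ a' := by
      rw [← Finset.sum_add_distrib]
      calc (Fintype.card ι : ℤ) * m = ∑ _a' : ι, m := by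
            rw [Finset.sum_const, Finset.card_univ, nsmul_eq_mul]
        _ ≤ ∑ a', (f a₀ a' + f b₀ a') := by
            apply Finset.sum_le_sum; intro a' _
            rw [hfsymm a₀ a', hfsymm b₀ a']; exact hh a'
    have hsplit : ∑ a, ∑ a', f a a' = (∑ a', f a₀ a' + ∑ a', f b₀ a')
        + ∑ a ∈ (Finset.univ.erase a₀).erase b₀, ∑ a', f a a' := by
      rw [← Finset.add_sum_erase Finset.univ _ (Finset.mem_univ a₀),
        ← Finset.add_sum_erase (Finset.univ.erase a₀) _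
          (Finset.mem_erase.2 ⟨hne.symm, Finset.mem_univ b₀⟩)]
      ring
    have hrest : ((Fintype.card ι : ℤ) - 2) * m
        ≤ ∑ a ∈ (Finset.univ.erase a₀).erase b₀, ∑ a', f a a' := by
      have hc : (((Finset.univ.erase a₀).erase b₀).card : ℤ) = (Fintype.card ι : ℤ) - 2 := by
        rw [Finset.card_erase_of_mem (Finset.mem_erase.2 ⟨hne.symm, Finset.mem_univ b₀⟩),
          Finset.card_erase_of_mem (Finset.mem_univ a₀), Finset.card_univ]
        have h2 : 2 ≤ Fintype.card ι := by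
          have : ({a₀, b₀} : Finset ι).card ≤ Fintype.card ι := Finset.card_le_univ _
          rwa [Finset.card_pair hne] at this
        omega
      calc ((Fintype.card ι : ℤ) - 2) * m = ∑ _a ∈ (Finset.univ.erase a₀).erase b₀, m := by
            rw [Finset.sum_const, nsmul_eq_mul, hc]
        _ ≤ _ := Finset.sum_le_sum (fun a _ => hrow a)
    rw [hsplit] at hp
    nlinarith

theorem fiber_nonneg (β : V →ₗ[ℤ] V →ₗ[ℤ] ℤ) (hnn : ∀ v, 0 ≤ β v v) (x : ι → V) :
    0 ≤ (Fintype.card ι : ℤ) * ∑ a, β (x a) (x a) - β (∑ a, x a) (∑ a, x a) := by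
  have hp := bil_pairs β x
  have : 0 ≤ ∑ a, ∑ a', β (x a - x a') (x a - x a') :=
    Finset.sum_nonneg (fun a _ => Finset.sum_nonneg (fun a' _ => hnn _))
  omega

end Fiber

section Group

variable {I : Type*} [Fintype I]

/-- the quadratic form of an integer matrix -/
def qK (K : I → I → ℤ) (f : I → ℤ) : ℤ := ∑ i, ∑ i', K i i' * f i * f i'

/-- the bilinear form of an integer matrix -/
def bK (K : I → I → ℤ) : (I → ℤ) →ₗ[ℤ] (I → ℤ) →ₗ[ℤ] ℤ :=
  LinearMap.mk₂ ℤ (fun f g => ∑ i, ∑ i', K i i' * f i * g i')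
    (by intro f f' g
        simp only [Pi.add_apply, mul_add, add_mul, Finset.sum_add_distrib])
    (by intro t f g
        simp only [Pi.smul_apply, smul_eq_mul, Finset.mul_sum]
        apply Finset.sum_congr rfl; intro i _
        apply Finset.sum_congr rfl; intro i' _
        ring)
    (by intro f g g'
        simp only [Pi.add_apply, mul_add, Finset.sum_add_distrib])
    (by intro t f g
        simp only [Pi.smul_apply, smul_eq_mul, Finset.mul_sum]
        apply Finset.sum_congr rfl; intro i _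
        apply Finset.sum_congr rfl; intro i' _
        ring)

theorem bK_apply (K : I → I → ℤ) (f g : I → ℤ) :
    bK K f g = ∑ i, ∑ i', K i i' * f i * g i' := rfl

theorem bK_self (K : I → I → ℤ) (f : I → ℤ) : bK K f f = qK K f := rfl

theorem single_bound {ι : Type*} [Fintype ι] [DecidableEq ι] (K : I → I → ℤ) (c : I → ℤ)
    (j : I → ι) (m : ℤ) (hm : 0 ≤ m) (hq : ∀ f, qK K f = 0 ∨ m ≤ qK K f) :
    (Fintype.card ι : ℤ) * (∑ i, ∑ i', if j i = j i' then K i i' * c i * c i' else 0)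
        - qK K c = 0 ∨
      ((Fintype.card ι : ℤ) - 1) * m
        ≤ (Fintype.card ι : ℤ) * (∑ i, ∑ i', if j i = j i' then K i i' * c i * c i' else 0)
          - qK K c := by
  have h := fiber_bound (bK K) m hm hq (fun (a : ι) (i : I) => if j i = a then c i else 0)
  have h1 : (∑ a : ι, fun i : I => if j i = a then c i else 0) = c := by
    funext i
    rw [Finset.sum_apply, Finset.sum_ite_eq]
    simp
  have h2 : ∑ a : ι, bK K (fun i : I => if j i = a then c i else 0)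
        (fun i : I => if j i = a then c i else 0)
      = ∑ i, ∑ i', if j i = j i' then K i i' * c i * c i' else 0 := by
    simp only [bK_apply]
    rw [Finset.sum_comm]
    apply Finset.sum_congr rfl; intro i _
    rw [Finset.sum_comm]
    apply Finset.sum_congr rfl; intro i' _
    rw [Finset.sum_eq_single (j i)]
    · rw [if_pos rfl]
      by_cases hji : j i = j i'
      · rw [if_pos hji.symm, if_pos hji]
      · rw [if_neg (fun h' => hji h'.symm), if_neg hji, mul_zero]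
    · intro a _ ha
      rw [if_neg (fun h' => ha h'.symm)]; ring
    · intro h'; exact absurd (Finset.mem_univ _) h'
  rw [h1, h2, bK_self] at h
  exact h

theorem sum_zero_or_le {α : Type*} (S : Finset α) (g : α → ℤ) (m : ℤ) (hm : 0 ≤ m)
    (h : ∀ t ∈ S, g t = 0 ∨ m ≤ g t) : ∑ t ∈ S, g t = 0 ∨ m ≤ ∑ t ∈ S, g t := by
  by_cases hall : ∀ t ∈ S, g t = 0
  · left; exact Finset.sum_eq_zero hall
  · right
    push Not at hall
    obtain ⟨t₀, ht₀, hne⟩ := hall
    have h1 : m ≤ g t₀ := (h t₀ ht₀).resolve_left hne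
    refine le_trans h1 (Finset.single_le_sum (f := g) ?_ ht₀)
    intro t ht
    rcases h t ht with h2 | h2
    · rw [h2]
    · exact le_trans hm h2

theorem block_diag {ρ : Type*} [DecidableEq ρ] (K : I → I → ℤ) (r : I → ρ) (m : ℤ) (hm : 0 ≤ m)
    (hq : ∀ f, qK K f = 0 ∨ m ≤ qK K f) (f : I → ℤ) :
    qK (fun i i' => if r i = r i' then K i i' else 0) f = 0 ∨
      m ≤ qK (fun i i' => if r i = r i' then K i i' else 0) f := by
  have h1 : qK (fun i i' => if r i = r i' then K i i' else 0) f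
      = ∑ t ∈ Finset.univ.image r, qK K (fun i => if r i = t then f i else 0) := by
    simp only [qK]
    conv_rhs => rw [Finset.sum_comm]
    apply Finset.sum_congr rfl; intro i _
    conv_rhs => rw [Finset.sum_comm]
    apply Finset.sum_congr rfl; intro i' _
    rw [Finset.sum_eq_single (r i)]
    · rw [if_pos rfl]
      by_cases hji : r i = r i'
      · rw [if_pos hji.symm, if_pos hji]
      · rw [if_neg hji, if_neg (fun h' => hji h'.symm), mul_zero, zero_mul, zero_mul]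
    · intro a _ ha
      rw [if_neg (fun h' => ha h'.symm)]; ring
    · intro h'; exact absurd (Finset.mem_image_of_mem r (Finset.mem_univ i)) h'
  rw [h1]
  exact sum_zero_or_le _ _ m hm (fun t _ => hq _)

theorem group_bound {ρ ι : Type*} [DecidableEq ρ] [Fintype ι] [DecidableEq ι] (K : I → I → ℤ)
    (c : I → ℤ) (r : I → ρ) (j : I → ι) (m : ℤ) (hm : 0 ≤ m)
    (hq : ∀ f, qK K f = 0 ∨ m ≤ qK K f) :
    (Fintype.card ι : ℤ) *
        (∑ i, ∑ i', if r i = r i' ∧ j i = j i' then K i i' * c i * c i' else 0)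
        - (∑ i, ∑ i', if r i = r i' then K i i' * c i * c i' else 0) = 0 ∨
      ((Fintype.card ι : ℤ) - 1) * m ≤ (Fintype.card ι : ℤ) *
        (∑ i, ∑ i', if r i = r i' ∧ j i = j i' then K i i' * c i * c i' else 0)
        - (∑ i, ∑ i', if r i = r i' then K i i' * c i * c i' else 0) := by
  have h := single_bound (fun i i' => if r i = r i' then K i i' else 0) c j m hm
    (block_diag K r m hm hq)
  have h1 : (∑ i, ∑ i', if j i = j i' then (if r i = r i' then K i i' else 0) * c i * c i' else 0)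
      = ∑ i, ∑ i', if r i = r i' ∧ j i = j i' then K i i' * c i * c i' else 0 := by
    apply Finset.sum_congr rfl; intro i _
    apply Finset.sum_congr rfl; intro i' _
    by_cases h1 : r i = r i' <;> by_cases h2 : j i = j i' <;> simp [h1, h2]
  have h2 : qK (fun i i' => if r i = r i' then K i i' else 0) c
      = ∑ i, ∑ i', if r i = r i' then K i i' * c i * c i' else 0 := by
    simp only [qK]
    apply Finset.sum_congr rfl; intro i _
    apply Finset.sum_congr rfl; intro i' _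
    by_cases h1 : r i = r i' <;> simp [h1]
  rw [h1, h2] at h
  exact h

end Group

section Eval

/-- the exponents prime to `p` -/
def Jp (p n : ℕ) : Finset ℕ :=
  (Finset.range (p ^ (n + 1))).filter (fun j => Nat.Coprime j (p ^ (n + 1)))

theorem sum_range_coprime_split {A : Type*} [AddCommMonoid A] {p : ℕ} (hp : p.Prime) (n : ℕ)
    (g : ℕ → A) :
    ∑ j ∈ Finset.range (p ^ (n + 1)), g j
      = ∑ j ∈ Jp p n, g j + ∑ j ∈ Finset.range (p ^ n), g (p * j) := by
  rw [Jp, ← Finset.sum_filter_add_sum_filter_not (Finset.range (p ^ (n + 1)))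
    (fun j => Nat.Coprime j (p ^ (n + 1)))]
  congr 1
  symm
  apply Finset.sum_bij (fun j _ => p * j)
  · intro j hj
    rw [Finset.mem_filter, Finset.mem_range]
    refine ⟨?_, ?_⟩
    · rw [pow_succ']
      exact Nat.mul_lt_mul_of_pos_left (Finset.mem_range.1 hj) hp.pos
    · intro hc
      have h1 : Nat.Coprime (p * j) p :=
        Nat.Coprime.coprime_dvd_right (dvd_pow_self p (Nat.succ_ne_zero n)) hc
      have h2 : p ∣ Nat.gcd (p * j) p := Nat.dvd_gcd (dvd_mul_right p j) dvd_rfl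
      rw [h1] at h2
      exact hp.one_lt.ne' (Nat.dvd_one.1 h2)
  · intro j _ j' _ h
    exact Nat.eq_of_mul_eq_mul_left hp.pos h
  · intro j hj
    rw [Finset.mem_filter, Finset.mem_range] at hj
    have h1 : p ∣ j := by
      by_contra hnd
      apply hj.2
      exact Nat.Coprime.pow_right _ ((Nat.Prime.coprime_iff_not_dvd hp).2 hnd).symm
    obtain ⟨j', rfl⟩ := h1
    refine ⟨j', ?_, rfl⟩
    rw [Finset.mem_range]
    have := hj.1
    rw [pow_succ'] at this
    exact Nat.lt_of_mul_lt_mul_left this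
  · intro j _; rfl

theorem card_Jp {p : ℕ} (hp : p.Prime) (n : ℕ) : (Jp p n).card + p ^ n = p ^ (n + 1) := by
  have := sum_range_coprime_split hp n (fun _ => 1)
  simpa using this.symm

theorem coprime_of_mem_Jp {p n j : ℕ} (hj : j ∈ Jp p n) : Nat.Coprime j (p ^ n) :=
  Nat.Coprime.coprime_dvd_right (pow_dvd_pow p (Nat.le_succ n)) (Finset.mem_filter.1 hj).2

theorem one_mem_Jp {p : ℕ} (hp : p.Prime) (n : ℕ) : 1 ∈ Jp p n := by
  rw [Jp, Finset.mem_filter, Finset.mem_range]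
  exact ⟨Nat.one_lt_pow (Nat.succ_ne_zero n) hp.one_lt, Nat.coprime_one_left _⟩

open Classical in
theorem sum_range_eval {I : Type*} [Fintype I] {K : ℕ} (hK : K ≠ 0) (A : I → I → ℤ) (μ : I → ℂ)
    (hμ : ∀ i, μ i ^ K = 1) :
    ∑ j ∈ Finset.range K, ∑ i, ∑ i', (A i i' : ℂ) * (μ i * conj (μ i')) ^ j
      = (K : ℂ) * ((∑ i, ∑ i', (if μ i = μ i' then A i i' else 0) : ℤ) : ℂ) := by
  rw [Finset.sum_comm]
  push_cast
  rw [Finset.mul_sum]
  apply Finset.sum_congr rfl; intro i _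
  rw [Finset.sum_comm, Finset.mul_sum]
  apply Finset.sum_congr rfl; intro i' _
  rw [← Finset.mul_sum]
  have hν : (μ i * conj (μ i')) ^ K = 1 := by
    rw [mul_pow, ← map_pow, hμ, hμ]; simp
  rw [geom_root hν]
  by_cases h : μ i = μ i'
  · rw [if_pos ((mul_conj_eq_one_iff hK (hμ i')).2 h), if_pos h]; ring
  · rw [if_neg (fun h' => h ((mul_conj_eq_one_iff hK (hμ i')).1 h')), if_neg h]; simp

open Classical in
theorem sum_coprime_eval {p n : ℕ} (hp : p.Prime) {I : Type*} [Fintype I] (A : I → I → ℤ)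
    (μ : I → ℂ) (hμ : ∀ i, μ i ^ (p ^ (n + 1)) = 1) :
    ∑ j ∈ Jp p n, ∑ i, ∑ i', (A i i' : ℂ) * (μ i * conj (μ i')) ^ j
      = ((p ^ n : ℕ) : ℂ) * (((p : ℤ) * (∑ i, ∑ i', (if μ i = μ i' then A i i' else 0))
          - ∑ i, ∑ i', (if μ i ^ p = μ i' ^ p then A i i' else 0) : ℤ) : ℂ) := by
  have hN : p ^ (n + 1) ≠ 0 := pow_ne_zero _ hp.ne_zero
  have hN' : p ^ n ≠ 0 := pow_ne_zero _ hp.ne_zero
  have h1 := sum_range_coprime_split hp n
    (fun j => ∑ i, ∑ i', (A i i' : ℂ) * (μ i * conj (μ i')) ^ j)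
  have h2 := sum_range_eval hN A μ hμ
  have hμ' : ∀ i, (μ i ^ p) ^ (p ^ n) = 1 := by
    intro i; rw [← pow_mul, ← pow_succ']; exact hμ i
  have h3 := sum_range_eval hN' A (fun i => μ i ^ p) hμ'
  have h4 : ∑ j ∈ Finset.range (p ^ n), ∑ i, ∑ i', (A i i' : ℂ) * (μ i * conj (μ i')) ^ (p * j)
      = ∑ j ∈ Finset.range (p ^ n), ∑ i, ∑ i', (A i i' : ℂ) * (μ i ^ p * conj (μ i' ^ p)) ^ j := by
    apply Finset.sum_congr rfl; intro j _
    apply Finset.sum_congr rfl; intro i _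
    apply Finset.sum_congr rfl; intro i' _
    rw [pow_mul, mul_pow, map_pow]
  rw [h2, h4, h3] at h1
  have h5 : ∑ j ∈ Jp p n, ∑ i, ∑ i', (A i i' : ℂ) * (μ i * conj (μ i')) ^ j
      = ((p ^ (n + 1) : ℕ) : ℂ) * ((∑ i, ∑ i', (if μ i = μ i' then A i i' else 0) : ℤ) : ℂ)
        - ((p ^ n : ℕ) : ℂ) * ((∑ i, ∑ i', (if μ i ^ p = μ i' ^ p then A i i' else 0) : ℤ) : ℂ) := by
    rw [h1]; ring
  rw [h5]
  push_cast
  ring

/-- **Vector valued Parseval bound.** -/
theorem vec_parseval {p n : ℕ} (hp : p.Prime) {I : Type*} [Fintype I] (K : I → I → ℤ)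
    (c : I → ℤ) (μ : I → ℂ) (hμ : ∀ i, μ i ^ (p ^ (n + 1)) = 1) (m : ℤ) (hm : 0 ≤ m)
    (hq : ∀ f, qK K f = 0 ∨ m ≤ qK K f) :
    ∃ E : ℤ, (E = 0 ∨ ((p : ℤ) - 1) * m ≤ E) ∧
      ∑ j ∈ Jp p n, ∑ i, ∑ i', ((K i i' * c i * c i' : ℤ) : ℂ) * (μ i * conj (μ i')) ^ j
        = ((p ^ n : ℕ) : ℂ) * (E : ℂ) := by
  classical
  have hN : p ^ (n + 1) ≠ 0 := pow_ne_zero _ hp.ne_zero
  have hN' : 0 < p ^ n := pow_pos hp.pos _
  have : NeZero (p ^ (n + 1)) := ⟨hN⟩
  have hω := Complex.isPrimitiveRoot_exp (p ^ (n + 1)) hN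
  set ω := Complex.exp (2 * Real.pi * Complex.I / ((p ^ (n + 1) : ℕ) : ℂ)) with hωdef
  have hex : ∀ i, ∃ e : ℕ, e < p ^ (n + 1) ∧ ω ^ e = μ i := fun i =>
    hω.eq_pow_of_pow_eq_one (hμ i)
  choose e he1 he2 using hex
  have hlt : ∀ i, e i / p ^ n < p := by
    intro i
    rw [Nat.div_lt_iff_lt_mul hN', ← pow_succ']
    exact he1 i
  refine ⟨_, ?_, sum_coprime_eval hp (fun i i' => K i i' * c i * c i') μ hμ⟩
  have h := group_bound K c (fun i => μ i ^ p) (fun i => (⟨e i / p ^ n, hlt i⟩ : Fin p)) m hm hq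
  rw [Fintype.card_fin] at h
  have hiff : ∀ i i', (μ i = μ i') ↔
      (μ i ^ p = μ i' ^ p ∧ (⟨e i / p ^ n, hlt i⟩ : Fin p) = ⟨e i' / p ^ n, hlt i'⟩) := by
    intro i i'
    constructor
    · intro h1
      have h2 : e i = e i' := hω.pow_inj (he1 i) (he1 i') (by rw [he2, he2, h1])
      exact ⟨by rw [h1], by rw [Fin.mk.injEq, h2]⟩
    · rintro ⟨h1, h2⟩
      rw [Fin.mk.injEq] at h2
      have hfin : IsOfFinOrder ω := isOfFinOrder_iff_pow_eq_one.2 ⟨_, Nat.pos_of_ne_zero hN, hω.pow_eq_one⟩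
      rw [← he2 i, ← he2 i', ← pow_mul, ← pow_mul, hfin.pow_eq_pow_iff_modEq, ← hω.eq_orderOf] at h1
      have h3 : e i ≡ e i' [MOD p ^ n] := by
        rw [pow_succ] at h1
        exact Nat.ModEq.mul_right_cancel' hp.ne_zero h1
      have h4 : e i = e i' := by
        rw [← Nat.div_add_mod (e i) (p ^ n), ← Nat.div_add_mod (e i') (p ^ n), h2]
        congr 1
      rw [← he2 i, ← he2 i', h4]
  have e1 : (∑ i, ∑ i', (if μ i = μ i' then K i i' * c i * c i' else 0))
      = ∑ i, ∑ i', (if μ i ^ p = μ i' ^ p ∧ (⟨e i / p ^ n, hlt i⟩ : Fin p) = ⟨e i' / p ^ n, hlt i'⟩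
          then K i i' * c i * c i' else 0) := by
    apply Finset.sum_congr rfl; intro i _
    apply Finset.sum_congr rfl; intro i' _
    exact if_congr (hiff i i') rfl rfl
  rw [e1]
  exact h

end Eval

section Refined

theorem bracket_of_dvd {α : Type*} (S : Finset α) (x : α → ℤ) (P : ℕ) (hS : S.card ≤ P)
    (hT : (P : ℤ) ∣ ∑ w ∈ S, x w) :
    (P : ℤ) * ∑ w ∈ S, x w ^ 2 - (∑ w ∈ S, x w) ^ 2 = 0 ∨
      2 * (P : ℤ) ≤ (P : ℤ) * ∑ w ∈ S, x w ^ 2 - (∑ w ∈ S, x w) ^ 2 := by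
  obtain ⟨q₀, hq₀⟩ := hT
  have hS' : (0 : ℤ) ≤ (P : ℤ) - S.card := by
    have : (S.card : ℤ) ≤ P := by exact_mod_cast hS
    linarith
  have e1 : ∑ w ∈ S, (x w - q₀) ^ 2
      = ∑ w ∈ S, x w ^ 2 - 2 * q₀ * ∑ w ∈ S, x w + S.card * q₀ ^ 2 := by
    have : ∀ w, (x w - q₀) ^ 2 = x w ^ 2 - 2 * q₀ * x w + q₀ ^ 2 := by intro w; ring
    simp only [this, Finset.sum_add_distrib, Finset.sum_sub_distrib, ← Finset.mul_sum,
      Finset.sum_const, nsmul_eq_mul]
  have e2 : ∑ w ∈ S, (x w - q₀) = ∑ w ∈ S, x w - S.card * q₀ := by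
    simp only [Finset.sum_sub_distrib, Finset.sum_const, nsmul_eq_mul]
  have hev1 : Even (∑ w ∈ S, ((x w - q₀) ^ 2 - (x w - q₀))) := by
    apply Finset.even_sum; intro w _
    have := Int.even_mul_pred_self (x w - q₀)
    have e : (x w - q₀) ^ 2 - (x w - q₀) = (x w - q₀) * (x w - q₀ - 1) := by ring
    rw [e]; exact this
  have hev2 : Even (((P : ℤ) - S.card) * (q₀ ^ 2 + q₀)) := by
    apply Even.mul_left
    have := Int.even_mul_succ_self q₀
    have e : q₀ ^ 2 + q₀ = q₀ * (q₀ + 1) := by ring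
    rw [e]; exact this
  obtain ⟨z₁, hz₁⟩ := hev1
  obtain ⟨z₂, hz₂⟩ := hev2
  rw [Finset.sum_sub_distrib, e2, hq₀] at hz₁
  have hZ : ∑ w ∈ S, (x w - q₀) ^ 2 + ((P : ℤ) - S.card) * q₀ ^ 2 = 2 * (z₁ + z₂) := by
    linear_combination hz₁ + hz₂
  have hZnn : 0 ≤ ∑ w ∈ S, (x w - q₀) ^ 2 + ((P : ℤ) - S.card) * q₀ ^ 2 := by
    have h1 : 0 ≤ ∑ w ∈ S, (x w - q₀) ^ 2 := Finset.sum_nonneg (fun w _ => sq_nonneg _)
    have h2 : 0 ≤ ((P : ℤ) - S.card) * q₀ ^ 2 := mul_nonneg hS' (sq_nonneg _)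
    linarith
  have hBr : (P : ℤ) * ∑ w ∈ S, x w ^ 2 - (∑ w ∈ S, x w) ^ 2 = P * (2 * (z₁ + z₂)) := by
    rw [← hZ, e1, hq₀]; ring
  rw [hBr]
  rw [hZ] at hZnn
  have hP0 : (0 : ℤ) ≤ P := Int.natCast_nonneg _
  rcases (by omega : z₁ + z₂ = 0 ∨ 1 ≤ z₁ + z₂) with h | h
  · left; rw [h]; ring
  · right; nlinarith

theorem comb_bound_dvd {I α β : Type*} [Fintype I] [DecidableEq α] [DecidableEq β] (a : I → ℤ)
    (v : I → α) (u : α → β) (P : ℕ) (hP : 0 < P)
    (hfib : ∀ (S : Finset α) (t : β), (∀ w ∈ S, u w = t) → S.card ≤ P)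
    (ha : (P : ℤ) ∣ ∑ i, a i) :
    (P : ℤ) * (∑ i, ∑ i', (if v i = v i' then a i * a i' else 0))
      - ∑ i, ∑ i', (if u (v i) = u (v i') then a i * a i' else 0) = 0 ∨
    2 * ((P : ℤ) - 1) ≤ P * (∑ i, ∑ i', (if v i = v i' then a i * a i' else 0))
      - ∑ i, ∑ i', (if u (v i) = u (v i') then a i * a i' else 0) := by
  rw [sum_sum_ite_eq_sum_sq a v, sum_sum_ite_eq_sum_sq a (fun i => u (v i))]
  set V := Finset.univ.image v with hV
  set U := Finset.univ.image (fun i => u (v i)) with hU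
  set A : α → ℤ := fun w => ∑ i with v i = w, a i with hA
  have hmaps : ∀ w ∈ V, u w ∈ U := by
    intro w hw
    obtain ⟨i, _, rfl⟩ := Finset.mem_image.1 hw
    exact Finset.mem_image_of_mem (fun i => u (v i)) (Finset.mem_univ i)
  have hT : ∀ t, (∑ i with u (v i) = t, a i) = ∑ w ∈ V with u w = t, A w := by
    intro t
    have hm : ∀ i ∈ Finset.univ.filter (fun i => u (v i) = t), v i ∈ V.filter (fun w => u w = t) := by
      intro i hi
      exact Finset.mem_filter.2 ⟨Finset.mem_image_of_mem v (Finset.mem_univ i),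
        (Finset.mem_filter.1 hi).2⟩
    rw [← Finset.sum_fiberwise_of_maps_to hm]
    apply Finset.sum_congr rfl
    intro w hw
    apply Finset.sum_congr _ (fun _ _ => rfl)
    ext i
    simp only [Finset.mem_filter, Finset.mem_univ, true_and]
    constructor
    · rintro ⟨_, h⟩; exact h
    · intro h; exact ⟨by rw [h]; exact (Finset.mem_filter.1 hw).2, h⟩
  have h1 : ∑ w ∈ V, A w ^ 2 = ∑ t ∈ U, ∑ w ∈ V with u w = t, A w ^ 2 :=
    (Finset.sum_fiberwise_of_maps_to hmaps _).symm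
  have h2 : (P : ℤ) * ∑ w ∈ V, A w ^ 2 - ∑ t ∈ U, (∑ i with u (v i) = t, a i) ^ 2
      = ∑ t ∈ U, ((P : ℤ) * ∑ w ∈ V with u w = t, A w ^ 2 - (∑ w ∈ V with u w = t, A w) ^ 2) := by
    rw [h1, Finset.mul_sum, ← Finset.sum_sub_distrib]
    apply Finset.sum_congr rfl; intro t _
    rw [hT]
  rw [h2]
  have hcard : ∀ t, (V.filter (fun w => u w = t)).card ≤ P := fun t =>
    hfib _ t (fun w hw => (Finset.mem_filter.1 hw).2)
  have hsum : ∑ i, a i = ∑ t ∈ U, ∑ w ∈ V with u w = t, A w := by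
    rw [← Finset.sum_fiberwise_of_maps_to
      (fun i _ => Finset.mem_image_of_mem (fun i => u (v i)) (Finset.mem_univ i))]
    apply Finset.sum_congr rfl; intro t _
    exact hT t
  set Br : β → ℤ := fun t =>
    (P : ℤ) * ∑ w ∈ V with u w = t, A w ^ 2 - (∑ w ∈ V with u w = t, A w) ^ 2 with hBr
  have hnn : ∀ t, 0 ≤ Br t := fun t => bracket_nonneg _ A P hP (hcard t)
  have hP' : (0 : ℤ) < P := by exact_mod_cast hP
  by_cases hall : ∀ t ∈ U, (P : ℤ) ∣ ∑ w ∈ V with u w = t, A w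
  · rcases sum_zero_or_le U Br (2 * (P : ℤ)) (by linarith)
      (fun t ht => bracket_of_dvd _ A P (hcard t) (hall t ht)) with h | h
    · left; exact h
    · right; linarith
  · right
    push Not at hall
    obtain ⟨t₀, ht₀, hnd₀⟩ := hall
    have hex : ∃ t₁ ∈ U.erase t₀, ¬ (P : ℤ) ∣ ∑ w ∈ V with u w = t₁, A w := by
      by_contra hcon
      push Not at hcon
      apply hnd₀
      rw [hsum, ← Finset.add_sum_erase U _ ht₀] at ha
      exact (dvd_add_left (Finset.dvd_sum hcon)).1 ha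
    obtain ⟨t₁, ht₁, hnd₁⟩ := hex
    have b0 : (P : ℤ) - 1 ≤ Br t₀ := bracket_ge_of_not_dvd _ A P hP (hcard t₀) hnd₀
    have b1 : (P : ℤ) - 1 ≤ Br t₁ := bracket_ge_of_not_dvd _ A P hP (hcard t₁) hnd₁
    have hs : ∑ t ∈ U, Br t = Br t₀ + (Br t₁ + ∑ t ∈ (U.erase t₀).erase t₁, Br t) := by
      rw [← Finset.add_sum_erase U _ ht₀, ← Finset.add_sum_erase (U.erase t₀) _ ht₁]
    have hr : 0 ≤ ∑ t ∈ (U.erase t₀).erase t₁, Br t := Finset.sum_nonneg (fun t _ => hnn t)
    rw [hs]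
    linarith

theorem scalar_bound_dvd {p n : ℕ} (hp : p.Prime) {I : Type*} [Fintype I] (a : I → ℤ)
    (μ : I → ℂ) (hμ : ∀ i, μ i ^ (p ^ (n + 1)) = 1) (ha : (p : ℤ) ∣ ∑ i, a i) :
    ∃ E : ℤ, (E = 0 ∨ 2 * ((p : ℤ) - 1) ≤ E) ∧
      ∑ j ∈ Jp p n, ∑ i, ∑ i', ((a i * a i' : ℤ) : ℂ) * (μ i * conj (μ i')) ^ j
        = ((p ^ n : ℕ) : ℂ) * (E : ℂ) := by
  classical
  exact ⟨_, comb_bound_dvd a μ (fun w => w ^ p) p hp.pos
    (fun S t h => card_le_of_pow_eq hp.pos S t h) ha,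
    sum_coprime_eval hp (fun i i' => a i * a i') μ hμ⟩

end Refined

end Cfsg.Agent.Lib.Helper81
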