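import Cfsg.Agent.Lib.Helper81.SambaleMajor
import Cfsg.Agent.Lib.Helper81.VecParseval

set_option autoImplicit false
set_option linter.unusedSectionVars false
open Cfsg
open scoped ComplexConjugate
open Cfsg.Agent.Lib.Helper20

namespace Cfsg.Agent.Lib.Helper81

section Inner

variable {G : Type*} [Group G] [Fintype G] {p : ℕ}

theorem pInner_conj (a c : G → ℂ) :
    conj (classInner (pRegularPart p a) c) = classInner (pRegularPart p c) a := by
  classical
  simp only [classInner, pRegularPart_eq, map_mul, map_sum, map_inv₀, Complex.conj_natCast]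
  congr 1
  apply Finset.sum_congr rfl; intro s _
  split_ifs
  · rw [Complex.conj_conj, mul_comm]
  · simp

theorem pInner_self_real (a : G → ℂ) :
    classInner (pRegularPart p a) a
      = (((Nat.card G : ℝ)⁻¹ * ∑ s, ‖pRegularPart p a s‖ ^ 2 : ℝ) : ℂ) := by
  classical
  simp only [classInner, pRegularPart_eq]
  push_cast
  congr 1
  apply Finset.sum_congr rfl; intro s _
  have := normSq_eq_mul_conj' (if IsPRegular p s then a s else 0)
  push_cast at this
  rw [this]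
  split_ifs <;> simp

theorem pInner_self_eq_zero {a : G → ℂ} (h : classInner (pRegularPart p a) a = 0) :
    pRegularPart p a = 0 := by
  rw [pInner_self_real] at h
  have h1 : (Nat.card G : ℝ)⁻¹ * ∑ s, ‖pRegularPart p a s‖ ^ 2 = 0 := by exact_mod_cast h
  have hG : (Nat.card G : ℝ)⁻¹ ≠ 0 := inv_ne_zero (by exact_mod_cast Nat.card_pos.ne')
  have h2 := (mul_eq_zero.1 h1).resolve_left hG
  funext s
  have h3 := (Finset.sum_eq_zero_iff_of_nonneg (fun s _ => by positivity)).1 h2 s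
    (Finset.mem_univ s)
  simpa using h3

theorem eq_zero_of_sum_ofReal {S : Finset ℕ} {t : ℕ → ℂ} (r : ℕ → ℝ) (hr : ∀ j ∈ S, 0 ≤ r j)
    (ht : ∀ j ∈ S, t j = r j) (h : ∑ j ∈ S, t j = 0) : ∀ j ∈ S, t j = 0 := by
  have h1 : ∑ j ∈ S, r j = 0 := by
    have : ((∑ j ∈ S, r j : ℝ) : ℂ) = 0 := by
      rw [Complex.ofReal_sum, ← h]
      exact Finset.sum_congr rfl (fun j hj => (ht j hj).symm)
    exact_mod_cast this
  intro j hj
  rw [ht j hj, (Finset.sum_eq_zero_iff_of_nonneg hr).1 h1 j hj]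
  simp

end Inner

section Lat

variable {G : Type*} [Group G] [Fintype G] {p : ℕ} {M : Ideal AlgInt}

open Classical in
/-- the Gram matrix of the block `b` -/
noncomputable def KS (p : ℕ) (b : Set (IrrCharacter G)) (ζ ξ : IrrCharacter G) : ℤ :=
  if ζ ∈ b ∧ ξ ∈ b then kC p b ζ ξ else 0

open Classical in
/-- the virtual character attached to an integer vector -/
noncomputable def phiS [Fintype (IrrCharacter G)] (b : Set (IrrCharacter G))
    (f : IrrCharacter G → ℤ) : G → ℂ :=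
  ∑ ζ : IrrCharacter G, (if ζ ∈ b then (f ζ : ℂ) else 0) • (ζ : G → ℂ)

theorem KS_symm (hp : p.Prime) (b : Set (IrrCharacter G)) (ζ ξ : IrrCharacter G) :
    KS p b ζ ξ = KS p b ξ ζ := by
  classical
  simp only [KS]
  rw [kC_symm hp b ζ ξ]
  exact if_congr and_comm rfl rfl

variable [Fintype (IrrCharacter G)]

theorem bK_KS_symm (hp : p.Prime) (b : Set (IrrCharacter G)) (f g : IrrCharacter G → ℤ) :
    bK (KS p b) f g = bK (KS p b) g f := by
  rw [bK_apply, bK_apply, Finset.sum_comm]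
  apply Finset.sum_congr rfl; intro ζ _
  apply Finset.sum_congr rfl; intro ξ _
  rw [KS_symm hp b]; ring

theorem bK_KS (hM : IsPModular p M) (b : Set (IrrCharacter G)) (f g : IrrCharacter G → ℤ) :
    ((bK (KS p b) f g : ℤ) : ℂ)
      = (p : ℂ) ^ blockDefect p b * classInner (pRegularPart p (phiS b f)) (phiS b g) := by
  classical
  rw [bK_apply, phiS, phiS, pRegularPart_sum, classInner_sum_left, Finset.mul_sum]
  push_cast
  apply Finset.sum_congr rfl; intro ζ _
  rw [classInner_sum_right, Finset.mul_sum]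
  apply Finset.sum_congr rfl; intro ξ _
  rw [pRegularPart_smul, classInner_smul_left, classInner_smul_right]
  simp only [KS]
  by_cases hζ : ζ ∈ b
  · by_cases hξ : ξ ∈ b
    · rw [if_pos hζ, if_pos hξ, if_pos ⟨hζ, hξ⟩, kC_spec hM ζ hξ, mC]
      simp only [map_intCast]
      ring
    · rw [if_neg hξ, if_neg (fun h : ζ ∈ b ∧ ξ ∈ b => hξ h.2)]; simp
  · rw [if_neg hζ, if_neg (fun h : ζ ∈ b ∧ ξ ∈ b => hζ h.1)]; simp

theorem qK_KS_nonneg (hM : IsPModular p M) (b : Set (IrrCharacter G)) (f : IrrCharacter G → ℤ) :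
    0 ≤ qK (KS p b) f := by
  have h := bK_KS hM b f f
  rw [bK_self, pInner_self_real] at h
  have h1 : ((qK (KS p b) f : ℤ) : ℝ) = (p : ℝ) ^ blockDefect p b *
      ((Nat.card G : ℝ)⁻¹ * ∑ s, ‖pRegularPart p (phiS b f) s‖ ^ 2) := by exact_mod_cast h
  have h2 : (0 : ℝ) ≤ ((qK (KS p b) f : ℤ) : ℝ) := by rw [h1]; positivity
  exact_mod_cast h2

theorem phiS_classFunction (b : Set (IrrCharacter G)) (f : IrrCharacter G → ℤ) :
    IsClassFunction G (phiS b f) := by
  intro g h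
  simp only [phiS, Finset.sum_apply, Pi.smul_apply]
  apply Finset.sum_congr rfl; intro ζ _
  rw [irr_classFunction ζ g h]

theorem phiS_inner_eq_zero (hM : IsPModular p M) {b : Set (IrrCharacter G)} (hb : IsPBlock M b)
    (f : IrrCharacter G → ℤ) {ζ : IrrCharacter G} (hζ : ζ ∉ b) :
    classInner (pRegularPart p (phiS b f)) (ζ : G → ℂ) = 0 := by
  classical
  rw [phiS, pRegularPart_sum, classInner_sum_left]
  apply Finset.sum_eq_zero; intro ξ _
  rw [pRegularPart_smul, classInner_smul_left]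
  split_ifs with hξ
  · have : ¬ SameBlock M (ξ : G → ℂ) (ζ : G → ℂ) := by
      intro hs
      apply hζ
      rw [isPBlock_eq_blockOf hM hb hξ]
      exact hs
    have h0 := mC_eq_zero hM this
    rw [mC] at h0
    rw [h0, mul_zero]
  · rw [zero_mul]

theorem rho_memLocalRing (hM : IsPModular p M) {b : Set (IrrCharacter G)} {ζ : IrrCharacter G}
    (hζ : ζ ∈ b) :
    MemLocalRing M ((p : ℂ) ^ blockDefect p b * (ζ : G → ℂ) 1 / (Nat.card G : ℂ)) := by
  have h := (unit_factor hM hζ).1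
  have hG : (Nat.card G : ℂ) ≠ 0 := card_ne_zero_complex
  have hp0 : (p : ℂ) ≠ 0 := by exact_mod_cast hM.1.ne_zero
  have e : (p : ℂ) ^ blockDefect p b * (ζ : G → ℂ) 1 / (Nat.card G : ℂ)
      = (p : ℂ) ^ blockHeight p b (ζ : G → ℂ) *
        (((p ^ blockDefect p b * charDegree (ζ : G → ℂ) : ℕ) : ℂ) /
        ((p ^ blockHeight p b (ζ : G → ℂ) * Nat.card G : ℕ) : ℂ)) := by
    rw [irr_one_eq]
    push_cast
    field_simp
  rw [e]
  exact memLocalRing_mul hM (memLocalRing_pow hM (memLocalRing_natCast hM p) _) h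

theorem KS_congr (hM : IsPModular p M) {b : Set (IrrCharacter G)} (hb : IsPBlock M b) :
    ∃ ρ σ : IrrCharacter G → ℂ, (∀ ζ, MemLocalRing M (ρ ζ)) ∧ (∀ ζ, MemLocalRing M (σ ζ)) ∧
      ∀ ζ ξ, MemLocalIdeal M ((KS p b ζ ξ : ℂ) - ρ ζ * σ ξ) := by
  classical
  obtain ⟨ζ₀, hζ₀⟩ := isPBlock_nonempty hM hb
  refine ⟨fun ζ => if ζ ∈ b then (p : ℂ) ^ blockDefect p b * (ζ : G → ℂ) 1 / (Nat.card G : ℂ)
    else 0, fun ξ => if ξ ∈ b then Sm p (ζ₀ : G → ℂ) (ξ : G → ℂ) else 0, ?_, ?_, ?_⟩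
  · intro ζ
    show MemLocalRing M (if ζ ∈ b then _ else _)
    split_ifs with h
    · exact rho_memLocalRing hM h
    · exact memLocalRing_zero hM
  · intro ξ
    show MemLocalRing M (if ξ ∈ b then _ else _)
    split_ifs with h
    · exact Sm_memLocalRing hM ζ₀ ξ
    · exact memLocalRing_zero hM
  · intro ζ ξ
    show MemLocalIdeal M ((KS p b ζ ξ : ℂ) - (if ζ ∈ b then _ else _) * (if ξ ∈ b then _ else _))
    simp only [KS]
    by_cases hζ : ζ ∈ b
    · by_cases hξ : ξ ∈ b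
      · rw [if_pos hζ, if_pos hξ, if_pos ⟨hζ, hξ⟩, kC_spec hM ζ hξ]
        have hG : (Nat.card G : ℂ) ≠ 0 := card_ne_zero_complex
        have h10 := irr_one_ne_zero ζ.2
        have e : (p : ℂ) ^ blockDefect p b * mC p (ζ : G → ℂ) (ξ : G → ℂ)
            - (p : ℂ) ^ blockDefect p b * (ζ : G → ℂ) 1 / (Nat.card G : ℂ) *
              Sm p (ζ₀ : G → ℂ) (ξ : G → ℂ)
            = (p : ℂ) ^ blockDefect p b * (ζ : G → ℂ) 1 / (Nat.card G : ℂ) *
              (Sm p (ζ : G → ℂ) (ξ : G → ℂ) - Sm p (ζ₀ : G → ℂ) (ξ : G → ℂ)) := by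
          rw [Sm_eq ζ ξ]; field_simp
        rw [e]
        exact memLocalIdeal_mul_left hM (rho_memLocalRing hM hζ)
          (Sm_sub_memLocalIdeal hM (isPBlock_sameBlock hM hb hζ hζ₀) ξ)
      · rw [if_neg hξ, if_neg (fun h : ζ ∈ b ∧ ξ ∈ b => hξ h.2)]
        simpa using memLocalIdeal_zero hM
    · rw [if_neg hζ, if_neg (fun h : ζ ∈ b ∧ ξ ∈ b => hζ h.1)]
      simpa using memLocalIdeal_zero hM

theorem bK_congr (hM : IsPModular p M) {b : Set (IrrCharacter G)} (hb : IsPBlock M b) :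
    ∃ ρ σ : (IrrCharacter G → ℤ) → ℂ, (∀ f, MemLocalRing M (ρ f)) ∧ (∀ f, MemLocalRing M (σ f)) ∧
      ∀ f g, MemLocalIdeal M (((bK (KS p b) f g : ℤ) : ℂ) - ρ f * σ g) := by
  obtain ⟨ρ, σ, hρ, hσ, h⟩ := KS_congr hM hb
  refine ⟨fun f => ∑ ζ, (f ζ : ℂ) * ρ ζ, fun g => ∑ ξ, (g ξ : ℂ) * σ ξ, ?_, ?_, ?_⟩
  · intro f
    exact memLocalRing_sum hM _ _ (fun ζ _ => memLocalRing_mul hM (memLocalRing_intCast hM _) (hρ ζ))
  · intro f
    exact memLocalRing_sum hM _ _ (fun ζ _ => memLocalRing_mul hM (memLocalRing_intCast hM _) (hσ ζ))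
  · intro f g
    have e : ((bK (KS p b) f g : ℤ) : ℂ) - (∑ ζ, (f ζ : ℂ) * ρ ζ) * (∑ ξ, (g ξ : ℂ) * σ ξ)
        = ∑ ζ, ∑ ξ, ((f ζ : ℂ) * (g ξ : ℂ)) * ((KS p b ζ ξ : ℂ) - ρ ζ * σ ξ) := by
      rw [bK_apply, Finset.sum_mul_sum]
      push_cast
      rw [← Finset.sum_sub_distrib]
      apply Finset.sum_congr rfl; intro ζ _
      rw [← Finset.sum_sub_distrib]
      apply Finset.sum_congr rfl; intro ξ _
      ring
    rw [e]
    apply memLocalIdeal_sum hM; intro ζ _
    apply memLocalIdeal_sum hM; intro ξ _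
    exact memLocalIdeal_mul_left hM
      (memLocalRing_mul hM (memLocalRing_intCast hM _) (memLocalRing_intCast hM _)) (h ζ ξ)

theorem dvd_qK_sub (hM : IsPModular p M) {b : Set (IrrCharacter G)} (hb : IsPBlock M b)
    (w f : IrrCharacter G → ℤ) (hw : qK (KS p b) w = 1) :
    (p : ℤ) ∣ qK (KS p b) f - bK (KS p b) f w ^ 2 := by
  obtain ⟨ρ, σ, hρ, hσ, h⟩ := bK_congr hM hb
  rw [← memLocalIdeal_intCast_iff hM]
  have h1 := h f f
  have h2 := h f w
  have h3 := h w f
  have h4 := h w w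
  rw [bK_self] at h1
  rw [bK_self, hw] at h4
  rw [bK_KS_symm hM.1 b w f] at h3
  set t : ℂ := ((bK (KS p b) f w : ℤ) : ℂ) with ht
  have ht' : MemLocalRing M t := memLocalRing_intCast hM _
  have e : ((qK (KS p b) f - bK (KS p b) f w ^ 2 : ℤ) : ℂ)
      = (((qK (KS p b) f : ℤ) : ℂ) - ρ f * σ f) - (t - ρ f * σ w) * t
        - (ρ f * σ w) * (t - ρ w * σ f) + (ρ f * σ f) * (((1 : ℤ) : ℂ) - ρ w * σ w) := by
    push_cast; ring
  rw [e]
  refine memLocalIdeal_add hM (memLocalIdeal_sub hM (memLocalIdeal_sub hM h1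
    (memLocalIdeal_mul_right hM h2 ht'))
    (memLocalIdeal_mul_left hM (memLocalRing_mul hM (hρ f) (hσ w)) h3))
    (memLocalIdeal_mul_left hM (memLocalRing_mul hM (hρ f) (hσ f)) h4)

/-- the linear form `⟨·, w⟩` -/
noncomputable def kv (p : ℕ) (b : Set (IrrCharacter G)) (w : IrrCharacter G → ℤ)
    (ζ : IrrCharacter G) : ℤ := ∑ ξ, KS p b ζ ξ * w ξ

theorem bK_eq_sum_kv (b : Set (IrrCharacter G)) (f w : IrrCharacter G → ℤ) :
    bK (KS p b) f w = ∑ ζ, kv p b w ζ * f ζ := by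
  rw [bK_apply]
  apply Finset.sum_congr rfl; intro ζ _
  rw [kv, Finset.sum_mul]
  apply Finset.sum_congr rfl; intro ξ _
  ring

theorem qK_rank_one (k f : IrrCharacter G → ℤ) :
    qK (fun ζ ξ => k ζ * k ξ) f = (∑ ζ, k ζ * f ζ) ^ 2 := by
  rw [qK, sq, Finset.sum_mul_sum]
  apply Finset.sum_congr rfl; intro ζ _
  apply Finset.sum_congr rfl; intro ξ _
  ring

theorem qK_sub (K K' : IrrCharacter G → IrrCharacter G → ℤ) (f : IrrCharacter G → ℤ) :
    qK (fun ζ ξ => K ζ ξ - K' ζ ξ) f = qK K f - qK K' f := by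
  simp only [qK, sub_mul, Finset.sum_sub_distrib]

theorem qK_perp (hM : IsPModular p M) {b : Set (IrrCharacter G)} (hb : IsPBlock M b)
    (w : IrrCharacter G → ℤ) (hw : qK (KS p b) w = 1) (f : IrrCharacter G → ℤ) :
    qK (fun ζ ξ => KS p b ζ ξ - kv p b w ζ * kv p b w ξ) f = 0 ∨
      (p : ℤ) ≤ qK (fun ζ ξ => KS p b ζ ξ - kv p b w ζ * kv p b w ξ) f := by
  rw [qK_sub, qK_rank_one, ← bK_eq_sum_kv]
  have h1 := dvd_qK_sub hM hb w f hw
  have h2 : 0 ≤ qK (KS p b) f - bK (KS p b) f w ^ 2 := by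
    have h3 := qK_KS_nonneg hM b (f - bK (KS p b) f w • w)
    rw [← bK_self, bil_sub_sub] at h3
    simp only [map_smul, LinearMap.smul_apply, smul_eq_mul, bK_self, hw] at h3
    rw [bK_KS_symm hM.1 b w f] at h3
    nlinarith
  obtain ⟨t, ht⟩ := h1
  rw [ht] at h2 ⊢
  have hp0 : (0 : ℤ) < p := by exact_mod_cast hM.1.pos
  rcases (by
    by_contra hcon
    push Not at hcon
    have : t < 0 := by omega
    nlinarith : t = 0 ∨ 1 ≤ t) with h | h
  · left; rw [h, mul_zero]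
  · right; nlinarith

end Lat

section Sub

variable {G : Type*} [Group G] [Fintype G] {p : ℕ} {M : Ideal AlgInt} {H : Subgroup G} [Fintype H]
  {y : G} {n : ℕ} {b : Set (IrrCharacter H)} {B : Set (IrrCharacter G)}

theorem aC_eq (χ ψ : IrrCharacter G) (ζ ξ : IrrCharacter H) :
    aC H p b χ ψ (ζ, ξ) = KS p b ζ ξ * (cZ H χ ζ : ℤ) * (cZ H ψ ξ : ℤ) := by
  classical
  simp only [aC, KS]
  split_ifs
  · ring
  · ring

/-- the root of unity by which `y` acts -/
noncomputable def lamS (D : SubsecData p M H y n b B) (ζ : IrrCharacter H) : ℂ :=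
  lam (⟨y, D.hyH⟩ : H) (ζ : H → ℂ)

theorem lamS_pow (D : SubsecData p M H y n b B) (ζ : IrrCharacter H) {N : ℕ} (hN : p ^ n ∣ N) :
    lamS D ζ ^ N = 1 := by
  obtain ⟨t, rfl⟩ := hN
  rw [lamS, pow_mul, ← D.orderOf_mk, lam_pow_orderOf ζ.2 D.center, one_pow]

theorem F_expand (D : SubsecData p M H y n b B) [Fintype (IrrCharacter H)] (j : ℕ)
    (χ ψ : IrrCharacter G) :
    (p : ℂ) ^ blockDefect p b * mS p H b (y ^ j) (χ : G → ℂ) (ψ : G → ℂ)
      = ∑ ζ, ∑ ξ, ((KS p b ζ ξ * (cZ H χ ζ : ℤ) * (cZ H ψ ξ : ℤ) : ℤ) : ℂ) *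
          (lamS D ζ * conj (lamS D ξ)) ^ j := by
  rw [pow_mul_mS_eq D j χ ψ, Fintype.sum_prod_type]
  apply Finset.sum_congr rfl; intro ζ _
  apply Finset.sum_congr rfl; intro ξ _
  rw [aC_eq]; rfl

/-- the coefficient of `χ` along `g` -/
noncomputable def XS (p : ℕ) (H : Subgroup G) [Fintype H] (b : Set (IrrCharacter H)) (u : G)
    (g : H → ℂ) (χ : G → ℂ) : ℂ :=
  (p : ℂ) ^ blockDefect p b * classInner (pRegularPart p (Th H b u χ)) g

theorem XS_expand (D : SubsecData p M H y n b B) [Fintype (IrrCharacter H)] (j : ℕ)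
    (χ : IrrCharacter G) (w : IrrCharacter H → ℤ) :
    XS p H b (y ^ j) (phiS b w) (χ : G → ℂ)
      = ∑ ζ, ((kv p b w ζ * (cZ H χ ζ : ℤ) : ℤ) : ℂ) * lamS D ζ ^ j := by
  classical
  have h := Th_pow_eq H b ⟨y, D.hyH⟩ D.center j χ
  have h' : Th H b (y ^ j) (χ : G → ℂ) = ∑ ζ : IrrCharacter H,
      (if ζ ∈ b then lamS D ζ ^ j * (cZ H χ ζ : ℂ) else 0) • (ζ : H → ℂ) := h
  rw [XS, h', pRegularPart_sum, classInner_sum_left, Finset.mul_sum]
  apply Finset.sum_congr rfl; intro ζ _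
  rw [pRegularPart_smul, classInner_smul_left, phiS, classInner_sum_right]
  by_cases hζ : ζ ∈ b
  · rw [if_pos hζ, kv]
    push_cast
    have e : ∀ ξ : IrrCharacter H, classInner (pRegularPart p (ζ : H → ℂ))
        ((if ξ ∈ b then (w ξ : ℂ) else 0) • (ξ : H → ℂ)) * (p : ℂ) ^ blockDefect p b
        = (KS p b ζ ξ : ℂ) * (w ξ : ℂ) := by
      intro ξ
      rw [classInner_smul_right]
      simp only [KS]
      by_cases hξ : ξ ∈ b
      · rw [if_pos hξ, if_pos ⟨hζ, hξ⟩, kC_spec D.hM ζ hξ, mC]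
        simp only [map_intCast]; ring
      · rw [if_neg hξ, if_neg (fun h : ζ ∈ b ∧ ξ ∈ b => hξ h.2)]; simp
    rw [← Finset.sum_congr rfl (fun ξ _ => e ξ), ← Finset.sum_mul]
    ring
  · rw [if_neg hζ]
    have : kv p b w ζ = 0 := by
      rw [kv]; apply Finset.sum_eq_zero; intro ξ _
      simp only [KS]
      rw [if_neg (fun h : ζ ∈ b ∧ ξ ∈ b => hζ h.1), zero_mul]
    rw [this]; simp

theorem XS_mul_conj_expand (D : SubsecData p M H y n b B) [Fintype (IrrCharacter H)] (j : ℕ)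
    (χ : IrrCharacter G) (w : IrrCharacter H → ℤ) :
    XS p H b (y ^ j) (phiS b w) (χ : G → ℂ) * conj (XS p H b (y ^ j) (phiS b w) (χ : G → ℂ))
      = ∑ ζ, ∑ ξ, ((kv p b w ζ * kv p b w ξ * (cZ H χ ζ : ℤ) * (cZ H χ ξ : ℤ) : ℤ) : ℂ) *
          (lamS D ζ * conj (lamS D ξ)) ^ j := by
  rw [XS_expand D j χ w, map_sum, Finset.sum_mul_sum]
  apply Finset.sum_congr rfl; intro ζ _
  apply Finset.sum_congr rfl; intro ξ _
  simp only [map_mul, map_pow, map_intCast, mul_pow]
  push_cast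
  ring

theorem pRegularPart_sub' {X : Type*} [Group X] [Fintype X] (θ η : X → ℂ) :
    pRegularPart p (θ - η) = pRegularPart p θ - pRegularPart p η := by
  classical
  rw [pRegularPart_eq, pRegularPart_eq, pRegularPart_eq]
  funext g
  simp only [Pi.sub_apply]
  split_ifs <;> simp

theorem decomp (u : G) (g : H → ℂ)
    (hg : (p : ℂ) ^ blockDefect p b * classInner (pRegularPart p g) g = 1) (χ ψ : G → ℂ) :
    (p : ℂ) ^ blockDefect p b * classInner
        (pRegularPart p (Th H b u χ - XS p H b u g χ • g)) (Th H b u ψ - XS p H b u g ψ • g)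
      = (p : ℂ) ^ blockDefect p b * mS p H b u χ ψ - XS p H b u g χ * conj (XS p H b u g ψ) := by
  rw [pRegularPart_sub', pRegularPart_smul, classInner_sub_left, classInner_sub_right,
    classInner_sub_right, classInner_smul_left, classInner_smul_left, classInner_smul_right,
    classInner_smul_right, ← pInner_conj (p := p) (Th H b u ψ) g]
  have hP : conj ((p : ℂ) ^ blockDefect p b) = (p : ℂ) ^ blockDefect p b := by
    rw [map_pow, Complex.conj_natCast]
  have e1 : conj (XS p H b u g ψ) = (p : ℂ) ^ blockDefect p b *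
      conj (classInner (pRegularPart p (Th H b u ψ)) g) := by
    rw [XS, map_mul, hP]
  set P := (p : ℂ) ^ blockDefect p b
  set A := classInner (pRegularPart p (Th H b u χ)) g
  set C := conj (classInner (pRegularPart p (Th H b u ψ)) g)
  set N := classInner (pRegularPart p g) g
  have e2 : XS p H b u g χ = P * A := rfl
  rw [e1, e2, mS]
  linear_combination (P * A * P * C) * hg

open Classical in
/-- column version of the idempotent relation -/
theorem sum_col (D : SubsecData p M H y n b B) [Fintype (IrrCharacter G)]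
    [Fintype (IrrCharacter H)] {g : H → ℂ} (hcl : IsClassFunction H g)
    (hz : ∀ ζ : IrrCharacter H, ζ ∉ b → classInner (pRegularPart p g) (ζ : H → ℂ) = 0) :
    ∑ ψ : IrrCharacter G, (if ψ ∈ B then
        classInner (pRegularPart p g) (Th H b y (ψ : G → ℂ)) *
          conj (classInner (pRegularPart p g) (Th H b y (ψ : G → ℂ))) else 0)
      = classInner (pRegularPart p g) g := by
  have hG := sum_gram_row (fun s : H => IsPRegular p s) ((Nat.card H : ℂ)⁻¹) g
    (fun χ : IrrCharacter G => (if χ ∈ B then Th H b y (χ : G → ℂ) else 0))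
  have hH := sum_gram_row (fun s : H => IsPRegular p s) ((Nat.card H : ℂ)⁻¹) g
    (fun ζ : IrrCharacter H => (if ζ ∈ b then (ζ : H → ℂ) else 0))
  have hK : ∑ s : H, ∑ s' : H, (if IsPRegular p s ∧ IsPRegular p s' then
          (g s * conj (g s')) *
          (∑ j : IrrCharacter G, (if j ∈ B then Th H b y (j : G → ℂ) else 0) s' *
            conj ((if j ∈ B then Th H b y (j : G → ℂ) else 0) s)) else 0)
      = ∑ s : H, ∑ s' : H, (if IsPRegular p s ∧ IsPRegular p s' then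
          (g s * conj (g s')) *
          (∑ j : IrrCharacter H, (if j ∈ b then (j : H → ℂ) else 0) s' *
            conj ((if j ∈ b then (j : H → ℂ) else 0) s)) else 0) := by
    apply Finset.sum_congr rfl; intro s _
    apply Finset.sum_congr rfl; intro s' _
    split_ifs with h
    · rw [sum_Th_mul_conj D.hM H y ⟨n, D.hn⟩ D.hyH D.hcomm D.hC D.hind h.2 h.1]
    · rfl
  rw [hK, ← hH] at hG
  have e1 : ∀ ψ : IrrCharacter G, (if ψ ∈ B then
        classInner (pRegularPart p g) (Th H b y (ψ : G → ℂ)) *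
          conj (classInner (pRegularPart p g) (Th H b y (ψ : G → ℂ))) else 0)
      = ((Nat.card H : ℂ)⁻¹ * ∑ s : H, (if IsPRegular p s then g s else 0) *
            conj ((if ψ ∈ B then Th H b y (ψ : G → ℂ) else 0) s)) *
        conj ((Nat.card H : ℂ)⁻¹ * ∑ s : H, (if IsPRegular p s then g s else 0) *
            conj ((if ψ ∈ B then Th H b y (ψ : G → ℂ) else 0) s)) := by
    intro ψ
    by_cases hψ : ψ ∈ B
    · rw [if_pos hψ, if_pos hψ]
      simp only [classInner, pRegularPart_eq]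
    · rw [if_neg hψ, if_neg hψ]; simp
  simp only [e1]
  rw [hG, classInner_pReg_self hcl]
  apply Finset.sum_congr rfl; intro ζ _
  by_cases hζ : ζ ∈ b
  · rw [if_pos hζ]
    simp only [classInner, pRegularPart_eq]
  · rw [if_neg hζ, hz ζ hζ]; simp

open Classical in
theorem sum_XS (D : SubsecData p M H y n b B) [Fintype (IrrCharacter G)]
    [Fintype (IrrCharacter H)] (w : IrrCharacter H → ℤ) :
    ∑ ψ : IrrCharacter G, (if ψ ∈ B then
        XS p H b y (phiS b w) (ψ : G → ℂ) * conj (XS p H b y (phiS b w) (ψ : G → ℂ)) else 0)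
      = (p : ℂ) ^ blockDefect p b * ((qK (KS p b) w : ℤ) : ℂ) := by
  have h := sum_col D (phiS_classFunction b w)
    (fun ζ hζ => phiS_inner_eq_zero D.hM D.hind.1 w hζ)
  rw [← bK_self, bK_KS D.hM b w w, ← h, Finset.mul_sum, Finset.mul_sum]
  apply Finset.sum_congr rfl; intro ψ _
  split_ifs
  · have hP : conj ((p : ℂ) ^ blockDefect p b) = (p : ℂ) ^ blockDefect p b := by
      rw [map_pow, Complex.conj_natCast]
    rw [XS, map_mul, hP, pInner_conj, ← pInner_conj (p := p) (phiS b w) (Th H b y (ψ : G → ℂ))]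
    ring
  · simp

end Sub

section Count

theorem count_lemma {ι : Type*} [Fintype ι] (Bs : ι → Prop) [DecidablePred Bs] (t : ι → ℕ → ℂ)
    {p : ℕ} (hp : p.Prime) (n : ℕ) (c T : ℤ)
    (hT : ∀ j ∈ Jp p n, ∑ χ, (if Bs χ then t χ j else 0) = (T : ℂ))
    (h : ∀ χ, Bs χ → ∃ E : ℤ, c * ((p : ℤ) - 1) ≤ E ∧
      ∑ j ∈ Jp p n, t χ j = ((p ^ n : ℕ) : ℂ) * (E : ℂ)) :
    c * ∑ χ, (if Bs χ then (1 : ℤ) else 0) ≤ T := by
  choose! E hE1 hE2 using h
  have h1 : ∑ χ, (if Bs χ then ∑ j ∈ Jp p n, t χ j else 0) = ((Jp p n).card : ℂ) * (T : ℂ) := by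
    have : ∀ χ, (if Bs χ then ∑ j ∈ Jp p n, t χ j else 0)
        = ∑ j ∈ Jp p n, (if Bs χ then t χ j else 0) := by
      intro χ; split_ifs
      · rfl
      · simp
    simp only [this]
    rw [Finset.sum_comm, Finset.sum_congr rfl hT, Finset.sum_const, nsmul_eq_mul]
  have h2 : ∑ χ, (if Bs χ then ∑ j ∈ Jp p n, t χ j else 0)
      = ((p ^ n : ℕ) : ℂ) * ((∑ χ, (if Bs χ then E χ else 0) : ℤ) : ℂ) := by
    push_cast
    rw [Finset.mul_sum]
    apply Finset.sum_congr rfl; intro χ _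
    split_ifs with hχ
    · rw [hE2 χ hχ]; push_cast; rfl
    · simp
  rw [h1] at h2
  have hc := card_Jp hp n
  have h3 : ((Jp p n).card : ℤ) = (p : ℤ) ^ n * ((p : ℤ) - 1) := by
    have : ((Jp p n).card : ℤ) + (p : ℤ) ^ n = (p : ℤ) ^ (n + 1) := by exact_mod_cast hc
    rw [pow_succ] at this
    linarith
  have h4 : ((Jp p n).card : ℤ) * T = (p : ℤ) ^ n * ∑ χ, (if Bs χ then E χ else 0) := by
    exact_mod_cast h2
  rw [h3, mul_assoc] at h4
  have hpn : (p : ℤ) ^ n ≠ 0 := pow_ne_zero _ (by exact_mod_cast hp.ne_zero)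
  have h5 := mul_left_cancel₀ hpn h4
  have h6 : ∑ χ, (if Bs χ then c * ((p : ℤ) - 1) else 0) ≤ ∑ χ, (if Bs χ then E χ else 0) := by
    apply Finset.sum_le_sum; intro χ _
    split_ifs with hχ
    · exact hE1 χ hχ
    · exact le_refl _
  have h7 : ∑ χ, (if Bs χ then c * ((p : ℤ) - 1) else 0)
      = ((p : ℤ) - 1) * (c * ∑ χ, (if Bs χ then (1 : ℤ) else 0)) := by
    rw [Finset.mul_sum, Finset.mul_sum]
    apply Finset.sum_congr rfl; intro χ _
    split_ifs
    · ring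
    · ring
  rw [h7, ← h5] at h6
  have hp1 : (0 : ℤ) < (p : ℤ) - 1 := by
    have : (1 : ℤ) < p := by exact_mod_cast hp.one_lt
    linarith
  exact le_of_mul_le_mul_left h6 hp1

end Count

section Main

variable {G : Type*} [Group G] [Fintype G] {p : ℕ} {M : Ideal AlgInt} {H : Subgroup G} [Fintype H]
  {y : G} {n : ℕ} {b : Set (IrrCharacter H)} {B : Set (IrrCharacter G)}

theorem memLocalRing_sum_int_root (hM : IsPModular p M) {I : Type*} [Fintype I] (a : I → ℤ)
    (ν : I → ℂ) {k : ℕ} (hν : ∀ i, ν i ^ (p ^ k) = 1) :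
    MemLocalRing M (∑ i, (a i : ℂ) * ν i) :=
  memLocalRing_of_sub hM (sum_int_mul_root_sub hM a ν hν) (memLocalRing_intCast hM _)

theorem offdiag_ne_zero (D : SubsecData p M H y n b B) (hd : blockDefect p b = blockDefect p B)
    {χ ψ : IrrCharacter G} (hχ : χ ∈ B) (hψ : ψ ∈ B) (h0 : blockHeight p B (χ : G → ℂ) = 0) :
    (p : ℂ) ^ blockDefect p b * mS p H b y (χ : G → ℂ) (ψ : G → ℂ) ≠ 0 := by
  obtain ⟨w, _, hw', he⟩ := major_unit D hd hχ hψ h0
  rw [he]
  exact mul_ne_zero (pow_ne_zero _ (by exact_mod_cast D.hM.1.ne_zero))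
    (ne_zero_of_not_memLocalIdeal D.hM hw')

theorem diag_ne_zero (D : SubsecData p M H y n b B) (hd : blockDefect p b = blockDefect p B)
    {χ : IrrCharacter G} (hχ : χ ∈ B) :
    (p : ℂ) ^ blockDefect p b * mS p H b y (χ : G → ℂ) (χ : G → ℂ) ≠ 0 := by
  classical
  have : Finite (IrrCharacter G) := finite_irrCharacter
  have : Fintype (IrrCharacter G) := Fintype.ofFinite _
  have : Finite (IrrCharacter H) := finite_irrCharacter
  have : Fintype (IrrCharacter H) := Fintype.ofFinite _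
  obtain ⟨χ₀, hχ₀, h0⟩ := exists_height_zero (p := p) (⟨χ, hχ⟩ : B.Nonempty)
  have h1 := offdiag_ne_zero D hd hχ₀ hχ h0
  have h2 : mS p H b y (χ₀ : G → ℂ) (χ : G → ℂ) ≠ 0 := right_ne_zero_of_mul h1
  have h3 : mS p H b y (χ : G → ℂ) (χ₀ : G → ℂ) ≠ 0 := by
    rw [← mS_conj]; exact (map_ne_zero _).2 h2
  apply mul_ne_zero (pow_ne_zero _ (by exact_mod_cast D.hM.1.ne_zero))
  rw [← rowR_eq D]
  have h4 : 0 < rowR p H b B y (χ : G → ℂ) := by
    rw [rowR]
    apply Finset.sum_pos' (fun ψ _ => by split_ifs <;> positivity)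
    refine ⟨χ₀, Finset.mem_univ _, ?_⟩
    rw [if_pos hχ₀]
    have := norm_pos_iff.2 h3
    positivity
  exact_mod_cast h4.ne'

theorem diag_real (D : SubsecData p M H y n b B) [Fintype (IrrCharacter G)] (χ : G → ℂ) :
    (p : ℂ) ^ blockDefect p b * mS p H b y χ χ
      = (((p : ℝ) ^ blockDefect p b * rowR p H b B y χ : ℝ) : ℂ) := by
  have : Finite (IrrCharacter H) := finite_irrCharacter
  have : Fintype (IrrCharacter H) := Fintype.ofFinite _
  rw [← rowR_eq D]; push_cast; rfl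

end Main

end Cfsg.Agent.Lib.Helper81
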