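import Cfsg.Agent.Lib.Helper81.SubsecVal

set_option autoImplicit false
set_option linter.unusedSectionVars false
open Cfsg
open scoped ComplexConjugate
open Cfsg.Agent.Lib.Helper20

namespace Cfsg.Agent.Lib.Helper81

section Maj

variable {G : Type*} [Group G] [Fintype G] {M : Ideal AlgInt} {H : Subgroup G} [Fintype H]
  {y : G} {n : ℕ} {b : Set (IrrCharacter H)} {B : Set (IrrCharacter G)}

/-- `∑_j |2 ^ d m^{(y^j,b)}_{χψ}|²` over the odd `j` -/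
noncomputable def Fsq (H : Subgroup G) [Fintype H] (y : G) (n : ℕ) (b : Set (IrrCharacter H))
    (χ ψ : G → ℂ) : ℝ :=
  ∑ j ∈ oddJ n, ((2 : ℝ) ^ blockDefect 2 b) ^ 2 * ‖mS 2 H b (y ^ j) χ ψ‖ ^ 2

theorem Fsq_nonneg (χ ψ : G → ℂ) : 0 ≤ Fsq H y n b χ ψ := by
  rw [Fsq]; apply Finset.sum_nonneg; intro j _; positivity

theorem mS_conj (p : ℕ) (u : G) (χ ψ : G → ℂ) : conj (mS p H b u χ ψ) = mS p H b u ψ χ := by
  classical
  simp only [mS, classInner, pRegularPart_eq, map_mul, map_sum, map_inv₀, Complex.conj_natCast]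
  congr 1
  apply Finset.sum_congr rfl; intro s _
  split_ifs
  · rw [Complex.conj_conj, mul_comm]
  · simp

theorem Fsq_symm (χ ψ : G → ℂ) : Fsq H y n b χ ψ = Fsq H y n b ψ χ := by
  rw [Fsq, Fsq]
  apply Finset.sum_congr rfl; intro j _
  rw [← mS_conj 2 (y ^ j) χ ψ, Complex.norm_conj]

theorem card_oddJ (n : ℕ) : (oddJ n).card = 2 ^ n := by
  have : (oddJ n).card = Nat.totient (2 ^ (n + 1)) := by
    rw [Nat.totient_eq_card_coprime, oddJ]
    congr 1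
    apply Finset.filter_congr; intro j _
    exact Nat.coprime_comm
  rw [this, Nat.totient_prime_pow_succ Nat.prime_two]; simp

open Classical in
theorem sum_Fsq (D : SubsecData 2 M H y n b B) [Fintype (IrrCharacter G)]
    [Fintype (IrrCharacter H)] (χ : IrrCharacter G) :
    ∑ ψ : IrrCharacter G, (if ψ ∈ B then Fsq H y n b (χ : G → ℂ) (ψ : G → ℂ) else 0)
      = (2 : ℝ) ^ blockDefect 2 b * (((2 ^ n : ℕ) : ℝ) * (AS D χ : ℝ)) := by
  rw [← AS_real D χ]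
  simp only [rowR, Fsq, Finset.mul_sum]
  symm
  rw [Finset.sum_comm]
  apply Finset.sum_congr rfl; intro ψ _
  split_ifs
  · apply Finset.sum_congr rfl; intro j _; ring
  · simp

theorem Fsq_self_ge (D : SubsecData 2 M H y n b B) [Fintype (IrrCharacter H)]
    (χ : IrrCharacter G) :
    ((2 ^ n : ℕ) : ℝ) * (AS D χ : ℝ) ^ 2 ≤ Fsq H y n b (χ : G → ℂ) (χ : G → ℂ) := by
  have : Finite (IrrCharacter G) := finite_irrCharacter
  have : Fintype (IrrCharacter G) := Fintype.ofFinite _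
  have h1 := AS_real D χ
  have h2 : Fsq H y n b (χ : G → ℂ) (χ : G → ℂ)
      = ∑ j ∈ oddJ n, ((2 : ℝ) ^ blockDefect 2 b * rowR 2 H b B (y ^ j) (χ : G → ℂ)) ^ 2 := by
    rw [Fsq]
    apply Finset.sum_congr rfl; intro j hj
    rw [← rowR_eq (D.pow (coprime_of_mem_oddJ hj)), Complex.norm_real, mul_pow, Real.norm_eq_abs,
      sq_abs]
  have h3 := sq_sum_le_card_mul_sum_sq (s := oddJ n)
    (f := fun j => (2 : ℝ) ^ blockDefect 2 b * rowR 2 H b B (y ^ j) (χ : G → ℂ))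
  rw [h1, ← h2, card_oddJ] at h3
  have hm0 : (0 : ℝ) < ((2 ^ n : ℕ) : ℝ) := by positivity
  have h4 : ((2 ^ n : ℕ) : ℝ) * (((2 ^ n : ℕ) : ℝ) * (AS D χ : ℝ) ^ 2)
      ≤ ((2 ^ n : ℕ) : ℝ) * Fsq H y n b (χ : G → ℂ) (χ : G → ℂ) := by
    calc _ = (((2 ^ n : ℕ) : ℝ) * (AS D χ : ℝ)) ^ 2 := by ring
      _ ≤ _ := h3
  exact le_of_mul_le_mul_left h4 hm0

theorem Fsq_ge (D : SubsecData 2 M H y n b B) (hd : blockDefect 2 b = blockDefect 2 B)
    {χ ψ : IrrCharacter G} (hχ : χ ∈ B) (hψ : ψ ∈ B) (h0 : blockHeight 2 B (χ : G → ℂ) = 0) :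
    ((2 ^ n : ℕ) : ℝ) * 4 ^ blockHeight 2 B (ψ : G → ℂ) ≤ Fsq H y n b (χ : G → ℂ) (ψ : G → ℂ) := by
  have : Finite (IrrCharacter H) := finite_irrCharacter
  have : Fintype (IrrCharacter H) := Fintype.ofFinite _
  obtain ⟨w, hw, hw', he⟩ := major_unit D hd hχ hψ h0
  have h1 := pow_mul_mS_eq D 1 χ ψ
  simp only [pow_one] at h1
  rw [he] at h1
  push_cast at h1
  have h2 := parseval_bound_div D.hM (aC H 2 b χ ψ) (muS D)
    (fun i => muS_pow D i (pow_dvd_pow 2 (Nat.le_succ n))) _ hw hw' h1.symm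
  refine h2.trans (le_of_eq ?_)
  rw [Fsq]
  apply Finset.sum_congr rfl; intro j _
  rw [← pow_mul_mS_eq D j χ ψ, norm_mul, mul_pow, norm_pow, Complex.norm_natCast]
  push_cast; ring

theorem AS_dvd (D : SubsecData 2 M H y n b B) (hd : blockDefect 2 b = blockDefect 2 B)
    [Fintype (IrrCharacter H)] {ψ : IrrCharacter G} (hψ : ψ ∈ B)
    (hpos : blockHeight 2 B (ψ : G → ℂ) ≠ 0) :
    (2 : ℤ) ^ (blockHeight 2 B (ψ : G → ℂ) + 1) ∣ AS D ψ := by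
  have : Finite (IrrCharacter G) := finite_irrCharacter
  have : Fintype (IrrCharacter G) := Fintype.ofFinite _
  obtain ⟨w, hw, he⟩ := major_diag D hd hψ hpos
  have h1 := pow_mul_mS_eq D 1 ψ ψ
  simp only [pow_one] at h1
  rw [he] at h1
  push_cast at h1
  obtain ⟨A', hA1, hA2⟩ := real_avg_div D.hM (aC H 2 b ψ ψ) (muS D)
    (fun i => muS_pow D i (pow_dvd_pow 2 (Nat.le_succ n)))
    (by
      intro j hj
      have h1 := pow_mul_mS_eq D j ψ ψ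
      rw [← h1, ← rowR_eq (D.pow (coprime_of_mem_oddJ hj)), map_mul, map_pow,
        Complex.conj_natCast, Complex.conj_ofReal])
    _ (memLocalRing_of_memLocalIdeal hw) h1.symm
  have h2 := AS_spec D ψ
  have h3 : ((2 ^ n : ℕ) : ℂ) * (AS D ψ : ℂ)
      = ((2 ^ n : ℕ) : ℂ) * ((2 ^ blockHeight 2 B (ψ : G → ℂ) * A' : ℤ) : ℂ) := by
    rw [← h2]
    push_cast
    push_cast at hA1
    rw [← hA1]
    apply Finset.sum_congr rfl; intro j _
    have := pow_mul_mS_eq D j ψ ψ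
    push_cast at this
    exact this
  have hm0 : ((2 ^ n : ℕ) : ℂ) ≠ 0 := by exact_mod_cast pow_ne_zero _ (by norm_num)
  have h4 : AS D ψ = 2 ^ blockHeight 2 B (ψ : G → ℂ) * A' := by
    exact_mod_cast mul_left_cancel₀ hm0 h3
  rw [h4, pow_succ]
  exact mul_dvd_mul_left _ (hA2.1 hw)

open Classical in
/-- row inequality -/
theorem sum_four_pow_le (D : SubsecData 2 M H y n b B) (hd : blockDefect 2 b = blockDefect 2 B)
    [Fintype (IrrCharacter G)] [Fintype (IrrCharacter H)] {χ : IrrCharacter G} (hχ : χ ∈ B)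
    (h0 : blockHeight 2 B (χ : G → ℂ) = 0) :
    ∑ ψ : IrrCharacter G, (if ψ ∈ B then (4 : ℤ) ^ blockHeight 2 B (ψ : G → ℂ) else 0)
      ≤ 2 ^ blockDefect 2 b * AS D χ := by
  have hm0 : (0 : ℝ) < ((2 ^ n : ℕ) : ℝ) := by positivity
  have h1 : ((2 ^ n : ℕ) : ℝ) *
      ∑ ψ : IrrCharacter G, (if ψ ∈ B then (4 : ℝ) ^ blockHeight 2 B (ψ : G → ℂ) else 0)
      ≤ ((2 ^ n : ℕ) : ℝ) * ((2 : ℝ) ^ blockDefect 2 b * (AS D χ : ℝ)) := by
    calc _ ≤ ∑ ψ : IrrCharacter G, (if ψ ∈ B then Fsq H y n b (χ : G → ℂ) (ψ : G → ℂ) else 0) := by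
          rw [Finset.mul_sum]
          apply Finset.sum_le_sum; intro ψ _
          split_ifs with hψ
          · exact Fsq_ge D hd hχ hψ h0
          · simp
      _ = _ := by rw [sum_Fsq D χ]; ring
  have h2 := le_of_mul_le_mul_left h1 hm0
  have h3 : ((∑ ψ : IrrCharacter G, (if ψ ∈ B then (4 : ℤ) ^ blockHeight 2 B (ψ : G → ℂ) else 0) : ℤ) : ℝ)
      ≤ ((2 ^ blockDefect 2 b * AS D χ : ℤ) : ℝ) := by
    push_cast
    refine le_trans (le_of_eq ?_) h2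
    apply Finset.sum_congr rfl; intro ψ _
    split_ifs <;> simp
  exact_mod_cast h3

open Classical in
/-- general off-diagonal inequality -/
theorem sum_offdiag_le (D : SubsecData 2 M H y n b B)
    [Fintype (IrrCharacter G)] [Fintype (IrrCharacter H)] {χ : IrrCharacter G} (hχ : χ ∈ B)
    (c : IrrCharacter G → ℤ)
    (hc : ∀ ψ ∈ B, ψ ≠ χ → ((2 ^ n : ℕ) : ℝ) * (c ψ : ℝ) ≤ Fsq H y n b (χ : G → ℂ) (ψ : G → ℂ)) :
    ∑ ψ : IrrCharacter G, (if ψ ∈ B ∧ ψ ≠ χ then c ψ else 0)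
      ≤ AS D χ * (2 ^ blockDefect 2 b - AS D χ) := by
  have hm0 : (0 : ℝ) < ((2 ^ n : ℕ) : ℝ) := by positivity
  have hsum := sum_Fsq D χ
  rw [← Finset.add_sum_erase Finset.univ _ (Finset.mem_univ χ), if_pos hχ] at hsum
  have hself := Fsq_self_ge D χ
  have h1 : ((2 ^ n : ℕ) : ℝ) * ∑ ψ : IrrCharacter G, (if ψ ∈ B ∧ ψ ≠ χ then (c ψ : ℝ) else 0)
      ≤ ∑ ψ ∈ Finset.univ.erase χ, (if ψ ∈ B then Fsq H y n b (χ : G → ℂ) (ψ : G → ℂ) else 0) := by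
    rw [← Finset.add_sum_erase Finset.univ _ (Finset.mem_univ χ),
      if_neg (fun h : χ ∈ B ∧ χ ≠ χ => h.2 rfl), zero_add, Finset.mul_sum]
    apply Finset.sum_le_sum; intro ψ hψ
    have hne : ψ ≠ χ := (Finset.mem_erase.1 hψ).1
    by_cases hB : ψ ∈ B
    · rw [if_pos ⟨hB, hne⟩, if_pos hB]; exact hc ψ hB hne
    · rw [if_neg (fun h : ψ ∈ B ∧ ψ ≠ χ => hB h.1), if_neg hB]; simp
  have h2 : ((2 ^ n : ℕ) : ℝ) * ∑ ψ : IrrCharacter G, (if ψ ∈ B ∧ ψ ≠ χ then (c ψ : ℝ) else 0)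
      ≤ ((2 ^ n : ℕ) : ℝ) * ((AS D χ : ℝ) * ((2 : ℝ) ^ blockDefect 2 b - (AS D χ : ℝ))) := by
    nlinarith
  have h3 := le_of_mul_le_mul_left h2 hm0
  have h4 : ((∑ ψ : IrrCharacter G, (if ψ ∈ B ∧ ψ ≠ χ then c ψ else 0) : ℤ) : ℝ)
      ≤ ((AS D χ * (2 ^ blockDefect 2 b - AS D χ) : ℤ) : ℝ) := by
    push_cast
    refine le_trans (le_of_eq ?_) h3
    apply Finset.sum_congr rfl; intro ψ _
    split_ifs <;> simp
  exact_mod_cast h4

end Maj

end Cfsg.Agent.Lib.Helper81
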