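import Cfsg.Agent.Lib.Helper81.SubsecUnit
import Cfsg.Agent.Lib.Helper81.PrincipalSection
import Cfsg.Agent.Lib.Helper82.Central

set_option autoImplicit false
set_option linter.unusedSectionVars false
open Cfsg
open scoped ComplexConjugate
open Cfsg.Agent.Lib.Helper20

namespace Cfsg.Agent.Lib.Helper81

section Abstract

theorem sum_gram_sq {X ι : Type*} [Fintype X] [Fintype ι] (R : X → Prop) [DecidablePred R] (c : ℂ)
    (f : ι → X → ℂ) :
    ∑ i, ∑ j, (c * ∑ s, (if R s then f i s else 0) * conj (f j s)) *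
        conj (c * ∑ s, (if R s then f i s else 0) * conj (f j s))
      = c * conj c * ∑ s, ∑ s', (if R s ∧ R s' then
          (∑ i, f i s * conj (f i s')) * (∑ j, f j s' * conj (f j s)) else 0) := by
  have h1 : ∀ i j, (c * ∑ s, (if R s then f i s else 0) * conj (f j s)) *
        conj (c * ∑ s, (if R s then f i s else 0) * conj (f j s))
      = c * conj c * ∑ s, ∑ s', (if R s ∧ R s' then
          (f i s * conj (f i s')) * (f j s' * conj (f j s)) else 0) := by
    intro i j
    rw [map_mul, map_sum]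
    have : (c * ∑ s, (if R s then f i s else 0) * conj (f j s)) *
        (conj c * ∑ s, conj ((if R s then f i s else 0) * conj (f j s)))
        = c * conj c * ((∑ s, (if R s then f i s else 0) * conj (f j s)) *
          ∑ s, conj ((if R s then f i s else 0) * conj (f j s))) := by ring
    rw [this, Finset.sum_mul_sum]
    congr 1
    apply Finset.sum_congr rfl; intro s _
    apply Finset.sum_congr rfl; intro s' _
    by_cases hs : R s
    · by_cases hs' : R s'
      · rw [if_pos hs, if_pos hs', if_pos ⟨hs, hs'⟩]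
        simp only [map_mul, Complex.conj_conj]
        ring
      · rw [if_neg hs', if_neg (fun h : R s ∧ R s' => hs' h.2)]; simp
    · rw [if_neg hs, if_neg (fun h : R s ∧ R s' => hs h.1)]; simp
  simp only [h1]
  simp only [← Finset.mul_sum]
  congr 1
  -- swap sums
  have h2 : ∀ i, ∑ j, ∑ s, ∑ s', (if R s ∧ R s' then
          (f i s * conj (f i s')) * (f j s' * conj (f j s)) else 0)
      = ∑ s, ∑ s', (if R s ∧ R s' then
          (f i s * conj (f i s')) * (∑ j, f j s' * conj (f j s)) else 0) := by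
    intro i
    rw [Finset.sum_comm]
    apply Finset.sum_congr rfl; intro s _
    rw [Finset.sum_comm]
    apply Finset.sum_congr rfl; intro s' _
    split_ifs
    · rw [Finset.mul_sum]
    · simp
  simp only [h2]
  rw [Finset.sum_comm]
  apply Finset.sum_congr rfl; intro s _
  rw [Finset.sum_comm]
  apply Finset.sum_congr rfl; intro s' _
  split_ifs
  · rw [Finset.sum_mul]
  · simp

end Abstract

section SN

variable {G : Type*} [Group G] [Fintype G] {p : ℕ} {M : Ideal AlgInt}

theorem sum_blockPart_mul_conj_blockPart (hM : IsPModular p M) (e : Set (IrrCharacter G))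
    (he : IsPBlock M e) {ι κ : Type*} [Fintype ι] [Fintype κ] (θ : ι → G → ℂ) (η : κ → G → ℂ)
    (hkey : ∀ w w', ∑ i, pRegularPart p (θ i) w * conj (pRegularPart p (θ i) w')
      = ∑ k, pRegularPart p (η k) w * conj (pRegularPart p (η k) w'))
    {y y' : G} (hy : IsPRegular p y) (hy' : IsPRegular p y') :
    ∑ i, blockPart e (θ i) y * conj (blockPart e (θ i) y')
      = ∑ k, blockPart e (η k) y * conj (blockPart e (η k) y') := by
  classical
  simp only [blockPart_regular_eq hM e he _ hy, blockPart_regular_eq hM e he _ hy', map_mul,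
    map_sum, Finset.mul_sum, Finset.sum_mul]
  rw [Finset.sum_comm]
  conv_rhs => rw [Finset.sum_comm]
  apply Finset.sum_congr rfl; intro w _
  rw [Finset.sum_comm]
  conv_rhs => rw [Finset.sum_comm]
  apply Finset.sum_congr rfl; intro w' _
  have h1 : ∀ (a b : ℂ), (Nat.card G : ℂ)⁻¹ * (bS e y w' * a) *
      (conj (Nat.card G : ℂ)⁻¹ * (conj (bS e y' w) * conj b))
      = ((Nat.card G : ℂ)⁻¹ * bS e y w' * (conj (Nat.card G : ℂ)⁻¹ * conj (bS e y' w))) *
        (a * conj b) := by
    intro a b; ring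
  simp only [h1]
  rw [← Finset.mul_sum, ← Finset.mul_sum, hkey]

/-- the `b`-part of `c ↦ χ(u c)` -/
noncomputable def Th (H : Subgroup G) (b : Set (IrrCharacter H)) (u : G) (χ : G → ℂ) : H → ℂ :=
  blockPart b (fun c : H => χ (u * (c : G)))

/-- contribution numbers of the subsection `(u, b)` -/
noncomputable def mS (p : ℕ) (H : Subgroup G) [Fintype H] (b : Set (IrrCharacter H)) (u : G)
    (χ ψ : G → ℂ) : ℂ :=
  classInner (pRegularPart p (Th H b u χ)) (Th H b u ψ)

open Classical in
theorem sum_Th_mul_conj (hM : IsPModular p M) (H : Subgroup G) [Fintype H] (u : G)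
    (hu : ∃ k : ℕ, orderOf u = p ^ k) (huH : u ∈ H) (hcomm : ∀ c : H, u * (c : G) = (c : G) * u)
    (hC : Subgroup.centralizer ({u} : Set G) ≤ H)
    {b : Set (IrrCharacter H)} {B : Set (IrrCharacter G)} (hind : IsInducedBlock M H b B)
    [Fintype (IrrCharacter G)] [Fintype (IrrCharacter H)] {s s' : H} (hs : IsPRegular p s)
    (hs' : IsPRegular p s') :
    ∑ χ : IrrCharacter G, (if χ ∈ B then Th H b u (χ : G → ℂ) else 0) s *
        conj ((if χ ∈ B then Th H b u (χ : G → ℂ) else 0) s')
      = ∑ ζ : IrrCharacter H, (if ζ ∈ b then (ζ : H → ℂ) else 0) s *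
        conj ((if ζ ∈ b then (ζ : H → ℂ) else 0) s') := by
  have h1 := sum_blockPart_mul_conj_blockPart hM b hind.1
    (fun χ : IrrCharacter G => fun c : H => (χ : G → ℂ) (u * (c : G)))
    (fun ψ : IrrCharacter H => (ψ : H → ℂ)) (key_identity_conj hM.1 H u hu hcomm hC) hs hs'
  have h2 : ∀ χ : IrrCharacter G, (if χ ∈ B then Th H b u (χ : G → ℂ) else 0) s *
        conj ((if χ ∈ B then Th H b u (χ : G → ℂ) else 0) s')
      = blockPart b (fun c : H => (χ : G → ℂ) (u * (c : G))) s *
        conj (blockPart b (fun c : H => (χ : G → ℂ) (u * (c : G))) s') := by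
    intro χ
    split_ifs with hχ
    · rfl
    · rw [second_main_char' hM H u hu huH hcomm hC hind χ hχ s hs]; simp
  simp only [h2]
  rw [h1]
  apply Finset.sum_congr rfl; intro ζ _
  rw [blockPart_irr]

theorem mC_conj (hp : p.Prime) (χ ψ : IrrCharacter G) :
    conj (mC p (χ : G → ℂ) (ψ : G → ℂ)) = mC p (χ : G → ℂ) (ψ : G → ℂ) := by
  have h1 := nC_spec hp χ ψ
  have hp0 : ((p ^ (Nat.card G).factorization p : ℕ) : ℂ) ≠ 0 := by
    exact_mod_cast pow_ne_zero _ hp.ne_zero
  have h2 : mC p (χ : G → ℂ) (ψ : G → ℂ)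
      = (nC p χ ψ : ℂ) / ((p ^ (Nat.card G).factorization p : ℕ) : ℂ) := by
    rw [h1]; field_simp
  rw [h2]
  simp

open Classical in
/-- `∑_{χ,ψ ∈ B} |m^{(u,b)}_{χψ}|² = l(b)`. -/
theorem sum_mS_sq (hM : IsPModular p M) (H : Subgroup G) [Fintype H] (u : G)
    (hu : ∃ k : ℕ, orderOf u = p ^ k) (huH : u ∈ H) (hcomm : ∀ c : H, u * (c : G) = (c : G) * u)
    (hC : Subgroup.centralizer ({u} : Set G) ≤ H)
    {b : Set (IrrCharacter H)} {B : Set (IrrCharacter G)} (hind : IsInducedBlock M H b B)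
    [Fintype (IrrCharacter G)] [Fintype (IrrCharacter H)] :
    ∑ χ : IrrCharacter G, ∑ ψ : IrrCharacter G, (if χ ∈ B ∧ ψ ∈ B then
        mS p H b u (χ : G → ℂ) (ψ : G → ℂ) * conj (mS p H b u (χ : G → ℂ) (ψ : G → ℂ)) else 0)
      = (blockRank p b : ℂ) := by
  have hG := sum_gram_sq (fun s : H => IsPRegular p s) ((Nat.card H : ℂ)⁻¹)
    (fun χ : IrrCharacter G => (if χ ∈ B then Th H b u (χ : G → ℂ) else 0))
  have hH := sum_gram_sq (fun s : H => IsPRegular p s) ((Nat.card H : ℂ)⁻¹)
    (fun ζ : IrrCharacter H => (if ζ ∈ b then (ζ : H → ℂ) else 0))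
  have hK : ∑ s : H, ∑ s' : H, (if IsPRegular p s ∧ IsPRegular p s' then
          (∑ i : IrrCharacter G, (if i ∈ B then Th H b u (i : G → ℂ) else 0) s *
            conj ((if i ∈ B then Th H b u (i : G → ℂ) else 0) s')) *
          (∑ j : IrrCharacter G, (if j ∈ B then Th H b u (j : G → ℂ) else 0) s' *
            conj ((if j ∈ B then Th H b u (j : G → ℂ) else 0) s)) else 0)
      = ∑ s : H, ∑ s' : H, (if IsPRegular p s ∧ IsPRegular p s' then
          (∑ i : IrrCharacter H, (if i ∈ b then (i : H → ℂ) else 0) s *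
            conj ((if i ∈ b then (i : H → ℂ) else 0) s')) *
          (∑ j : IrrCharacter H, (if j ∈ b then (j : H → ℂ) else 0) s' *
            conj ((if j ∈ b then (j : H → ℂ) else 0) s)) else 0) := by
    apply Finset.sum_congr rfl; intro s _
    apply Finset.sum_congr rfl; intro s' _
    split_ifs with h
    · rw [sum_Th_mul_conj hM H u hu huH hcomm hC hind h.1 h.2,
        sum_Th_mul_conj hM H u hu huH hcomm hC hind h.2 h.1]
    · rfl
  rw [hK, ← hH] at hG
  -- identify both sides
  have e1 : ∀ χ ψ : IrrCharacter G, (if χ ∈ B ∧ ψ ∈ B then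
        mS p H b u (χ : G → ℂ) (ψ : G → ℂ) * conj (mS p H b u (χ : G → ℂ) (ψ : G → ℂ)) else 0)
      = ((Nat.card H : ℂ)⁻¹ * ∑ s : H, (if IsPRegular p s then
          (if χ ∈ B then Th H b u (χ : G → ℂ) else 0) s else 0) *
            conj ((if ψ ∈ B then Th H b u (ψ : G → ℂ) else 0) s)) *
        conj ((Nat.card H : ℂ)⁻¹ * ∑ s : H, (if IsPRegular p s then
          (if χ ∈ B then Th H b u (χ : G → ℂ) else 0) s else 0) *
            conj ((if ψ ∈ B then Th H b u (ψ : G → ℂ) else 0) s)) := by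
    intro χ ψ
    by_cases hχ : χ ∈ B
    · by_cases hψ : ψ ∈ B
      · rw [if_pos ⟨hχ, hψ⟩, if_pos hχ, if_pos hψ]
        simp only [mS, classInner, pRegularPart_eq]
      · rw [if_neg (fun h => hψ h.2), if_neg hψ]; simp
    · rw [if_neg (fun h => hχ h.1), if_neg hχ]; simp
  simp only [e1]
  rw [hG]
  have e2 : ∀ ζ ξ : IrrCharacter H,
      ((Nat.card H : ℂ)⁻¹ * ∑ s : H, (if IsPRegular p s then
          (if ζ ∈ b then (ζ : H → ℂ) else 0) s else 0) *
            conj ((if ξ ∈ b then (ξ : H → ℂ) else 0) s)) *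
        conj ((Nat.card H : ℂ)⁻¹ * ∑ s : H, (if IsPRegular p s then
          (if ζ ∈ b then (ζ : H → ℂ) else 0) s else 0) *
            conj ((if ξ ∈ b then (ξ : H → ℂ) else 0) s))
      = if ζ ∈ b then mC p (ζ : H → ℂ) (ξ : H → ℂ) * mC p (ζ : H → ℂ) (ξ : H → ℂ) else 0 := by
    intro ζ ξ
    by_cases hζ : ζ ∈ b
    · by_cases hξ : ξ ∈ b
      · rw [if_pos hζ, if_pos hξ, if_pos hζ]
        have : (Nat.card H : ℂ)⁻¹ * ∑ s : H, (if IsPRegular p s then (ζ : H → ℂ) s else 0) *
            conj ((ξ : H → ℂ) s) = mC p (ζ : H → ℂ) (ξ : H → ℂ) := by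
          simp only [mC, classInner, pRegularPart_eq]
        rw [this, mC_conj hM.1]
      · rw [if_neg hξ, if_pos hζ]
        have : ¬ SameBlock M (ζ : H → ℂ) (ξ : H → ℂ) := by
          intro hs
          apply hξ
          rw [isPBlock_eq_blockOf hM hind.1 hζ]
          exact hs
        rw [mC_eq_zero hM this]; simp
    · rw [if_neg hζ, if_neg hζ]; simp
  simp only [e2]
  rw [blockRank_eq_sum_mC hM b hind.1]
  apply Finset.sum_congr rfl; intro ζ _
  split_ifs with hζ
  · exact sum_mC_sq hM.1 ζ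
  · simp

end SN

end Cfsg.Agent.Lib.Helper81
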