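import Cfsg.Agent.Lib.Helper81.SubsecLattice

set_option autoImplicit false
set_option linter.unusedSectionVars false
open Cfsg
open scoped ComplexConjugate
open Cfsg.Agent.Lib.Helper20

namespace Cfsg.Agent.Lib.Helper81

section RT

variable {G : Type*} [Group G] [Fintype G] {p : ℕ} {M : Ideal AlgInt} {H : Subgroup G} [Fintype H]
  {y : G} {n : ℕ} {b : Set (IrrCharacter H)} {B : Set (IrrCharacter G)}

/-- the part of the contribution orthogonal to `g` -/
noncomputable def T2 (p : ℕ) (H : Subgroup G) [Fintype H] (b : Set (IrrCharacter H)) (u : G)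
    (g : H → ℂ) (χ ψ : G → ℂ) : ℂ :=
  (p : ℂ) ^ blockDefect p b * classInner
    (pRegularPart p (Th H b u χ - XS p H b u g χ • g)) (Th H b u ψ - XS p H b u g ψ • g)

theorem T2_real (u : G) (g : H → ℂ) (χ : G → ℂ) :
    ∃ r : ℝ, 0 ≤ r ∧ T2 p H b u g χ χ = (r : ℂ) := by
  refine ⟨(p : ℝ) ^ blockDefect p b * ((Nat.card H : ℝ)⁻¹ *
    ∑ s, ‖pRegularPart p (Th H b u χ - XS p H b u g χ • g) s‖ ^ 2), by positivity, ?_⟩
  rw [T2, pInner_self_real]
  push_cast
  rfl

theorem T2_eq_zero_left (hp : p ≠ 0) {u : G} {g : H → ℂ} {χ : G → ℂ}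
    (h : T2 p H b u g χ χ = 0) (ψ : G → ℂ) : T2 p H b u g χ ψ = 0 := by
  rw [T2] at h
  have h1 := (mul_eq_zero.1 h).resolve_left (pow_ne_zero _ (by exact_mod_cast hp))
  rw [T2, pInner_self_eq_zero h1, classInner_zero_left, mul_zero]

theorem T2_eq_zero_right (hp : p ≠ 0) {u : G} {g : H → ℂ} {χ : G → ℂ}
    (h : T2 p H b u g χ χ = 0) (ψ : G → ℂ) : T2 p H b u g ψ χ = 0 := by
  have h1 := T2_eq_zero_left hp h ψ
  rw [T2] at h1 ⊢
  have h2 := (mul_eq_zero.1 h1).resolve_left (pow_ne_zero _ (by exact_mod_cast hp))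
  rw [← pInner_conj, h2, map_zero, mul_zero]

theorem T2_expand (D : SubsecData p M H y n b B) [Fintype (IrrCharacter H)] (j : ℕ)
    (χ : IrrCharacter G) (w : IrrCharacter H → ℤ) (hw : qK (KS p b) w = 1) :
    T2 p H b (y ^ j) (phiS b w) (χ : G → ℂ) (χ : G → ℂ)
      = ∑ ζ, ∑ ξ, (((KS p b ζ ξ - kv p b w ζ * kv p b w ξ) * (cZ H χ ζ : ℤ) * (cZ H χ ξ : ℤ) : ℤ) : ℂ)
          * (lamS D ζ * conj (lamS D ξ)) ^ j := by
  have hg : (p : ℂ) ^ blockDefect p b *
      classInner (pRegularPart p (phiS b w)) (phiS b w) = 1 := by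
    rw [← bK_KS D.hM b w w, bK_self, hw]; simp
  rw [T2, decomp (y ^ j) (phiS b w) hg, F_expand D j χ χ, XS_mul_conj_expand D j χ w,
    ← Finset.sum_sub_distrib]
  apply Finset.sum_congr rfl; intro ζ _
  rw [← Finset.sum_sub_distrib]
  apply Finset.sum_congr rfl; intro ξ _
  push_cast
  ring

theorem T2_memLocalIdeal (D : SubsecData p M H y n b B) [Fintype (IrrCharacter H)] (j : ℕ)
    (χ : IrrCharacter G) (w : IrrCharacter H → ℤ) (hw : qK (KS p b) w = 1) :
    MemLocalIdeal M (T2 p H b (y ^ j) (phiS b w) (χ : G → ℂ) (χ : G → ℂ)) := by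
  have hM := D.hM
  rw [T2_expand D j χ w hw, ← Fintype.sum_prod_type'
    (f := fun ζ ξ => (((KS p b ζ ξ - kv p b w ζ * kv p b w ξ) * (cZ H χ ζ : ℤ) * (cZ H χ ξ : ℤ) : ℤ) : ℂ)
          * (lamS D ζ * conj (lamS D ξ)) ^ j)]
  have h1 := sum_int_mul_root_sub hM (k := n)
    (fun i : IrrCharacter H × IrrCharacter H =>
      (KS p b i.1 i.2 - kv p b w i.1 * kv p b w i.2) * (cZ H χ i.1 : ℤ) * (cZ H χ i.2 : ℤ))
    (fun i => (lamS D i.1 * conj (lamS D i.2)) ^ j)
    (by
      intro i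
      rw [← pow_mul, mul_comm j, pow_mul, mul_pow, ← map_pow, lamS_pow D _ dvd_rfl,
        lamS_pow D _ dvd_rfl]
      simp)
  have h2 : (p : ℤ) ∣ ∑ i : IrrCharacter H × IrrCharacter H,
      (KS p b i.1 i.2 - kv p b w i.1 * kv p b w i.2) * (cZ H χ i.1 : ℤ) * (cZ H χ i.2 : ℤ) := by
    have h3 := dvd_qK_sub hM D.hind.1 w (fun ζ => (cZ H χ ζ : ℤ)) hw
    rw [bK_eq_sum_kv, ← qK_rank_one, ← qK_sub] at h3
    rw [Fintype.sum_prod_type]
    exact h3
  rw [← memLocalIdeal_intCast_iff hM] at h2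
  have := memLocalIdeal_add hM h1 h2
  rwa [sub_add_cancel] at this

theorem XS_memLocalRing (D : SubsecData p M H y n b B) [Fintype (IrrCharacter H)] (j : ℕ)
    (χ : IrrCharacter G) (w : IrrCharacter H → ℤ) :
    MemLocalRing M (XS p H b (y ^ j) (phiS b w) (χ : G → ℂ)) := by
  rw [XS_expand D j χ w]
  exact memLocalRing_sum_int_root D.hM (k := n) _ _ (by
    intro ζ
    rw [← pow_mul, mul_comm j, pow_mul, lamS_pow D _ dvd_rfl, one_pow])

theorem conj_XS_eq (D : SubsecData p M H y n b B) [Fintype (IrrCharacter H)] (j : ℕ)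
    (χ : IrrCharacter G) (w : IrrCharacter H → ℤ) :
    conj (XS p H b (y ^ j) (phiS b w) (χ : G → ℂ))
      = ∑ ζ, ((kv p b w ζ * (cZ H χ ζ : ℤ) : ℤ) : ℂ) * conj (lamS D ζ ^ j) := by
  rw [XS_expand D j χ w, map_sum]
  apply Finset.sum_congr rfl; intro ζ _
  rw [map_mul, map_intCast]

theorem conj_lamS_pow (D : SubsecData p M H y n b B) (j : ℕ) (ζ : IrrCharacter H) :
    conj (lamS D ζ ^ j) ^ (p ^ n) = 1 := by
  rw [← map_pow, ← pow_mul, mul_comm j, pow_mul, lamS_pow D _ dvd_rfl, one_pow, map_one]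

theorem conj_XS_memLocalRing (D : SubsecData p M H y n b B) [Fintype (IrrCharacter H)] (j : ℕ)
    (χ : IrrCharacter G) (w : IrrCharacter H → ℤ) :
    MemLocalRing M (conj (XS p H b (y ^ j) (phiS b w) (χ : G → ℂ))) := by
  rw [conj_XS_eq D j χ w]
  exact memLocalRing_sum_int_root D.hM (k := n) _ _ (conj_lamS_pow D j)

open Classical in
/-- a major subsection `(y, b)` with `l(b) ≤ 2` forces `k(B) ≤ p ^ d` -/
theorem major_rank_two (D : SubsecData p M H y n b B) (hd : blockDefect p b = blockDefect p B)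
    [Fintype (IrrCharacter G)] [Fintype (IrrCharacter H)] (hl : blockRank p b ≤ 2) :
    ∑ χ : IrrCharacter G, (if χ ∈ B then (1 : ℤ) else 0) ≤ (p : ℤ) ^ blockDefect p b := by
  have hM := D.hM
  have hp := hM.1
  have hp0 : (0 : ℤ) < p := by exact_mod_cast hp.pos
  have hp2 : (2 : ℤ) ≤ p := by exact_mod_cast hp.two_le
  have hμ : ∀ ζ, lamS D ζ ^ (p ^ (n + 1)) = 1 :=
    fun ζ => lamS_pow D ζ (pow_dvd_pow p (Nat.le_succ n))
  have hDj : ∀ j ∈ Jp p n, SubsecData p M H (y ^ j) n b B :=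
    fun j hj => D.pow (coprime_of_mem_Jp hj)
  have h1J := one_mem_Jp hp n
  have D1 := hDj 1 h1J
  -- the diagonal count
  have hdiag : (∀ χ : IrrCharacter G, χ ∈ B → ∃ E : ℤ, 2 * ((p : ℤ) - 1) ≤ E ∧
      ∑ j ∈ Jp p n, (p : ℂ) ^ blockDefect p b * mS p H b (y ^ j) (χ : G → ℂ) (χ : G → ℂ)
        = ((p ^ n : ℕ) : ℂ) * (E : ℂ)) →
      ∑ χ : IrrCharacter G, (if χ ∈ B then (1 : ℤ) else 0) ≤ (p : ℤ) ^ blockDefect p b := by
    intro h
    have h2 := count_lemma (fun χ : IrrCharacter G => χ ∈ B)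
      (fun χ j => (p : ℂ) ^ blockDefect p b * mS p H b (y ^ j) (χ : G → ℂ) (χ : G → ℂ)) hp n 2
      ((p : ℤ) ^ blockDefect p b * (blockRank p b : ℤ))
      (by
        intro j hj
        have Dj := hDj j hj
        have h3 := sum_mS_diag Dj.hM H (y ^ j) ⟨n, Dj.hn⟩ Dj.hyH Dj.hcomm Dj.hC Dj.hind
        push_cast
        rw [← h3, Finset.mul_sum]
        apply Finset.sum_congr rfl; intro χ _
        split_ifs <;> simp)
      h
    have h4 : (blockRank p b : ℤ) ≤ 2 := by exact_mod_cast hl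
    have h5 : (0 : ℤ) < (p : ℤ) ^ blockDefect p b := by positivity
    nlinarith
  by_cases hone : ∃ w : IrrCharacter H → ℤ, qK (KS p b) w = 1
  swap
  · push Not at hone
    apply hdiag
    intro χ hχ
    have hq : ∀ f, qK (KS p b) f = 0 ∨ 2 ≤ qK (KS p b) f := by
      intro f
      have h1 := qK_KS_nonneg hM b f
      have h2 := hone f
      omega
    obtain ⟨E, hE, hsum⟩ := vec_parseval hp (KS p b) (fun ζ => (cZ H χ ζ : ℤ)) (lamS D) hμ 2
      (by norm_num) hq
    have hF : ∑ j ∈ Jp p n, (p : ℂ) ^ blockDefect p b * mS p H b (y ^ j) (χ : G → ℂ) (χ : G → ℂ)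
        = ((p ^ n : ℕ) : ℂ) * (E : ℂ) := by
      rw [← hsum]; apply Finset.sum_congr rfl; intro j _; exact F_expand D j χ χ
    refine ⟨E, ?_, hF⟩
    rcases hE with hE | hE
    · exfalso
      rw [hE, Int.cast_zero, mul_zero] at hF
      have := eq_zero_of_sum_ofReal
        (fun j => (p : ℝ) ^ blockDefect p b * rowR p H b B (y ^ j) (χ : G → ℂ))
        (fun j _ => mul_nonneg (by positivity) (rowR_nonneg _ _))
        (fun j hj => diag_real (hDj j hj) _) hF 1 h1J
      exact diag_ne_zero D1 hd hχ this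
    · linarith
  · obtain ⟨w, hw⟩ := hone
    set g := phiS b w with hgdef
    have hg1 : (p : ℂ) ^ blockDefect p b * classInner (pRegularPart p g) g = 1 := by
      rw [← bK_KS hM b w w, bK_self, hw]; simp
    have hdec : ∀ (j : ℕ) (χ ψ : IrrCharacter G),
        (p : ℂ) ^ blockDefect p b * mS p H b (y ^ j) (χ : G → ℂ) (ψ : G → ℂ)
          = XS p H b (y ^ j) g (χ : G → ℂ) * conj (XS p H b (y ^ j) g (ψ : G → ℂ))
            + T2 p H b (y ^ j) g (χ : G → ℂ) (ψ : G → ℂ) := by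
      intro j χ ψ; rw [T2, decomp (y ^ j) g hg1]; ring
    have hV1 : ∀ χ : IrrCharacter G, ∃ E : ℤ, (E = 0 ∨ (p : ℤ) - 1 ≤ E) ∧
        ∑ j ∈ Jp p n, XS p H b (y ^ j) g (χ : G → ℂ) * conj (XS p H b (y ^ j) g (χ : G → ℂ))
          = ((p ^ n : ℕ) : ℂ) * (E : ℂ) := by
      intro χ
      obtain ⟨E, hE, hsum⟩ := vec_parseval hp (fun ζ ξ => kv p b w ζ * kv p b w ξ)
        (fun ζ => (cZ H χ ζ : ℤ)) (lamS D) hμ 1 (by norm_num) (by
          intro f
          rw [qK_rank_one]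
          rcases eq_or_ne (∑ ζ, kv p b w ζ * f ζ) 0 with h | h
          · left; rw [h]; ring
          · right
            have h1 := Int.one_le_abs h
            have h2 := sq_abs (∑ ζ, kv p b w ζ * f ζ)
            nlinarith)
      refine ⟨E, by simpa using hE, ?_⟩
      rw [← hsum]; apply Finset.sum_congr rfl; intro j _; exact XS_mul_conj_expand D j χ w
    have hV2 : ∀ χ : IrrCharacter G, ∃ E : ℤ, (E = 0 ∨ ((p : ℤ) - 1) * p ≤ E) ∧
        ∑ j ∈ Jp p n, T2 p H b (y ^ j) g (χ : G → ℂ) (χ : G → ℂ)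
          = ((p ^ n : ℕ) : ℂ) * (E : ℂ) := by
      intro χ
      obtain ⟨E, hE, hsum⟩ := vec_parseval hp (fun ζ ξ => KS p b ζ ξ - kv p b w ζ * kv p b w ξ)
        (fun ζ => (cZ H χ ζ : ℤ)) (lamS D) hμ p hp0.le (qK_perp hM D.hind.1 w hw)
      refine ⟨E, hE, ?_⟩
      rw [← hsum]; apply Finset.sum_congr rfl; intro j _; exact T2_expand D j χ w hw
    have hX0 : ∀ (χ : IrrCharacter G),
        ∑ j ∈ Jp p n, XS p H b (y ^ j) g (χ : G → ℂ) * conj (XS p H b (y ^ j) g (χ : G → ℂ)) = 0 →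
        XS p H b (y ^ 1) g (χ : G → ℂ) = 0 := by
      intro χ h
      have := eq_zero_of_sum_ofReal (fun j => ‖XS p H b (y ^ j) g (χ : G → ℂ)‖ ^ 2)
        (fun j _ => by positivity) (fun j _ => (normSq_eq_mul_conj' _).symm) h 1 h1J
      rcases mul_eq_zero.1 this with h1 | h1
      · exact h1
      · exact (map_eq_zero _).1 h1
    have hZ0 : ∀ (χ : IrrCharacter G),
        ∑ j ∈ Jp p n, T2 p H b (y ^ j) g (χ : G → ℂ) (χ : G → ℂ) = 0 →
        T2 p H b (y ^ 1) g (χ : G → ℂ) (χ : G → ℂ) = 0 := by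
      intro χ h
      exact eq_zero_of_sum_ofReal (fun j => (T2_real (p := p) (b := b) (y ^ j) g (χ : G → ℂ)).choose)
        (fun j _ => (T2_real (p := p) (b := b) (y ^ j) g (χ : G → ℂ)).choose_spec.1)
        (fun j _ => (T2_real (p := p) (b := b) (y ^ j) g (χ : G → ℂ)).choose_spec.2) h 1 h1J
    by_cases hsub : ∃ χ₀ ∈ B, blockHeight p B (χ₀ : G → ℂ) = 0 ∧
        T2 p H b (y ^ 1) g (χ₀ : G → ℂ) (χ₀ : G → ℂ) = 0
    · obtain ⟨χ₀, hχ₀, h0, hz⟩ := hsub
      have key : ∀ ψ ∈ B, XS p H b (y ^ 1) g (ψ : G → ℂ) ≠ 0 := by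
        intro ψ hψ hx
        have h1 := hdec 1 χ₀ ψ
        rw [T2_eq_zero_left hp.ne_zero hz, hx, map_zero, mul_zero, add_zero] at h1
        exact offdiag_ne_zero D1 hd hχ₀ hψ h0 h1
      have h2 := count_lemma (fun χ : IrrCharacter G => χ ∈ B)
        (fun χ j => XS p H b (y ^ j) g (χ : G → ℂ) * conj (XS p H b (y ^ j) g (χ : G → ℂ))) hp n 1
        ((p : ℤ) ^ blockDefect p b)
        (by
          intro j hj
          have h3 := sum_XS (hDj j hj) w
          rw [hw] at h3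
          push_cast at h3 ⊢
          rw [mul_one] at h3
          exact h3)
        (by
          intro χ hχ
          obtain ⟨E, hE, hs⟩ := hV1 χ
          refine ⟨E, ?_, hs⟩
          rcases hE with hE | hE
          · exfalso
            rw [hE, Int.cast_zero, mul_zero] at hs
            exact key χ hχ (hX0 χ hs)
          · linarith)
      linarith
    · push Not at hsub
      apply hdiag
      intro χ hχ
      obtain ⟨E2, hE2, hs2⟩ := hV2 χ
      have hE2nn : 0 ≤ E2 := by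
        rcases hE2 with h | h
        · rw [h]
        · have : 0 ≤ ((p : ℤ) - 1) * p := by nlinarith
          linarith
      have hsplit : ∑ j ∈ Jp p n,
          (p : ℂ) ^ blockDefect p b * mS p H b (y ^ j) (χ : G → ℂ) (χ : G → ℂ)
          = ∑ j ∈ Jp p n, XS p H b (y ^ j) g (χ : G → ℂ) * conj (XS p H b (y ^ j) g (χ : G → ℂ))
            + ∑ j ∈ Jp p n, T2 p H b (y ^ j) g (χ : G → ℂ) (χ : G → ℂ) := by
        rw [← Finset.sum_add_distrib]
        exact Finset.sum_congr rfl (fun j _ => hdec j χ χ)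
      by_cases hz : T2 p H b (y ^ 1) g (χ : G → ℂ) (χ : G → ℂ) = 0
      · have hpos : blockHeight p B (χ : G → ℂ) ≠ 0 := fun h0 => hsub χ hχ h0 hz
        obtain ⟨χ₀, hχ₀, h0⟩ := exists_height_zero (p := p) (⟨χ, hχ⟩ : B.Nonempty)
        obtain ⟨w0, _, hw0, he0⟩ := major_unit D1 hd hχ₀ hχ₀ h0
        have hX0unit : ¬ MemLocalIdeal M (XS p H b (y ^ 1) g (χ₀ : G → ℂ)) := by
          intro hx
          have h1 := hdec 1 χ₀ χ₀
          have h2 : MemLocalIdeal M
              ((p : ℂ) ^ blockDefect p b * mS p H b (y ^ 1) (χ₀ : G → ℂ) (χ₀ : G → ℂ)) := by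
            rw [h1]
            exact memLocalIdeal_add hM
              (memLocalIdeal_mul_right hM hx (conj_XS_memLocalRing D 1 χ₀ w))
              (T2_memLocalIdeal D 1 χ₀ w hw)
          rw [he0, h0, pow_zero, one_mul] at h2
          exact hw0 h2
        obtain ⟨w1, hw1R, _, he1⟩ := major_unit D1 hd hχ₀ hχ h0
        have h3 := hdec 1 χ₀ χ
        rw [T2_eq_zero_right hp.ne_zero hz, add_zero] at h3
        have h4 : MemLocalIdeal M (XS p H b (y ^ 1) g (χ₀ : G → ℂ) *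
            conj (XS p H b (y ^ 1) g (χ : G → ℂ))) := by
          rw [← h3, he1]
          exact memLocalIdeal_mul_right hM
            ((memLocalIdeal_pow_iff hM (memLocalRing_natCast hM p) hpos).2 (memLocalIdeal_p hM)) hw1R
        have h5 : MemLocalIdeal M (conj (XS p H b (y ^ 1) g (χ : G → ℂ))) :=
          ((memLocalIdeal_mul_iff hM (XS_memLocalRing D 1 χ₀ w)
            (conj_XS_memLocalRing D 1 χ w)).1 h4).resolve_left hX0unit
        have hxne : XS p H b (y ^ 1) g (χ : G → ℂ) ≠ 0 := by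
          intro hx
          rw [hx, map_zero, mul_zero] at h3
          exact offdiag_ne_zero D1 hd hχ₀ hχ h0 h3
        have hdv : (p : ℤ) ∣ ∑ ζ, kv p b w ζ * (cZ H χ ζ : ℤ) := by
          rw [← memLocalIdeal_intCast_iff hM]
          have h6 := sum_int_mul_root_sub hM (k := n) (fun ζ => kv p b w ζ * (cZ H χ ζ : ℤ))
            (fun ζ => conj (lamS D ζ ^ 1)) (conj_lamS_pow D 1)
          rw [← conj_XS_eq D 1 χ w] at h6
          have h7 := memLocalIdeal_sub hM h5 h6
          rwa [sub_sub_cancel] at h7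
        obtain ⟨E1, hE1, hs1⟩ := scalar_bound_dvd hp (fun ζ => kv p b w ζ * (cZ H χ ζ : ℤ))
          (lamS D) hμ hdv
        have hs1' : ∑ j ∈ Jp p n,
            XS p H b (y ^ j) g (χ : G → ℂ) * conj (XS p H b (y ^ j) g (χ : G → ℂ))
            = ((p ^ n : ℕ) : ℂ) * (E1 : ℂ) := by
          rw [← hs1]
          apply Finset.sum_congr rfl; intro j _
          rw [XS_mul_conj_expand D j χ w]
          apply Finset.sum_congr rfl; intro ζ _
          apply Finset.sum_congr rfl; intro ξ _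
          push_cast; ring
        refine ⟨E1 + E2, ?_, ?_⟩
        · rcases hE1 with h | h
          · exfalso
            rw [h, Int.cast_zero, mul_zero] at hs1'
            exact hxne (hX0 χ hs1')
          · linarith
        · rw [hsplit, hs1', hs2]; push_cast; ring
      · obtain ⟨E1, hE1, hs1⟩ := hV1 χ
        have hE1nn : 0 ≤ E1 := by
          rcases hE1 with h | h
          · rw [h]
          · linarith
        refine ⟨E1 + E2, ?_, ?_⟩
        · rcases hE2 with h | h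
          · exfalso
            rw [h, Int.cast_zero, mul_zero] at hs2
            exact hz (hZ0 χ hs2)
          · nlinarith
        · rw [hsplit, hs1, hs2]; push_cast; ring

end RT

end Cfsg.Agent.Lib.Helper81
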