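import Cfsg.Agent.Lib.Helper81.SubsecBound

set_option autoImplicit false
set_option linter.unusedSectionVars false
open Cfsg
open scoped ComplexConjugate
open Cfsg.Agent.Lib.Helper20

namespace Cfsg.Agent.Lib.Helper81

section Abstract

theorem sum_gram_row {X ι : Type*} [Fintype X] [Fintype ι] (R : X → Prop) [DecidablePred R] (c : ℂ)
    (g : X → ℂ) (f : ι → X → ℂ) :
    ∑ j, (c * ∑ s, (if R s then g s else 0) * conj (f j s)) *
        conj (c * ∑ s, (if R s then g s else 0) * conj (f j s))
      = c * conj c * ∑ s, ∑ s', (if R s ∧ R s' then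
          (g s * conj (g s')) * (∑ j, f j s' * conj (f j s)) else 0) := by
  have h1 : ∀ j, (c * ∑ s, (if R s then g s else 0) * conj (f j s)) *
        conj (c * ∑ s, (if R s then g s else 0) * conj (f j s))
      = c * conj c * ∑ s, ∑ s', (if R s ∧ R s' then
          (g s * conj (g s')) * (f j s' * conj (f j s)) else 0) := by
    intro j
    rw [map_mul, map_sum]
    have : (c * ∑ s, (if R s then g s else 0) * conj (f j s)) *
        (conj c * ∑ s, conj ((if R s then g s else 0) * conj (f j s)))
        = c * conj c * ((∑ s, (if R s then g s else 0) * conj (f j s)) *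
          ∑ s, conj ((if R s then g s else 0) * conj (f j s))) := by ring
    rw [this, Finset.sum_mul_sum]
    congr 1
    apply Finset.sum_congr rfl; intro s _
    apply Finset.sum_congr rfl; intro s' _
    by_cases hs : R s
    · by_cases hs' : R s'
      · rw [if_pos hs, if_pos hs', if_pos ⟨hs, hs'⟩]
        simp only [map_mul, Complex.conj_conj]
        ring
      · rw [if_neg hs', if_neg (fun h : R s ∧ R s' => hs' h.2)]; simp
    · rw [if_neg hs, if_neg (fun h : R s ∧ R s' => hs h.1)]; simp
  simp only [h1]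
  simp only [← Finset.mul_sum]
  congr 1
  rw [Finset.sum_comm]
  apply Finset.sum_congr rfl; intro s _
  rw [Finset.sum_comm]
  apply Finset.sum_congr rfl; intro s' _
  split_ifs
  · rw [Finset.mul_sum]
  · simp

end Abstract

section One

variable {G : Type*} [Group G] [Fintype G] {p : ℕ} {M : Ideal AlgInt}

theorem blockPart_classFunction' (b : Set (IrrCharacter G)) (θ : G → ℂ) :
    IsClassFunction G (blockPart b θ) := by
  classical
  have : Finite (IrrCharacter G) := finite_irrCharacter
  have : Fintype (IrrCharacter G) := Fintype.ofFinite _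
  rw [blockPart_eq_sum]
  intro g h
  simp only [Finset.sum_apply, Pi.smul_apply]
  apply Finset.sum_congr rfl; intro ζ _
  rw [irr_classFunction ζ g h]

theorem classInner_pReg_self [Fintype (IrrCharacter G)] {g : G → ℂ} (hg : IsClassFunction G g) :
    classInner (pRegularPart p g) g = ∑ ζ : IrrCharacter G,
      classInner (pRegularPart p g) (ζ : G → ℂ) * conj (classInner (pRegularPart p g) (ζ : G → ℂ)) := by
  classical
  have h1 : classInner (pRegularPart p g) g = classInner (pRegularPart p g) (pRegularPart p g) := by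
    simp only [classInner, pRegularPart_eq]
    congr 1
    apply Finset.sum_congr rfl; intro s _
    split_ifs <;> simp
  rw [h1]
  conv_lhs => rhs; rw [eq_sum_classInner_smul (pRegularPart_classFunction (p := p) hg)]
  rw [classInner_sum_right]
  apply Finset.sum_congr rfl; intro ζ _
  rw [classInner_smul_right, mul_comm]

theorem classInner_pReg_blockPart_eq_zero (hM : IsPModular p M) {b : Set (IrrCharacter G)}
    (hb : IsPBlock M b) (θ : G → ℂ) {ζ : IrrCharacter G} (hζ : ζ ∉ b) :
    classInner (pRegularPart p (blockPart b θ)) (ζ : G → ℂ) = 0 := by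
  classical
  have : Finite (IrrCharacter G) := finite_irrCharacter
  have : Fintype (IrrCharacter G) := Fintype.ofFinite _
  rw [blockPart_eq_sum, pRegularPart_sum, classInner_sum_left]
  apply Finset.sum_eq_zero; intro ξ _
  rw [pRegularPart_smul, classInner_smul_left]
  split_ifs with hξ
  · have : ¬ SameBlock M (ξ : G → ℂ) (ζ : G → ℂ) := by
      intro hs
      apply hζ
      rw [isPBlock_eq_blockOf hM hb hξ]
      exact hs
    have h0 := mC_eq_zero hM this
    rw [mC] at h0
    rw [h0, mul_zero]
  · rw [zero_mul]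

end One

section SR

variable {G : Type*} [Group G] [Fintype G] {p : ℕ} {M : Ideal AlgInt}

open Classical in
/-- the contribution matrix is idempotent: row version -/
theorem sum_mS_row (hM : IsPModular p M) (H : Subgroup G) [Fintype H] (u : G)
    (hu : ∃ k : ℕ, orderOf u = p ^ k) (huH : u ∈ H) (hcomm : ∀ c : H, u * (c : G) = (c : G) * u)
    (hC : Subgroup.centralizer ({u} : Set G) ≤ H)
    {b : Set (IrrCharacter H)} {B : Set (IrrCharacter G)} (hind : IsInducedBlock M H b B)
    [Fintype (IrrCharacter G)] [Fintype (IrrCharacter H)] (χ : G → ℂ) :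
    ∑ ψ : IrrCharacter G, (if ψ ∈ B then
        mS p H b u χ (ψ : G → ℂ) * conj (mS p H b u χ (ψ : G → ℂ)) else 0)
      = mS p H b u χ χ := by
  have hG := sum_gram_row (fun s : H => IsPRegular p s) ((Nat.card H : ℂ)⁻¹) (Th H b u χ)
    (fun χ : IrrCharacter G => (if χ ∈ B then Th H b u (χ : G → ℂ) else 0))
  have hH := sum_gram_row (fun s : H => IsPRegular p s) ((Nat.card H : ℂ)⁻¹) (Th H b u χ)
    (fun ζ : IrrCharacter H => (if ζ ∈ b then (ζ : H → ℂ) else 0))
  have hK : ∑ s : H, ∑ s' : H, (if IsPRegular p s ∧ IsPRegular p s' then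
          (Th H b u χ s * conj (Th H b u χ s')) *
          (∑ j : IrrCharacter G, (if j ∈ B then Th H b u (j : G → ℂ) else 0) s' *
            conj ((if j ∈ B then Th H b u (j : G → ℂ) else 0) s)) else 0)
      = ∑ s : H, ∑ s' : H, (if IsPRegular p s ∧ IsPRegular p s' then
          (Th H b u χ s * conj (Th H b u χ s')) *
          (∑ j : IrrCharacter H, (if j ∈ b then (j : H → ℂ) else 0) s' *
            conj ((if j ∈ b then (j : H → ℂ) else 0) s)) else 0) := by
    apply Finset.sum_congr rfl; intro s _
    apply Finset.sum_congr rfl; intro s' _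
    split_ifs with h
    · rw [sum_Th_mul_conj hM H u hu huH hcomm hC hind h.2 h.1]
    · rfl
  rw [hK, ← hH] at hG
  have e1 : ∀ ψ : IrrCharacter G, (if ψ ∈ B then
        mS p H b u χ (ψ : G → ℂ) * conj (mS p H b u χ (ψ : G → ℂ)) else 0)
      = ((Nat.card H : ℂ)⁻¹ * ∑ s : H, (if IsPRegular p s then Th H b u χ s else 0) *
            conj ((if ψ ∈ B then Th H b u (ψ : G → ℂ) else 0) s)) *
        conj ((Nat.card H : ℂ)⁻¹ * ∑ s : H, (if IsPRegular p s then Th H b u χ s else 0) *
            conj ((if ψ ∈ B then Th H b u (ψ : G → ℂ) else 0) s)) := by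
    intro ψ
    by_cases hψ : ψ ∈ B
    · rw [if_pos hψ, if_pos hψ]
      simp only [mS, classInner, pRegularPart_eq]
    · rw [if_neg hψ, if_neg hψ]; simp
  simp only [e1]
  rw [hG]
  have hcl : IsClassFunction H (Th H b u χ) := blockPart_classFunction' b _
  rw [mS, classInner_pReg_self hcl]
  apply Finset.sum_congr rfl; intro ζ _
  by_cases hζ : ζ ∈ b
  · rw [if_pos hζ]
    simp only [classInner, pRegularPart_eq]
  · rw [if_neg hζ, Th, classInner_pReg_blockPart_eq_zero hM hind.1 _ hζ]; simp

open Classical in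
/-- the trace of the contribution matrix -/
theorem sum_mS_diag (hM : IsPModular p M) (H : Subgroup G) [Fintype H] (u : G)
    (hu : ∃ k : ℕ, orderOf u = p ^ k) (huH : u ∈ H) (hcomm : ∀ c : H, u * (c : G) = (c : G) * u)
    (hC : Subgroup.centralizer ({u} : Set G) ≤ H)
    {b : Set (IrrCharacter H)} {B : Set (IrrCharacter G)} (hind : IsInducedBlock M H b B)
    [Fintype (IrrCharacter G)] [Fintype (IrrCharacter H)] :
    ∑ χ : IrrCharacter G, (if χ ∈ B then mS p H b u (χ : G → ℂ) (χ : G → ℂ) else 0)
      = (blockRank p b : ℂ) := by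
  rw [blockRank_eq_sum_mC hM b hind.1]
  have e1 : ∀ χ : IrrCharacter G, (if χ ∈ B then mS p H b u (χ : G → ℂ) (χ : G → ℂ) else 0)
      = (Nat.card H : ℂ)⁻¹ * ∑ s : H, (if IsPRegular p s then
          (if χ ∈ B then Th H b u (χ : G → ℂ) else 0) s *
            conj ((if χ ∈ B then Th H b u (χ : G → ℂ) else 0) s) else 0) := by
    intro χ
    by_cases hχ : χ ∈ B
    · rw [if_pos hχ, if_pos hχ]
      simp only [mS, classInner, pRegularPart_eq]
      congr 1
      apply Finset.sum_congr rfl; intro s _
      split_ifs <;> simp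
    · rw [if_neg hχ, if_neg hχ]; simp
  have e2 : ∀ ζ : IrrCharacter H, (if ζ ∈ b then mC p (ζ : H → ℂ) (ζ : H → ℂ) else 0)
      = (Nat.card H : ℂ)⁻¹ * ∑ s : H, (if IsPRegular p s then
          (if ζ ∈ b then (ζ : H → ℂ) else 0) s *
            conj ((if ζ ∈ b then (ζ : H → ℂ) else 0) s) else 0) := by
    intro ζ
    by_cases hζ : ζ ∈ b
    · rw [if_pos hζ, if_pos hζ]
      simp only [mC, classInner, pRegularPart_eq]
      congr 1
      apply Finset.sum_congr rfl; intro s _
      split_ifs <;> simp
    · rw [if_neg hζ, if_neg hζ]; simp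
  simp only [e1, e2]
  rw [← Finset.mul_sum, ← Finset.mul_sum]
  congr 1
  rw [Finset.sum_comm]
  conv_rhs => rw [Finset.sum_comm]
  apply Finset.sum_congr rfl; intro s _
  by_cases hs : IsPRegular p s
  · simp only [if_pos hs]
    exact sum_Th_mul_conj hM H u hu huH hcomm hC hind hs hs
  · simp only [if_neg hs, Finset.sum_const_zero]

end SR

end Cfsg.Agent.Lib.Helper81
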