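import Cfsg.Agent.Lib.Helper81.SubsecRow
import Cfsg.Agent.Lib.Helper81.Cyc2

set_option autoImplicit false
set_option linter.unusedSectionVars false
open Cfsg
open scoped ComplexConjugate
open Cfsg.Agent.Lib.Helper20

namespace Cfsg.Agent.Lib.Helper81

section Data

variable {G : Type*} [Group G] [Fintype G]

/-- the standing hypotheses on a subsection `(y, b)` of `B` -/
structure SubsecData (p : ℕ) (M : Ideal AlgInt) (H : Subgroup G) (y : G) (n : ℕ)
    (b : Set (IrrCharacter H)) (B : Set (IrrCharacter G)) : Prop where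
  hM : IsPModular p M
  hn : orderOf y = p ^ n
  hyH : y ∈ H
  hcomm : ∀ c : H, y * (c : G) = (c : G) * y
  hC : Subgroup.centralizer ({y} : Set G) ≤ H
  hind : IsInducedBlock M H b B

variable {p : ℕ} {M : Ideal AlgInt} {H : Subgroup G} {y : G} {n : ℕ}
  {b : Set (IrrCharacter H)} {B : Set (IrrCharacter G)}

theorem SubsecData.pow (D : SubsecData p M H y n b B) {j : ℕ} (hj : Nat.Coprime j (p ^ n)) :
    SubsecData p M H (y ^ j) n b B := by
  obtain ⟨m, hm⟩ := exists_pow_eq_self_of_coprime (x := y) (n := j) (by rw [D.hn]; exact hj)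
  refine ⟨D.hM, ?_, Subgroup.pow_mem _ D.hyH j, ?_, ?_, D.hind⟩
  · rw [Nat.Coprime.orderOf_pow (by rw [D.hn]; exact hj.symm), D.hn]
  · intro c
    exact ((Commute.pow_left (show Commute y (c : G) from D.hcomm c) j)).eq
  · intro g hg
    apply D.hC
    rw [Subgroup.mem_centralizer_iff] at hg ⊢
    intro h hh'
    rw [Set.mem_singleton_iff.1 hh']
    have hc : Commute (y ^ j) g := hg (y ^ j) rfl
    rw [← hm]
    exact (hc.pow_left m).eq

theorem SubsecData.center (D : SubsecData p M H y n b B) :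
    (⟨y, D.hyH⟩ : H) ∈ Subgroup.center H := by
  rw [Subgroup.mem_center_iff]; intro g; apply Subtype.ext
  simp only [Subgroup.coe_mul]
  exact (D.hcomm g).symm

theorem SubsecData.orderOf_mk (D : SubsecData p M H y n b B) :
    orderOf (⟨y, D.hyH⟩ : H) = p ^ n := by
  rw [← D.hn]; exact Subgroup.orderOf_mk y D.hyH

end Data

section Two

variable {G : Type*} [Group G] [Fintype G] {p : ℕ} {M : Ideal AlgInt} {H : Subgroup G} [Fintype H]
  {y : G} {n : ℕ} {b : Set (IrrCharacter H)} {B : Set (IrrCharacter G)}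

/-- the roots of unity occurring in the contributions -/
noncomputable def muS (D : SubsecData p M H y n b B) (i : IrrCharacter H × IrrCharacter H) : ℂ :=
  lam (⟨y, D.hyH⟩ : H) (i.1 : H → ℂ) * conj (lam (⟨y, D.hyH⟩ : H) (i.2 : H → ℂ))

theorem muS_pow (D : SubsecData p M H y n b B) (i : IrrCharacter H × IrrCharacter H) {N : ℕ}
    (hN : p ^ n ∣ N) : muS D i ^ N = 1 := by
  obtain ⟨t, rfl⟩ := hN
  rw [muS, pow_mul, mul_pow, ← map_pow, ← D.orderOf_mk, lam_pow_orderOf i.1.2 D.center,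
    lam_pow_orderOf i.2.2 D.center]
  simp

theorem pow_mul_mS_eq (D : SubsecData p M H y n b B) [Fintype (IrrCharacter H)] (j : ℕ)
    (χ ψ : IrrCharacter G) :
    (p : ℂ) ^ blockDefect p b * mS p H b (y ^ j) (χ : G → ℂ) (ψ : G → ℂ)
      = ∑ i : IrrCharacter H × IrrCharacter H, (aC H p b χ ψ i : ℂ) * muS D i ^ j :=
  pow_mul_mS_pow_eq (p := p) H D.hM b ⟨y, D.hyH⟩ D.center j χ ψ

open Classical in
/-- the squared length of a row of the contribution matrix -/
noncomputable def rowR (p : ℕ) (H : Subgroup G) [Fintype H] (b : Set (IrrCharacter H))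
    (B : Set (IrrCharacter G)) [Fintype (IrrCharacter G)] (u : G) (χ : G → ℂ) : ℝ :=
  ∑ ψ : IrrCharacter G, (if ψ ∈ B then ‖mS p H b u χ (ψ : G → ℂ)‖ ^ 2 else 0)

theorem rowR_eq (D : SubsecData p M H y n b B) [Fintype (IrrCharacter G)]
    [Fintype (IrrCharacter H)] (χ : G → ℂ) :
    ((rowR p H b B y χ : ℝ) : ℂ) = mS p H b y χ χ := by
  classical
  rw [← sum_mS_row D.hM H y ⟨n, D.hn⟩ D.hyH D.hcomm D.hC D.hind χ, rowR, Complex.ofReal_sum]
  apply Finset.sum_congr rfl; intro ψ _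
  split_ifs
  · exact normSq_eq_mul_conj' _
  · rfl

theorem rowR_nonneg [Fintype (IrrCharacter G)] (u : G) (χ : G → ℂ) : 0 ≤ rowR p H b B u χ := by
  classical
  rw [rowR]
  apply Finset.sum_nonneg; intro ψ _
  split_ifs
  · positivity
  · exact le_refl _

open Classical in
theorem sum_rowR (D : SubsecData p M H y n b B) [Fintype (IrrCharacter G)]
    [Fintype (IrrCharacter H)] :
    ∑ χ : IrrCharacter G, (if χ ∈ B then rowR p H b B y (χ : G → ℂ) else 0) = (blockRank p b : ℝ) := by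
  apply Complex.ofReal_injective
  rw [Complex.ofReal_natCast, ← sum_mS_diag D.hM H y ⟨n, D.hn⟩ D.hyH D.hcomm D.hC D.hind,
    Complex.ofReal_sum]
  apply Finset.sum_congr rfl; intro χ _
  split_ifs
  · exact rowR_eq D _
  · rfl

end Two

section Two'

variable {G : Type*} [Group G] [Fintype G] {M : Ideal AlgInt} {H : Subgroup G} [Fintype H]
  {y : G} {n : ℕ} {b : Set (IrrCharacter H)} {B : Set (IrrCharacter G)}

theorem coprime_of_mem_oddJ {j : ℕ} (hj : j ∈ oddJ n) : Nat.Coprime j (2 ^ n) :=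
  Nat.Coprime.pow_right _ (Nat.coprime_two_right.2 (odd_of_mem_oddJ hj))

/-- the normalised trace of `2 ^ q m_{χχ}` -/
noncomputable def AS (D : SubsecData 2 M H y n b B) [Fintype (IrrCharacter H)]
    (χ : IrrCharacter G) : ℤ :=
  ∑ i : IrrCharacter H × IrrCharacter H, aC H 2 b χ χ i * epsZ (muS D i)

theorem AS_spec (D : SubsecData 2 M H y n b B) [Fintype (IrrCharacter H)] (χ : IrrCharacter G) :
    ∑ j ∈ oddJ n, (2 : ℂ) ^ blockDefect 2 b * mS 2 H b (y ^ j) (χ : G → ℂ) (χ : G → ℂ)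
      = ((2 ^ n : ℕ) : ℂ) * (AS D χ : ℂ) := by
  have h := sum_oddJ_mul_conj (n := n) (ζ := 1) (one_pow _) (aC H 2 b χ χ) (muS D)
    (fun i => muS_pow D i (pow_dvd_pow 2 (Nat.le_succ n))) 0
  have e : Xc 1 (aC H 2 b χ χ) (muS D) 0 = AS D χ := by
    simp [Xc, AS]
  rw [e] at h
  rw [← h]
  apply Finset.sum_congr rfl; intro j _
  have := pow_mul_mS_eq D j χ χ
  push_cast at this
  rw [this]; simp

theorem AS_real (D : SubsecData 2 M H y n b B) [Fintype (IrrCharacter G)]
    [Fintype (IrrCharacter H)] (χ : IrrCharacter G) :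
    ∑ j ∈ oddJ n, (2 : ℝ) ^ blockDefect 2 b * rowR 2 H b B (y ^ j) (χ : G → ℂ)
      = ((2 ^ n : ℕ) : ℝ) * (AS D χ : ℝ) := by
  apply Complex.ofReal_injective
  have h := AS_spec D χ
  push_cast at h ⊢
  rw [← h]
  apply Finset.sum_congr rfl; intro j hj
  rw [rowR_eq (D.pow (coprime_of_mem_oddJ hj))]

theorem AS_nonneg (D : SubsecData 2 M H y n b B) [Fintype (IrrCharacter H)]
    (χ : IrrCharacter G) : 0 ≤ AS D χ := by
  have : Finite (IrrCharacter G) := finite_irrCharacter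
  have : Fintype (IrrCharacter G) := Fintype.ofFinite _
  have h := AS_real D χ
  have h1 : 0 ≤ ∑ j ∈ oddJ n, (2 : ℝ) ^ blockDefect 2 b * rowR 2 H b B (y ^ j) (χ : G → ℂ) := by
    apply Finset.sum_nonneg; intro j _
    exact mul_nonneg (by positivity) (rowR_nonneg _ _)
  rw [h] at h1
  have h2 : (0 : ℝ) < ((2 ^ n : ℕ) : ℝ) := by positivity
  have h3 : (0 : ℝ) ≤ (AS D χ : ℝ) := by
    by_contra hneg
    have hneg' := not_le.1 hneg
    nlinarith
  exact_mod_cast h3

theorem AS_parity (D : SubsecData 2 M H y n b B) [Fintype (IrrCharacter H)]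
    (χ : IrrCharacter G) :
    (2 : ℤ) ∣ AS D χ - ∑ i : IrrCharacter H × IrrCharacter H, aC H 2 b χ χ i := by
  have : Finite (IrrCharacter G) := finite_irrCharacter
  have : Fintype (IrrCharacter G) := Fintype.ofFinite _
  have hζ := Complex.isPrimitiveRoot_exp (2 ^ (n + 1)) (pow_ne_zero _ (by norm_num))
  obtain ⟨A, hA1, hA2⟩ := real_avg hζ (aC H 2 b χ χ) (muS D)
    (fun i => muS_pow D i (pow_dvd_pow 2 (Nat.le_succ n)))
    (by
      intro j hj
      have h1 := pow_mul_mS_eq D j χ χ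
      rw [← h1, ← rowR_eq (D.pow (coprime_of_mem_oddJ hj)), map_mul, map_pow,
        Complex.conj_natCast, Complex.conj_ofReal])
  have h2 := AS_spec D χ
  have h3 : ((2 ^ n : ℕ) : ℂ) * (AS D χ : ℂ) = ((2 ^ n : ℕ) : ℂ) * (A : ℂ) := by
    rw [← h2, ← hA1]
    apply Finset.sum_congr rfl; intro j _
    have := pow_mul_mS_eq D j χ χ
    push_cast at this
    exact this
  have hm0 : ((2 ^ n : ℕ) : ℂ) ≠ 0 := by exact_mod_cast pow_ne_zero _ (by norm_num)
  have h4 : AS D χ = A := by exact_mod_cast mul_left_cancel₀ hm0 h3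
  rw [h4]; exact hA2

theorem AS_odd (D : SubsecData 2 M H y n b B) [Fintype (IrrCharacter H)]
    {χ : IrrCharacter G} (hχ : χ ∈ B) (h0 : blockHeight 2 B (χ : G → ℂ) = 0) : Odd (AS D χ) := by
  have h1 := AS_parity D χ
  have h2 := sum_aC_not_dvd H D.hM D.hind hχ hχ h0 h0
  push_cast at h2
  rw [← Int.not_even_iff_odd, even_iff_two_dvd]
  intro h3
  apply h2
  have := (Int.dvd_sub h3 h1)
  simpa using this

open Classical in
theorem sum_AS (D : SubsecData 2 M H y n b B) [Fintype (IrrCharacter G)]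
    [Fintype (IrrCharacter H)] :
    ∑ χ : IrrCharacter G, (if χ ∈ B then AS D χ else 0) = 2 ^ blockDefect 2 b * (blockRank 2 b : ℤ) := by
  have hm0 : ((2 ^ n : ℕ) : ℝ) ≠ 0 := by positivity
  have hcard : ((oddJ n).card : ℝ) = ((2 ^ n : ℕ) : ℝ) := by
    have : (oddJ n).card = Nat.totient (2 ^ (n + 1)) := by
      rw [Nat.totient_eq_card_coprime, oddJ]
      congr 1
      apply Finset.filter_congr; intro j _
      exact Nat.coprime_comm
    rw [this, Nat.totient_prime_pow_succ Nat.prime_two]; simp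
  have h : ((2 ^ n : ℕ) : ℝ) * ((∑ χ : IrrCharacter G, (if χ ∈ B then AS D χ else 0) : ℤ) : ℝ)
      = ((2 ^ n : ℕ) : ℝ) * ((2 ^ blockDefect 2 b * (blockRank 2 b : ℤ) : ℤ) : ℝ) := by
    push_cast
    rw [Finset.mul_sum]
    have e1 : ∀ χ : IrrCharacter G, (2 : ℝ) ^ n * (if χ ∈ B then (AS D χ : ℝ) else 0)
        = ∑ j ∈ oddJ n, (2 : ℝ) ^ blockDefect 2 b *
          (if χ ∈ B then rowR 2 H b B (y ^ j) (χ : G → ℂ) else 0) := by
      intro χ
      split_ifs
      · have := AS_real D χ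
        push_cast at this
        rw [this]
      · simp
    simp only [e1]
    rw [Finset.sum_comm]
    have e2 : ∀ j ∈ oddJ n, ∑ χ : IrrCharacter G, (2 : ℝ) ^ blockDefect 2 b *
          (if χ ∈ B then rowR 2 H b B (y ^ j) (χ : G → ℂ) else 0)
        = (2 : ℝ) ^ blockDefect 2 b * (blockRank 2 b : ℝ) := by
      intro j hj
      rw [← Finset.mul_sum, sum_rowR (D.pow (coprime_of_mem_oddJ hj))]
    rw [Finset.sum_congr rfl e2, Finset.sum_const, nsmul_eq_mul, hcard]
    push_cast; ring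
  exact_mod_cast mul_left_cancel₀ hm0 h

open Classical in
theorem card_le_AS (D : SubsecData 2 M H y n b B) [Fintype (IrrCharacter G)]
    [Fintype (IrrCharacter H)] {χ : IrrCharacter G} (hχ : χ ∈ B)
    (h0 : blockHeight 2 B (χ : G → ℂ) = 0)
    (S : Set (IrrCharacter G)) (hS : ∀ ψ ∈ S, ψ ∈ B ∧ blockHeight 2 B (ψ : G → ℂ) = 0) :
    (Nat.card S : ℤ) ≤ 2 ^ blockDefect 2 b * AS D χ := by
  have hm0 : (0 : ℝ) < ((2 ^ n : ℕ) : ℝ) := by positivity
  have e : Nat.card S = ∑ ψ : IrrCharacter G, (if ψ ∈ S then 1 else 0) := by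
    rw [Nat.card_eq_fintype_card, Fintype.card_subtype, Finset.card_filter]
  have key : ∀ ψ ∈ S, ((2 ^ n : ℕ) : ℝ) ≤ ∑ j ∈ oddJ n,
      ((2 : ℝ) ^ blockDefect 2 b) ^ 2 * ‖mS 2 H b (y ^ j) (χ : G → ℂ) (ψ : G → ℂ)‖ ^ 2 := by
    intro ψ hψ
    have h := parseval_bound (n := n + 1) Nat.prime_two (aC H 2 b χ ψ) (muS D)
      (fun i => muS_pow D i (pow_dvd_pow 2 (Nat.le_succ n)))
      (sum_aC_not_dvd H D.hM D.hind hχ (hS ψ hψ).1 h0 (hS ψ hψ).2)
    rw [Nat.totient_prime_pow_succ Nat.prime_two] at h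
    simp only [Nat.add_one_sub_one, mul_one] at h
    refine h.trans (le_of_eq ?_)
    apply Finset.sum_congr rfl; intro j _
    rw [← pow_mul_mS_eq D j χ ψ, norm_mul, mul_pow, norm_pow, Complex.norm_natCast]
    push_cast; ring
  have h1 : ((2 ^ n : ℕ) : ℝ) * (Nat.card S : ℝ)
      ≤ ((2 ^ n : ℕ) : ℝ) * ((2 : ℝ) ^ blockDefect 2 b * (AS D χ : ℝ)) := by
    calc ((2 ^ n : ℕ) : ℝ) * (Nat.card S : ℝ)
        = ∑ ψ : IrrCharacter G, (if ψ ∈ S then ((2 ^ n : ℕ) : ℝ) else 0) := by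
          rw [e]; push_cast
          rw [Finset.mul_sum]
          apply Finset.sum_congr rfl; intro ψ _
          split_ifs <;> simp
      _ ≤ ∑ ψ : IrrCharacter G, (if ψ ∈ B then ∑ j ∈ oddJ n,
          ((2 : ℝ) ^ blockDefect 2 b) ^ 2 * ‖mS 2 H b (y ^ j) (χ : G → ℂ) (ψ : G → ℂ)‖ ^ 2
          else 0) := by
          apply Finset.sum_le_sum; intro ψ _
          by_cases hψ : ψ ∈ S
          · rw [if_pos hψ, if_pos (hS ψ hψ).1]; exact key ψ hψ
          · rw [if_neg hψ]
            split_ifs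
            · apply Finset.sum_nonneg; intro j _; positivity
            · exact le_refl _
      _ = (2 : ℝ) ^ blockDefect 2 b * ∑ j ∈ oddJ n,
          (2 : ℝ) ^ blockDefect 2 b * rowR 2 H b B (y ^ j) (χ : G → ℂ) := by
          simp only [rowR, Finset.mul_sum]
          symm
          rw [Finset.sum_comm]
          apply Finset.sum_congr rfl; intro ψ _
          split_ifs
          · apply Finset.sum_congr rfl; intro j _; ring
          · simp
      _ = _ := by rw [AS_real D χ]; ring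
  have h2 := le_of_mul_le_mul_left h1 hm0
  exact_mod_cast h2

end Two'

end Cfsg.Agent.Lib.Helper81
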