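import Cfsg.Agent.Lib.Helper81.RankSum
import Cfsg.Agent.Lib.Helper81.SecondMainAux

set_option autoImplicit false
set_option linter.unusedSectionVars false
open Cfsg
open scoped ComplexConjugate
open Cfsg.Agent.Lib.Helper20

namespace Cfsg.Agent.Lib.Helper81

section SU

variable {G : Type*} [Group G] [Fintype G] {p : ℕ} {M : Ideal AlgInt}

/-- multiplicity of `ζ` in the restriction of `χ` -/
noncomputable def cR (H : Subgroup G) [Fintype H] (χ : G → ℂ) (ζ : H → ℂ) : ℂ :=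
  classInner (fun k : H => χ k) ζ

theorem wfun_res (H : Subgroup G) (χ : G → ℂ) :
    (fun k : H => wfun p χ (k : G)) = wfun p (fun k : H => χ k) := by
  classical
  funext k
  simp only [wfun, pRegularPart_eq]
  have : IsPRegular p ((k : G)⁻¹) ↔ IsPRegular p (k⁻¹) := by
    simp only [IsPRegular]
    rw [← Subgroup.coe_inv, Subgroup.orderOf_coe]
  by_cases h : IsPRegular p (k⁻¹)
  · rw [if_pos h, if_pos (this.2 h)]; rfl
  · rw [if_neg h, if_neg (fun h' => h (this.1 h'))]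

theorem res_classFunction' (H : Subgroup G) {χ : G → ℂ} (hχ : IsClassFunction G χ) :
    IsClassFunction H (fun k : H => χ k) := by
  intro g t
  exact hχ g t

theorem Sm_sum_right [Fintype (IrrCharacter G)] (ξ : G → ℂ) (c : IrrCharacter G → ℂ) :
    Sm p ξ (∑ ζ : IrrCharacter G, c ζ • (ζ : G → ℂ)) = ∑ ζ : IrrCharacter G, c ζ * Sm p ξ (ζ : G → ℂ) := by
  classical
  simp only [Sm, omega, wfun, pRegularPart_eq, Finset.mul_sum]
  rw [Finset.sum_comm]
  apply Finset.sum_congr rfl; intro g _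
  split_ifs
  · rw [Finset.sum_apply, Finset.sum_mul, Finset.sum_div]
    apply Finset.sum_congr rfl; intro ζ _
    simp only [Pi.smul_apply, smul_eq_mul]
    ring
  · simp

/-- `S(ξ, χ_H) ≡ S(χ', χ)` if `b^G = B`, `ξ ∈ b`, `χ' ∈ B`. -/
theorem Sm_res_congr (hM : IsPModular p M) (H : Subgroup G) [Fintype H]
    {b : Set (IrrCharacter H)} {B : Set (IrrCharacter G)} (hind : IsInducedBlock M H b B)
    {ξ : IrrCharacter H} (hξ : ξ ∈ b) {χ' : IrrCharacter G} (hχ' : χ' ∈ B) (χ : IrrCharacter G) :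
    MemLocalIdeal M (Sm p (ξ : H → ℂ) (fun k : H => (χ : G → ℂ) k)
      - Sm p (χ' : G → ℂ) (χ : G → ℂ)) := by
  have := induced_congr hM H hind hξ hχ' (wfun_classFunction (p := p) (irr_classFunction χ))
    (wfun_memLocalRing hM χ)
  rw [wfun_res] at this
  exact this

theorem Sm_res_unit (hM : IsPModular p M) (H : Subgroup G) [Fintype H]
    {b : Set (IrrCharacter H)} {B : Set (IrrCharacter G)} (hind : IsInducedBlock M H b B)
    {ξ : IrrCharacter H} (hξ : ξ ∈ b) {χ : IrrCharacter G} (hχ : χ ∈ B)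
    (h0 : blockHeight p B (χ : G → ℂ) = 0) :
    ¬ MemLocalIdeal M (Sm p (ξ : H → ℂ) (fun k : H => (χ : G → ℂ) k)) :=
  not_memLocalIdeal_of_sub hM (Sm_res_congr hM H hind hξ hχ χ)
    (Sm_unit_of_height_zero hM hind.2.1 hχ hχ h0)

theorem Sm_res_memLocalRing (hM : IsPModular p M) (H : Subgroup G) [Fintype H]
    {b : Set (IrrCharacter H)} {B : Set (IrrCharacter G)} (hind : IsInducedBlock M H b B)
    {ξ : IrrCharacter H} (hξ : ξ ∈ b) (χ : IrrCharacter G) :
    MemLocalRing M (Sm p (ξ : H → ℂ) (fun k : H => (χ : G → ℂ) k)) := by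
  obtain ⟨χ', hχ'⟩ := isPBlock_nonempty hM hind.2.1
  exact memLocalRing_of_sub hM (Sm_res_congr hM H hind hξ hχ' χ) (Sm_memLocalRing hM χ' χ)

open Classical in
theorem Sm_res_eq_sum (hM : IsPModular p M) (H : Subgroup G) [Fintype H]
    [Fintype (IrrCharacter H)] {b : Set (IrrCharacter H)} (hb : IsPBlock M b)
    {ξ : IrrCharacter H} (hξ : ξ ∈ b) (χ : IrrCharacter G) :
    Sm p (ξ : H → ℂ) (fun k : H => (χ : G → ℂ) k)
      = ∑ ζ : IrrCharacter H, (if ζ ∈ b then cR H (χ : G → ℂ) (ζ : H → ℂ) * Sm p (ξ : H → ℂ) (ζ : H → ℂ)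
          else 0) := by
  conv_lhs => rw [eq_sum_classInner_smul (res_classFunction' H (irr_classFunction χ))]
  rw [Sm_sum_right]
  apply Finset.sum_congr rfl; intro ζ _
  split_ifs with hζ
  · rfl
  · have : ¬ SameBlock M (ξ : H → ℂ) (ζ : H → ℂ) := by
      intro hs
      apply hζ
      rw [isPBlock_eq_blockOf hM hb hξ]
      exact hs
    rw [Sm_eq, mC_eq_zero hM this]; simp

theorem cR_int (H : Subgroup G) [Fintype H] (χ : IrrCharacter G) (ζ : IrrCharacter H) :
    ∃ n : ℕ, cR H (χ : G → ℂ) (ζ : H → ℂ) = n :=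
  isCharacter_classInner_nat (isCharacter_restrict (isCharacter_of_isIrrCharacter χ.2) H) ζ.2

theorem cR_memLocalRing (hM : IsPModular p M) (H : Subgroup G) [Fintype H] (χ : IrrCharacter G)
    (ζ : IrrCharacter H) : MemLocalRing M (cR H (χ : G → ℂ) (ζ : H → ℂ)) := by
  obtain ⟨n, hn⟩ := cR_int H χ ζ
  rw [hn]; exact memLocalRing_natCast hM n

open Classical in
/-- **Unit lemma for subsections.**  -/
theorem subsec_unit (hM : IsPModular p M) (H : Subgroup G) [Fintype H] [Fintype (IrrCharacter H)]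
    {b : Set (IrrCharacter H)} {B : Set (IrrCharacter G)} (hind : IsInducedBlock M H b B)
    {χ ψ : IrrCharacter G} (hχ : χ ∈ B) (hψ : ψ ∈ B)
    (h0χ : blockHeight p B (χ : G → ℂ) = 0) (h0ψ : blockHeight p B (ψ : G → ℂ) = 0) :
    ¬ MemLocalIdeal M (∑ ξ : IrrCharacter H, (if ξ ∈ b then
      cR H (ψ : G → ℂ) (ξ : H → ℂ) * (((p : ℂ) ^ blockDefect p b * (ξ : H → ℂ) 1) / (Nat.card H : ℂ))
        * Sm p (ξ : H → ℂ) (fun k : H => (χ : G → ℂ) k) else 0)) := by
  have hb := hind.1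
  obtain ⟨ξ₀, hξ₀, hmin⟩ := exists_minDeg (p := p) (isPBlock_nonempty hM hb)
  have h10 := irr_one_ne_zero ξ₀.2
  have hH : (Nat.card H : ℂ) ≠ 0 := card_ne_zero_complex
  set τ : ℂ := ((p : ℂ) ^ blockDefect p b * (ξ₀ : H → ℂ) 1) / (Nat.card H : ℂ) with hτ
  set r : IrrCharacter H → ℂ := fun ξ => (ξ : H → ℂ) 1 / (ξ₀ : H → ℂ) 1 with hr
  set S : IrrCharacter G → IrrCharacter H → ℂ :=
    fun χ ξ => Sm p (ξ : H → ℂ) (fun k : H => (χ : G → ℂ) k) with hS
  set f' : ℂ := ∑ ξ : IrrCharacter H, (if ξ ∈ b then cR H (ψ : G → ℂ) (ξ : H → ℂ) * r ξ else 0) with hf'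
  -- τ is a unit
  have hval : (p ^ blockDefect p b * charDegree (ξ₀ : H → ℂ)).factorization p
      = (Nat.card H).factorization p := by
    rw [Nat.factorization_mul (pow_ne_zero _ hM.1.ne_zero) (charDegree_ne_zero ξ₀),
      hM.1.factorization_pow]
    simp only [Finsupp.coe_add, Pi.add_apply, Finsupp.single_eq_same]
    have h1 := blockDefect_add (p := p) (isPBlock_nonempty hM hb)
    simp only [nuDeg] at hmin
    omega
  have hτeq : τ = ((p ^ blockDefect p b * charDegree (ξ₀ : H → ℂ) : ℕ) : ℂ) / (Nat.card H : ℂ) := by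
    rw [hτ, irr_one_eq]; push_cast; rfl
  have hne1 : p ^ blockDefect p b * charDegree (ξ₀ : H → ℂ) ≠ 0 :=
    mul_ne_zero (pow_ne_zero _ hM.1.ne_zero) (charDegree_ne_zero ξ₀)
  have hτR : MemLocalRing M τ := by
    rw [hτeq]
    exact memLocalRing_natCast_div hM hne1 Nat.card_pos.ne' hval.ge
  have hτU : ¬ MemLocalIdeal M τ := by
    rw [hτeq, memLocalIdeal_natCast_div_iff hM hne1 Nat.card_pos.ne']
    omega
  have hrR : ∀ ξ ∈ b, MemLocalRing M (r ξ) := by
    intro ξ hξ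
    simp only [hr]
    rw [irr_one_eq, irr_one_eq]
    apply memLocalRing_natCast_div hM (charDegree_ne_zero _) (charDegree_ne_zero _)
    have e2 := minDeg_le (p := p) hξ
    simp only [nuDeg] at hmin e2
    omega
  have hcrR : ∀ ξ ∈ b, MemLocalRing M (cR H (ψ : G → ℂ) (ξ : H → ℂ) * r ξ) := fun ξ hξ =>
    memLocalRing_mul hM (cR_memLocalRing hM H ψ ξ) (hrR ξ hξ)
  have hf'R : MemLocalRing M f' := by
    apply memLocalRing_sum hM
    intro ξ _
    split_ifs with hξ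
    · exact hcrR ξ hξ
    · exact memLocalRing_zero hM
  -- (c)
  set V : ℂ := Sm p (ξ₀ : H → ℂ) (ξ₀ : H → ℂ) with hV
  have hVR : MemLocalRing M V := Sm_memLocalRing hM ξ₀ ξ₀
  have hc : MemLocalIdeal M (S ψ ξ₀ - V * f') := by
    have e1 : S ψ ξ₀ - V * f' = ∑ ξ : IrrCharacter H, (if ξ ∈ b then
        cR H (ψ : G → ℂ) (ξ : H → ℂ) * r ξ * (Sm p (ξ : H → ℂ) (ξ₀ : H → ℂ) - V) else 0) := by
      simp only [hS]
      rw [Sm_res_eq_sum hM H hb hξ₀ ψ, hf', Finset.mul_sum, ← Finset.sum_sub_distrib]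
      apply Finset.sum_congr rfl; intro ξ _
      split_ifs with hξ
      · have := Sm_symm (p := p) ξ₀ ξ
        have e2 : Sm p (ξ₀ : H → ℂ) (ξ : H → ℂ) = r ξ * Sm p (ξ : H → ℂ) (ξ₀ : H → ℂ) := by
          simp only [hr]
          field_simp
          rw [mul_comm]; exact this
        rw [e2]; ring
      · simp
    rw [e1]
    apply memLocalIdeal_sum hM
    intro ξ _
    split_ifs with hξ
    · exact memLocalIdeal_mul_left hM (hcrR ξ hξ)
        (Sm_sub_memLocalIdeal hM (isPBlock_sameBlock hM hb hξ hξ₀) ξ₀)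
    · exact memLocalIdeal_zero hM
  have hf'U : ¬ MemLocalIdeal M f' := by
    intro hcon
    apply Sm_res_unit hM H hind hξ₀ hψ h0ψ
    have h1 : MemLocalIdeal M (V * f') := memLocalIdeal_mul_left hM hVR hcon
    have := memLocalIdeal_add hM hc h1
    rwa [sub_add_cancel] at this
  -- (b)
  have hbb : MemLocalIdeal M ((∑ ξ : IrrCharacter H, (if ξ ∈ b then
      cR H (ψ : G → ℂ) (ξ : H → ℂ) * (((p : ℂ) ^ blockDefect p b * (ξ : H → ℂ) 1) / (Nat.card H : ℂ))
        * S χ ξ else 0)) - τ * S χ ξ₀ * f') := by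
    have e1 : (∑ ξ : IrrCharacter H, (if ξ ∈ b then
      cR H (ψ : G → ℂ) (ξ : H → ℂ) * (((p : ℂ) ^ blockDefect p b * (ξ : H → ℂ) 1) / (Nat.card H : ℂ))
        * S χ ξ else 0)) - τ * S χ ξ₀ * f'
        = ∑ ξ : IrrCharacter H, (if ξ ∈ b then
          τ * (cR H (ψ : G → ℂ) (ξ : H → ℂ) * r ξ) * (S χ ξ - S χ ξ₀) else 0) := by
      rw [hf', Finset.mul_sum, ← Finset.sum_sub_distrib]
      apply Finset.sum_congr rfl; intro ξ _
      split_ifs with hξ
      · simp only [hτ, hr]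
        field_simp
      · simp
    rw [e1]
    apply memLocalIdeal_sum hM
    intro ξ _
    split_ifs with hξ
    · apply memLocalIdeal_mul_left hM (memLocalRing_mul hM hτR (hcrR ξ hξ))
      have h1 := Sm_res_congr hM H hind hξ hχ χ
      have h2 := Sm_res_congr hM H hind hξ₀ hχ χ
      have := memLocalIdeal_sub hM h1 h2
      simpa [hS] using this
    · exact memLocalIdeal_zero hM
  have hSR : MemLocalRing M (S χ ξ₀) := Sm_res_memLocalRing hM H hind hξ₀ χ
  have hSU : ¬ MemLocalIdeal M (S χ ξ₀) := Sm_res_unit hM H hind hξ₀ hχ h0χ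
  have hprod : ¬ MemLocalIdeal M (τ * S χ ξ₀ * f') :=
    not_memLocalIdeal_mul hM (memLocalRing_mul hM hτR hSR) hf'R
      (not_memLocalIdeal_mul hM hτR hSR hτU hSU) hf'U
  exact not_memLocalIdeal_of_sub hM hbb hprod

end SU

end Cfsg.Agent.Lib.Helper81
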