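import Cfsg.Agent.Lib.Helper81.SubsecTwo
import Cfsg.Agent.Lib.Helper81.Cyc2Div

set_option autoImplicit false
set_option linter.unusedSectionVars false
open Cfsg
open scoped ComplexConjugate
open Cfsg.Agent.Lib.Helper20

namespace Cfsg.Agent.Lib.Helper81

section Val

variable {G : Type*} [Group G] [Fintype G] {p : ℕ} {M : Ideal AlgInt} {H : Subgroup G} [Fintype H]
  {y : G} {n : ℕ} {b : Set (IrrCharacter H)} {B : Set (IrrCharacter G)}

theorem shift_classFunction (D : SubsecData p M H y n b B) {ψ : G → ℂ}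
    (hψ : IsClassFunction G ψ) : IsClassFunction H (fun c : H => ψ (y * (c : G))) := by
  intro c h
  show ψ (y * ((h * c * h⁻¹ : H) : G)) = ψ (y * c)
  have : y * ((h * c * h⁻¹ : H) : G) = (h : G) * (y * c) * (h : G)⁻¹ := by
    simp only [Subgroup.coe_mul, Subgroup.coe_inv]
    rw [← mul_assoc, ← mul_assoc, D.hcomm h]
    group
  rw [this, hψ]

theorem Th_memLocalRing (D : SubsecData p M H y n b B) (χ : IrrCharacter G) (s : H) :
    MemLocalRing M (Th H b y (χ : G → ℂ) s) := by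
  rw [Th, blockPart_eq_sum_blockCoeff b (shift_classFunction D (irr_classFunction χ))]
  apply memLocalRing_sum D.hM; intro k _
  exact memLocalRing_mul D.hM (osima D.hM b D.hind.1 k) (memLocalRing_of_isIntegral D.hM
    (isCharacter_isIntegral (isCharacter_of_isIrrCharacter χ.2) _))

theorem mS_eq_inner (D : SubsecData p M H y n b B) (χ : G → ℂ) {ψ : G → ℂ}
    (hψ : IsClassFunction G ψ) :
    mS p H b y χ ψ = classInner (pRegularPart p (Th H b y χ)) (fun c : H => ψ (y * (c : G))) := by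
  classical
  have : Finite (IrrCharacter H) := finite_irrCharacter
  have : Fintype (IrrCharacter H) := Fintype.ofFinite _
  have hθ := eq_sum_classInner_smul (shift_classFunction D hψ)
  have h1 : Th H b y ψ = ∑ ζ : IrrCharacter H,
      (if ζ ∈ b then classInner (fun c : H => ψ (y * (c : G))) (ζ : H → ℂ) else 0) • (ζ : H → ℂ) := by
    rw [Th, blockPart_eq_sum]
  rw [mS]
  conv_lhs => arg 2; rw [h1]
  conv_rhs => arg 2; rw [hθ]
  rw [classInner_sum_right, classInner_sum_right]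
  apply Finset.sum_congr rfl; intro ζ _
  rw [classInner_smul_right, classInner_smul_right]
  split_ifs with hζ
  · rfl
  · rw [Th, classInner_pReg_blockPart_eq_zero D.hM D.hind.1 _ hζ]; simp

theorem centralizer_inv (x : G) :
    Subgroup.centralizer ({x⁻¹} : Set G) = Subgroup.centralizer ({x} : Set G) := by
  ext g
  simp only [Subgroup.mem_centralizer_iff, Set.mem_singleton_iff, forall_eq]
  constructor
  · intro h
    have : Commute x⁻¹ g := h
    exact (Commute.inv_left_iff.1 this).eq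
  · intro h
    have : Commute x g := h
    exact (Commute.inv_left_iff.2 this).eq

theorem card_mul_mS_div (D : SubsecData p M H y n b B) (χ ψ : IrrCharacter G)
    [Fintype (ConjClasses H)] :
    (Nat.card G : ℂ) * mS p H b y (χ : G → ℂ) (ψ : G → ℂ) / (ψ : G → ℂ) 1
      = ∑ C : ConjClasses H, pRegularPart p (Th H b y (χ : G → ℂ)) (Quotient.out C) *
          centralChar (ψ : G → ℂ) (y * ((Quotient.out C : H) : G))⁻¹ := by
  classical
  have hG : (Nat.card G : ℂ) ≠ 0 := card_ne_zero_complex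
  have hH : (Nat.card H : ℂ) ≠ 0 := card_ne_zero_complex
  have h10 := irr_one_ne_zero ψ.2
  have hF : IsClassFunction H (fun s : H => pRegularPart p (Th H b y (χ : G → ℂ)) s *
      conj ((ψ : G → ℂ) (y * (s : G)))) := by
    intro s h
    show pRegularPart p (Th H b y (χ : G → ℂ)) (h * s * h⁻¹) *
      conj ((fun c : H => (ψ : G → ℂ) (y * (c : G))) (h * s * h⁻¹)) = _
    have hcl : IsClassFunction H (Th H b y (χ : G → ℂ)) := blockPart_classFunction' b _
    rw [pRegularPart_classFunction hcl s h,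
      shift_classFunction D (irr_classFunction ψ) s h]
  rw [mS_eq_inner D _ (irr_classFunction ψ), classInner, sum_eq_sum_classes hF, Finset.mul_sum,
    Finset.mul_sum, Finset.sum_div]
  apply Finset.sum_congr rfl; intro C _
  set s : H := Quotient.out C with hs
  by_cases hreg : IsPRegular p s
  · have e1 : (Nat.card (Subgroup.centralizer ({s} : Set H)) : ℂ) *
        ((Subgroup.centralizer ({s} : Set H)).index : ℂ) = (Nat.card H : ℂ) := by
      exact_mod_cast Subgroup.card_mul_index _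
    have e2 : (Nat.card (Subgroup.centralizer ({y * (s : G)} : Set G)) : ℂ) *
        ((Subgroup.centralizer ({y * (s : G)} : Set G)).index : ℂ) = (Nat.card G : ℂ) := by
      exact_mod_cast Subgroup.card_mul_index _
    have e3 := card_centralizer_mul D.hM.1 H y ⟨n, D.hn⟩ D.hcomm D.hC hreg
    rw [e3] at e2
    have hc0 : (Nat.card (Subgroup.centralizer ({s} : Set H)) : ℂ) ≠ 0 := by
      intro h0; rw [h0, zero_mul] at e1; exact hH e1.symm
    have hi0 : ((Subgroup.centralizer ({s} : Set H)).index : ℂ) ≠ 0 := by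
      intro h0; rw [h0, mul_zero] at e1; exact hH e1.symm
    rw [centralChar, centralizer_inv, isCharacter_inv (isCharacter_of_isIrrCharacter ψ.2),
      ← e1, ← e2]
    field_simp
  · have : pRegularPart p (Th H b y (χ : G → ℂ)) s = 0 := by
      rw [pRegularPart_eq]; simp [hreg]
    rw [this]; simp

theorem pReg_Th_memLocalRing (D : SubsecData p M H y n b B) (χ : IrrCharacter G) (s : H) :
    MemLocalRing M (pRegularPart p (Th H b y (χ : G → ℂ)) s) := by
  classical
  rw [pRegularPart_eq]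
  show MemLocalRing M (if IsPRegular p s then _ else _)
  split_ifs
  · exact Th_memLocalRing D χ s
  · exact memLocalRing_zero D.hM

theorem Omega_memLocalRing (D : SubsecData p M H y n b B) (χ ψ : IrrCharacter G) :
    MemLocalRing M ((Nat.card G : ℂ) * mS p H b y (χ : G → ℂ) (ψ : G → ℂ) / (ψ : G → ℂ) 1) := by
  classical
  rw [card_mul_mS_div D]
  apply memLocalRing_sum D.hM; intro C _
  exact memLocalRing_mul D.hM (pReg_Th_memLocalRing D χ _) (centralChar_memLocalRing D.hM ψ _)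

theorem Omega_sub_memLocalIdeal (D : SubsecData p M H y n b B) (χ : IrrCharacter G)
    {ψ ψ' : IrrCharacter G} (h : SameBlock M (ψ : G → ℂ) (ψ' : G → ℂ)) :
    MemLocalIdeal M ((Nat.card G : ℂ) * mS p H b y (χ : G → ℂ) (ψ : G → ℂ) / (ψ : G → ℂ) 1
      - (Nat.card G : ℂ) * mS p H b y (χ : G → ℂ) (ψ' : G → ℂ) / (ψ' : G → ℂ) 1) := by
  classical
  rw [card_mul_mS_div D, card_mul_mS_div D, ← Finset.sum_sub_distrib]
  apply memLocalIdeal_sum D.hM; intro C _
  rw [← mul_sub]
  exact memLocalIdeal_mul_left D.hM (pReg_Th_memLocalRing D χ _) (h _)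

end Val

section Major

variable {G : Type*} [Group G] [Fintype G] {p : ℕ} {M : Ideal AlgInt} {H : Subgroup G} [Fintype H]
  {y : G} {n : ℕ} {b : Set (IrrCharacter H)} {B : Set (IrrCharacter G)}

theorem sum_int_mul_root_sub (hM : IsPModular p M) {I : Type*} [Fintype I] (a : I → ℤ) (μ : I → ℂ)
    {k : ℕ} (hμ : ∀ i, μ i ^ (p ^ k) = 1) :
    MemLocalIdeal M (∑ i, (a i : ℂ) * μ i - ((∑ i, a i : ℤ) : ℂ)) := by
  push_cast
  rw [← Finset.sum_sub_distrib]
  apply memLocalIdeal_sum hM; intro i _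
  have : (a i : ℂ) * μ i - (a i : ℂ) = (a i : ℂ) * (μ i - 1) := by ring
  rw [this]
  exact memLocalIdeal_mul_left hM (memLocalRing_intCast hM _)
    (memLocalIdeal_sub_one_of_pow_eq_one hM (hμ i))

theorem pow_mS_congr (D : SubsecData p M H y n b B) [Fintype (IrrCharacter H)]
    (χ ψ : IrrCharacter G) :
    MemLocalIdeal M ((p : ℂ) ^ blockDefect p b * mS p H b y (χ : G → ℂ) (ψ : G → ℂ)
      - ((∑ i : IrrCharacter H × IrrCharacter H, aC H p b χ ψ i : ℤ) : ℂ)) := by
  have h1 := pow_mul_mS_eq D 1 χ ψ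
  simp only [pow_one] at h1
  rw [h1]
  exact sum_int_mul_root_sub D.hM _ _ (fun i => muS_pow D i dvd_rfl)

theorem sum_aC_symm (hp : p.Prime) [Fintype (IrrCharacter H)] (χ ψ : IrrCharacter G) :
    ∑ i : IrrCharacter H × IrrCharacter H, aC H p b χ ψ i
      = ∑ i : IrrCharacter H × IrrCharacter H, aC H p b ψ χ i := by
  classical
  rw [← Equiv.sum_comp (Equiv.prodComm (IrrCharacter H) (IrrCharacter H))]
  apply Finset.sum_congr rfl; rintro ⟨ζ, ξ⟩ _
  show aC H p b χ ψ (ξ, ζ) = aC H p b ψ χ (ζ, ξ)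
  simp only [aC]
  by_cases h : ζ ∈ b ∧ ξ ∈ b
  · rw [if_pos h, if_pos (⟨h.2, h.1⟩ : ξ ∈ b ∧ ζ ∈ b), kC_symm hp]; ring
  · rw [if_neg h, if_neg (fun h' : ξ ∈ b ∧ ζ ∈ b => h ⟨h'.2, h'.1⟩)]

/-- the unit `p ^ d ψ(1) / (p ^ h |G|)` -/
theorem unit_factor (hM : IsPModular p M) {ψ : IrrCharacter G} (hψ : ψ ∈ B) :
    MemLocalRing M (((p ^ blockDefect p B * charDegree (ψ : G → ℂ) : ℕ) : ℂ) /
        ((p ^ blockHeight p B (ψ : G → ℂ) * Nat.card G : ℕ) : ℂ)) ∧
      ¬ MemLocalIdeal M (((p ^ blockDefect p B * charDegree (ψ : G → ℂ) : ℕ) : ℂ) /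
        ((p ^ blockHeight p B (ψ : G → ℂ) * Nat.card G : ℕ) : ℂ)) := by
  have hne1 : p ^ blockDefect p B * charDegree (ψ : G → ℂ) ≠ 0 :=
    mul_ne_zero (pow_ne_zero _ hM.1.ne_zero) (charDegree_ne_zero ψ)
  have hne2 : p ^ blockHeight p B (ψ : G → ℂ) * Nat.card G ≠ 0 :=
    mul_ne_zero (pow_ne_zero _ hM.1.ne_zero) Nat.card_pos.ne'
  have hval : (p ^ blockDefect p B * charDegree (ψ : G → ℂ)).factorization p
      = (p ^ blockHeight p B (ψ : G → ℂ) * Nat.card G).factorization p := by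
    rw [Nat.factorization_mul (pow_ne_zero _ hM.1.ne_zero) (charDegree_ne_zero ψ),
      Nat.factorization_mul (pow_ne_zero _ hM.1.ne_zero) Nat.card_pos.ne',
      hM.1.factorization_pow, hM.1.factorization_pow]
    simp only [Finsupp.coe_add, Pi.add_apply, Finsupp.single_eq_same]
    have h1 := blockDefect_add (p := p) (⟨ψ, hψ⟩ : B.Nonempty)
    have h2 := blockHeight_add (p := p) hψ
    simp only [nuDeg] at h2
    omega
  refine ⟨memLocalRing_natCast_div hM hne1 hne2 hval.ge, ?_⟩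
  rw [memLocalIdeal_natCast_div_iff hM hne1 hne2]
  omega

theorem pow_mS_eq_Omega (hp : p.Prime) (χ ψ : IrrCharacter G) :
    (p : ℂ) ^ blockDefect p B * mS p H b y (χ : G → ℂ) (ψ : G → ℂ)
      = (p : ℂ) ^ blockHeight p B (ψ : G → ℂ) *
        (((Nat.card G : ℂ) * mS p H b y (χ : G → ℂ) (ψ : G → ℂ) / (ψ : G → ℂ) 1) *
        (((p ^ blockDefect p B * charDegree (ψ : G → ℂ) : ℕ) : ℂ) /
        ((p ^ blockHeight p B (ψ : G → ℂ) * Nat.card G : ℕ) : ℂ))) := by
  have hG : (Nat.card G : ℂ) ≠ 0 := card_ne_zero_complex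
  have h10 := irr_one_ne_zero ψ.2
  have hp0 : (p : ℂ) ≠ 0 := by exact_mod_cast hp.ne_zero
  rw [irr_one_eq] at h10 ⊢
  push_cast
  field_simp

/-- Brauer (5H): for a major subsection and `χ` of height zero, `p ^ d m_{χψ}` has valuation
exactly the height of `ψ`. -/
theorem major_unit (D : SubsecData p M H y n b B) (hd : blockDefect p b = blockDefect p B)
    {χ ψ : IrrCharacter G} (hχ : χ ∈ B) (hψ : ψ ∈ B) (h0 : blockHeight p B (χ : G → ℂ) = 0) :
    ∃ w, MemLocalRing M w ∧ ¬ MemLocalIdeal M w ∧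
      (p : ℂ) ^ blockDefect p b * mS p H b y (χ : G → ℂ) (ψ : G → ℂ)
        = (p : ℂ) ^ blockHeight p B (ψ : G → ℂ) * w := by
  have : Finite (IrrCharacter H) := finite_irrCharacter
  have : Fintype (IrrCharacter H) := Fintype.ofFinite _
  have hM := D.hM
  -- the diagonal entry at `χ` is a unit
  have h1 : ¬ MemLocalIdeal M ((p : ℂ) ^ blockDefect p b * mS p H b y (χ : G → ℂ) (χ : G → ℂ)) := by
    apply not_memLocalIdeal_of_sub hM (pow_mS_congr D χ χ)
    rw [memLocalIdeal_intCast_iff hM]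
    exact sum_aC_not_dvd H hM D.hind hχ hχ h0 h0
  rw [hd, pow_mS_eq_Omega hM.1, h0, pow_zero, one_mul] at h1
  have h2 : ¬ MemLocalIdeal M
      ((Nat.card G : ℂ) * mS p H b y (χ : G → ℂ) (χ : G → ℂ) / (χ : G → ℂ) 1) := by
    intro h
    exact h1 (memLocalIdeal_mul_right hM h (by
      have := (unit_factor (B := B) hM hχ).1
      rwa [h0] at this))
  have h3 : ¬ MemLocalIdeal M
      ((Nat.card G : ℂ) * mS p H b y (χ : G → ℂ) (ψ : G → ℂ) / (ψ : G → ℂ) 1) :=
    not_memLocalIdeal_of_sub hM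
      (Omega_sub_memLocalIdeal D χ (isPBlock_sameBlock hM D.hind.2.1 hψ hχ)) h2
  refine ⟨_, ?_, ?_, by rw [hd]; exact pow_mS_eq_Omega hM.1 χ ψ⟩
  · exact memLocalRing_mul hM (Omega_memLocalRing D χ ψ) (unit_factor hM hψ).1
  · exact not_memLocalIdeal_mul hM (Omega_memLocalRing D χ ψ) (unit_factor hM hψ).1 h3
      (unit_factor hM hψ).2

/-- for a major subsection the diagonal contribution of a character of positive height `h` has
valuation larger than `h`. -/
theorem major_diag (D : SubsecData p M H y n b B) (hd : blockDefect p b = blockDefect p B)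
    {ψ : IrrCharacter G} (hψ : ψ ∈ B) (hpos : blockHeight p B (ψ : G → ℂ) ≠ 0) :
    ∃ w, MemLocalIdeal M w ∧
      (p : ℂ) ^ blockDefect p b * mS p H b y (ψ : G → ℂ) (ψ : G → ℂ)
        = (p : ℂ) ^ blockHeight p B (ψ : G → ℂ) * w := by
  have : Finite (IrrCharacter H) := finite_irrCharacter
  have : Fintype (IrrCharacter H) := Fintype.ofFinite _
  have hM := D.hM
  obtain ⟨χ₀, hχ₀, hmin⟩ := exists_minDeg (p := p) (⟨ψ, hψ⟩ : B.Nonempty)
  have h0 : blockHeight p B (χ₀ : G → ℂ) = 0 := (blockHeight_eq_zero_iff hχ₀).2 hmin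
  obtain ⟨w, hw, _, hw2⟩ := major_unit D hd hχ₀ hψ h0
  have h1 : MemLocalIdeal M ((p : ℂ) ^ blockDefect p b * mS p H b y (χ₀ : G → ℂ) (ψ : G → ℂ)) := by
    rw [hw2]
    apply memLocalIdeal_mul_right hM _ hw
    rw [memLocalIdeal_pow_iff hM (memLocalRing_natCast hM p) hpos]
    exact memLocalIdeal_p hM
  have h2 : MemLocalIdeal M
      ((∑ i : IrrCharacter H × IrrCharacter H, aC H p b χ₀ ψ i : ℤ) : ℂ) := by
    have := memLocalIdeal_sub hM h1 (pow_mS_congr D χ₀ ψ)
    simpa using this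
  rw [sum_aC_symm hM.1] at h2
  have h3 : MemLocalIdeal M ((p : ℂ) ^ blockDefect p b * mS p H b y (ψ : G → ℂ) (χ₀ : G → ℂ)) := by
    have := memLocalIdeal_add hM (pow_mS_congr D ψ χ₀) h2
    simpa using this
  rw [hd, pow_mS_eq_Omega hM.1, h0, pow_zero, one_mul] at h3
  have huf := unit_factor (B := B) hM hχ₀
  rw [h0] at huf
  have h4 : MemLocalIdeal M
      ((Nat.card G : ℂ) * mS p H b y (ψ : G → ℂ) (χ₀ : G → ℂ) / (χ₀ : G → ℂ) 1) := by
    rcases (memLocalIdeal_mul_iff hM (Omega_memLocalRing D ψ χ₀) huf.1).1 h3 with h | h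
    · exact h
    · exact absurd h huf.2
  have h5 : MemLocalIdeal M
      ((Nat.card G : ℂ) * mS p H b y (ψ : G → ℂ) (ψ : G → ℂ) / (ψ : G → ℂ) 1) := by
    have := memLocalIdeal_add hM
      (Omega_sub_memLocalIdeal D ψ (isPBlock_sameBlock hM D.hind.2.1 hψ hχ₀)) h4
    simpa using this
  exact ⟨_, memLocalIdeal_mul_right hM h5 (unit_factor hM hψ).1,
    by rw [hd]; exact pow_mS_eq_Omega hM.1 ψ ψ⟩

end Major

end Cfsg.Agent.Lib.Helper81
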